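import Mathlib
import Cfsg.Agent.S1474
import Cfsg.Agent.S0044
import Cfsg.Agent.Helper1.Hall

/-!
Helper library (helper21): solvable CN-groups (groups in which every nonidentity element has a
nilpotent centraliser).
-/

set_option autoImplicit false

namespace Cfsg.Agent.Helper21

open Cfsg

/-- In a finite cyclic group, every element of `r`-torsion lies in the subgroup generated by any
element of order `r`. -/
theorem mem_zpowers_of_cyclic {C : Type*} [Group C] [Finite C] [IsCyclic C] (x y : C) (r : ℕ)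
    (hr : 0 < r) (hx : orderOf x = r) (hy : y ^ r = 1) : y ∈ Subgroup.zpowers x := by
  classical
  haveI := Fintype.ofFinite C
  have h1 : (Finset.univ.filter (fun a : C => a ^ r = 1)).card ≤ r :=
    IsCyclic.card_pow_eq_one_le hr
  have h2 : ((Subgroup.zpowers x : Set C).toFinset).card = r := by
    rw [Set.toFinset_card, ← Nat.card_eq_fintype_card]
    exact (Nat.card_zpowers x).trans hx
  have h3 : (Subgroup.zpowers x : Set C).toFinset ⊆
      Finset.univ.filter (fun a : C => a ^ r = 1) := by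
    intro a ha
    simp only [Set.mem_toFinset, SetLike.mem_coe] at ha
    obtain ⟨k, rfl⟩ := Subgroup.mem_zpowers_iff.mp ha
    simp only [Finset.mem_filter, Finset.mem_univ, true_and]
    rw [← zpow_natCast, ← zpow_mul, mul_comm, zpow_mul, zpow_natCast, ← hx, pow_orderOf_eq_one,
      one_zpow]
  have h4 := Finset.eq_of_subset_of_card_le h3 (by rw [h2]; exact h1)
  have h5 : y ∈ Finset.univ.filter (fun a : C => a ^ r = 1) := by simp [hy]
  rw [← h4] at h5
  simpa using h5

/-- A nontrivial group acting fixed-point-freely on a nontrivial normal subgroup has a nontrivial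
central element (the complement hypothesis of `S0069.result` is not needed). -/
theorem center_of_fix {G : Type*} [Group G] [Finite G] (K H : Subgroup G) [K.Normal]
    (hK : K ≠ ⊥) (hH : H ≠ ⊥)
    (hfix : ∀ h ∈ H, h ≠ 1 → ∀ k ∈ K, h * k = k * h → k = 1) :
    ∃ z ∈ H, z ≠ 1 ∧ ∀ h ∈ H, z * h = h * z := by
  classical
  by_cases h2 : 2 ∣ Nat.card H
  · exact Cfsg.Agent.S0069.even_case K H hK hfix h2
  · haveI : Nontrivial H := (Subgroup.nontrivial_iff_ne_bot H).mpr hH
    haveI hZ : IsZGroup H := Cfsg.Agent.S0069.zgroup K H hK hfix h2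
    obtain ⟨z, hz1, hzc⟩ := Cfsg.Agent.S0069.center_of_zgroup (Y := H) h2 (by
      intro a b p q hp hq hao hbo hnorm
      have e := Cfsg.Agent.S0069.pq_comm K H hK hfix h2 (a : G) (b : G) a.2 b.2 p q hp hq
        (by rw [Subgroup.orderOf_coe]; exact hao) (by rw [Subgroup.orderOf_coe]; exact hbo)
        (by
          obtain ⟨i, hi⟩ := Subgroup.mem_zpowers_iff.mp hnorm
          have hi' := congrArg Subtype.val hi
          exact Subgroup.mem_zpowers_iff.mpr ⟨i, by simpa using hi'⟩)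
      exact Subtype.ext e)
    refine ⟨(z : G), z.2, fun h => hz1 (Subtype.ext h), ?_⟩
    intro h hh
    exact congrArg Subtype.val (hzc ⟨h, hh⟩)

/-- Two commuting elements of the same prime order in a group acting fixed-point-freely generate
the same subgroup. -/
theorem uniq_comm {G : Type*} [Group G] [Finite G] (K H : Subgroup G) [K.Normal] (hK : K ≠ ⊥)
    (hfix : ∀ h ∈ H, h ≠ 1 → ∀ k ∈ K, h * k = k * h → k = 1)
    (x y : G) (hx : x ∈ H) (hy : y ∈ H) (r : ℕ) (hr : r.Prime) (hox : orderOf x = r)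
    (hoy : orderOf y = r) (hxy : x * y = y * x) : y ∈ Subgroup.zpowers x := by
  have hcomm : ∀ a ∈ ({x, y} : Set G), ∀ b ∈ ({x, y} : Set G), a * b = b * a := by
    intro a ha b hb
    rcases ha with rfl | rfl <;> rcases hb with rfl | rfl
    · rfl
    · exact hxy
    · exact hxy.symm
    · rfl
  haveI := Subgroup.isMulCommutative_closure hcomm
  have hAH : Subgroup.closure ({x, y} : Set G) ≤ H := by
    rw [Subgroup.closure_le]
    intro a ha
    rcases ha with rfl | rfl
    · exact hx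
    · exact hy
  have hAc : ∀ a ∈ Subgroup.closure ({x, y} : Set G), ∀ b ∈ Subgroup.closure ({x, y} : Set G),
      a * b = b * a := by
    intro a ha b hb
    exact congrArg Subtype.val (mul_comm' (⟨a, ha⟩ : Subgroup.closure ({x, y} : Set G)) ⟨b, hb⟩)
  haveI := Cfsg.Agent.S0069.abelian_cyclic K H hK hfix _ hAH hAc
  have hxm : x ∈ Subgroup.closure ({x, y} : Set G) := Subgroup.subset_closure (by simp)
  have hym : y ∈ Subgroup.closure ({x, y} : Set G) := Subgroup.subset_closure (by simp)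
  have h1 := mem_zpowers_of_cyclic (C := Subgroup.closure ({x, y} : Set G)) ⟨x, hxm⟩ ⟨y, hym⟩ r
    hr.pos (by rw [Subgroup.orderOf_mk]; exact hox)
    (Subtype.ext (by
      show y ^ r = 1
      rw [← hoy]; exact pow_orderOf_eq_one y))
  obtain ⟨k, hk⟩ := Subgroup.mem_zpowers_iff.mp h1
  exact Subgroup.mem_zpowers_iff.mpr ⟨k, by simpa using congrArg Subtype.val hk⟩

/-- In a nilpotent group acting fixed-point-freely, two elements of the same prime order generate
the same subgroup. -/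
theorem uniq_nilp {G : Type*} [Group G] [Finite G] (K H : Subgroup G) [K.Normal] (hK : K ≠ ⊥)
    (hfix : ∀ h ∈ H, h ≠ 1 → ∀ k ∈ K, h * k = k * h → k = 1) (hnil : Group.IsNilpotent H)
    (x y : G) (hx : x ∈ H) (hy : y ∈ H) (r : ℕ) (hr : r.Prime) (hox : orderOf x = r)
    (hoy : orderOf y = r) : y ∈ Subgroup.zpowers x := by
  haveI := Fact.mk hr
  obtain ⟨T, hTH, hTp, hTall⟩ := Cfsg.Agent.Helper8.exists_sylow_of_nilpotent H hnil r
  have hxT : x ∈ T := hTall x hx ⟨1, by rw [pow_one, ← hox]; exact pow_orderOf_eq_one x⟩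
  have hyT : y ∈ T := hTall y hy ⟨1, by rw [pow_one, ← hoy]; exact pow_orderOf_eq_one y⟩
  have hx1 : x ≠ 1 := by
    intro h0; rw [h0, orderOf_one] at hox; exact hr.one_lt.ne hox
  have hTne : T ≠ ⊥ := by
    intro h0; rw [h0, Subgroup.mem_bot] at hxT; exact hx1 hxT
  obtain ⟨z, hzT, hz1, hzc⟩ := Cfsg.Agent.Helper8.exists_central_of_pgroup T hTp hTne
  obtain ⟨j, hj⟩ := Cfsg.Agent.Helper8.pelem_of_mem hTp hzT
  have hrz : r ∣ orderOf z := by
    obtain ⟨i, -, hi⟩ := (Nat.dvd_prime_pow hr).mp (orderOf_dvd_of_pow_eq_one hj)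
    rcases Nat.eq_zero_or_pos i with h0 | h0
    · rw [h0, pow_zero, orderOf_eq_one_iff] at hi
      exact absurd hi hz1
    · rw [hi]; exact dvd_pow_self r h0.ne'
  obtain ⟨z', hz'⟩ : ∃ z' : G, z' = z ^ (orderOf z / r) := ⟨_, rfl⟩
  have hoz' : orderOf z' = r := by
    rw [hz']; exact orderOf_pow_orderOf_div (orderOf_pos z).ne' hrz
  have hz'T : z' ∈ T := by rw [hz']; exact T.pow_mem hzT _
  have hz'c : ∀ s ∈ T, s * z' = z' * s := by
    intro s hs
    rw [hz']
    exact ((show Commute s z from hzc s hs).pow_right _).eq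
  have h1 : z' ∈ Subgroup.zpowers x :=
    uniq_comm K H hK hfix x z' hx (hTH hz'T) r hr hox hoz' (hz'c x hxT)
  have h2 : y ∈ Subgroup.zpowers z' :=
    uniq_comm K H hK hfix z' y (hTH hz'T) hy r hr hoz' hoy (hz'c y hyT).symm
  exact (Subgroup.zpowers_le.mpr h1) h2

/-- Subgroups of CN-groups are CN-groups. -/
theorem cn_subgroup {G : Type*} [Group G] (hCN : Cfsg.IsCNGroup G) (N : Subgroup G) :
    Cfsg.IsCNGroup N := by
  intro g hg
  have hg' : (g : G) ≠ 1 := fun h => hg (Subtype.ext h)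
  have h1 := hCN (g : G) hg'
  have hle : (Subgroup.centralizer ({g} : Set N)).map N.subtype ≤
      Subgroup.centralizer ({(g : G)} : Set G) := by
    rintro _ ⟨x, hx, rfl⟩
    have hx' := Subgroup.mem_centralizer_singleton_iff.mp hx
    rw [Subgroup.mem_centralizer_singleton_iff]
    exact congrArg Subtype.val hx'
  have h2 := Cfsg.Agent.S1474.nilpotent_of_le hle h1
  haveI := h2
  exact Group.nilpotent_of_mulEquiv
    ((Subgroup.centralizer ({g} : Set N)).equivMapOfInjective N.subtype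
      N.subtype_injective).symm

theorem orderOf_conj' {G : Type*} [Group G] (g x : G) : orderOf (g * x * g⁻¹) = orderOf x :=
  (SemiconjBy.orderOf_eq g (show SemiconjBy g x (g * x * g⁻¹) by simp [SemiconjBy])).symm

/-- Key lemma on the complement `N` of `O_p(G)` in a solvable CN-group: a nilpotent Hall
`p'`-subgroup `N₀` of `N` with unique subgroups of prime order is normal, contains the
centraliser of each of its nonidentity elements, and has odd order unless it is all of `N`. -/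
theorem lemmaB {N : Type*} [Group N] [Finite N] [Group.IsSolvable N] (hCN : Cfsg.IsCNGroup N)
    (p : ℕ) [Fact p.Prime]
    (hOp : ∀ V : Subgroup N, V.Normal → IsPGroup p V → V = ⊥)
    (N₀ : Subgroup N) (hnil : Group.IsNilpotent N₀) (hcop : (Nat.card N₀).Coprime p)
    (k : ℕ) (hidx : N₀.index = p ^ k) (hne : N₀ ≠ ⊥)
    (huniq : ∀ x ∈ N₀, ∀ y ∈ N₀, ∀ r : ℕ, r.Prime → orderOf x = r → orderOf y = r →
      y ∈ Subgroup.zpowers x) :
    N₀.Normal ∧ (∀ x : N, ∀ a ∈ N₀, a ≠ 1 → x * a = a * x → x ∈ N₀) ∧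
      (2 ∣ Nat.card N₀ → N₀ = ⊤) := by
  have hp : p.Prime := Fact.out
  obtain ⟨F, hFdef⟩ : ∃ F : Subgroup N, F = Cfsg.fittingSubgroup N := ⟨_, rfl⟩
  have hFn : F.Normal := hFdef ▸ Cfsg.Agent.Helper1.fitting_normal N
  have hFnil : Group.IsNilpotent F := hFdef ▸ Cfsg.Agent.Helper1.fitting_isNilpotent
  have hCF : Subgroup.centralizer (F : Set N) ≤ F := hFdef ▸ Cfsg.Agent.S0044.result
  have hFcop : (Nat.card F).Coprime p := by
    rw [Nat.coprime_comm, Nat.Prime.coprime_iff_not_dvd hp]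
    intro hdvd
    obtain ⟨T, hTF, hTp, hTall⟩ := Cfsg.Agent.Helper8.exists_sylow_of_nilpotent F hFnil p
    have hTn : T.Normal := by
      constructor
      intro x hx g
      obtain ⟨j, hj⟩ := Cfsg.Agent.Helper8.pelem_of_mem hTp hx
      exact hTall _ (hFn.conj_mem x (hTF hx) g) ⟨j, by rw [conj_pow, hj]; simp⟩
    have hT := hOp T hTn hTp
    obtain ⟨x, hx⟩ := exists_prime_orderOf_dvd_card' (G := F) p hdvd
    have hxo : orderOf (x : N) = p := by rw [Subgroup.orderOf_coe]; exact hx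
    have hxT : (x : N) ∈ T :=
      hTall x x.2 ⟨1, by rw [pow_one, ← hxo]; exact pow_orderOf_eq_one _⟩
    rw [hT, Subgroup.mem_bot] at hxT
    rw [hxT, orderOf_one] at hxo
    exact hp.one_lt.ne hxo
  have hFN : F ≤ N₀ := by
    have h1 : (Nat.card (N₀ ⊔ F : Subgroup N)).Coprime p :=
      Cfsg.Agent.Helper23.coprime_card_sup p N₀ F hcop hFcop
    have h2 : N₀.relIndex (N₀ ⊔ F) ∣ p ^ k := hidx ▸ Subgroup.relIndex_dvd_index_of_le le_sup_left
    have h3 : N₀.relIndex (N₀ ⊔ F) ∣ Nat.card (N₀ ⊔ F : Subgroup N) :=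
      Subgroup.relIndex_dvd_card _ _
    have h4 : N₀.relIndex (N₀ ⊔ F) = 1 :=
      Nat.eq_one_of_dvd_coprimes (Nat.Coprime.pow_right k h1) h3 h2
    exact le_trans le_sup_right (Subgroup.relIndex_eq_one.mp h4)
  haveI : Nontrivial N₀ := (Subgroup.nontrivial_iff_ne_bot N₀).mpr hne
  haveI := hnil
  have hZ : Subgroup.center N₀ ≠ ⊥ := Group.IsNilpotent.center_ne_bot _
  obtain ⟨z₀, hz₀⟩ := (Subgroup.ne_bot_iff_exists_ne_one).mp hZ
  have hz₀' : ((z₀ : N₀) : N) ≠ 1 := fun h => hz₀ (Subtype.ext (Subtype.ext h))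
  obtain ⟨r, hr, hrz⟩ := Nat.exists_prime_and_dvd (n := orderOf ((z₀ : N₀) : N))
    (by rwa [Ne, orderOf_eq_one_iff])
  obtain ⟨w, hwdef⟩ : ∃ w : N, w = ((z₀ : N₀) : N) ^ (orderOf ((z₀ : N₀) : N) / r) := ⟨_, rfl⟩
  have how : orderOf w = r := by
    rw [hwdef]; exact orderOf_pow_orderOf_div (orderOf_pos _).ne' hrz
  have hwN : w ∈ N₀ := by rw [hwdef]; exact N₀.pow_mem (z₀ : N₀).2 _
  have hwc : ∀ y ∈ N₀, w * y = y * w := by
    intro y hy
    have h1 := Subgroup.mem_center_iff.mp z₀.2 ⟨y, hy⟩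
    have h2 : y * ((z₀ : N₀) : N) = ((z₀ : N₀) : N) * y := congrArg Subtype.val h1
    rw [hwdef]
    exact ((show Commute y ((z₀ : N₀) : N) from h2).pow_right _).eq.symm
  have hw1 : w ≠ 1 := by
    intro h0; rw [h0, orderOf_one] at how; exact hr.one_lt.ne how
  have hwF : w ∈ F := hCF (by
    rw [Subgroup.mem_centralizer_iff]
    intro y hy
    exact (hwc y (hFN hy)).symm)
  have hrp : r ≠ p := by
    rintro rfl
    have : r ∣ Nat.card N₀ := by
      have := orderOf_dvd_natCard (⟨w, hwN⟩ : N₀)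
      rwa [Subgroup.orderOf_mk, how] at this
    exact (Nat.Prime.coprime_iff_not_dvd hr).mp hcop.symm this
  have hcardN : Nat.card N = Nat.card N₀ * p ^ k := by
    rw [← hidx]; exact (Subgroup.card_mul_index N₀).symm
  have hCw : Subgroup.centralizer ({w} : Set N) ≤ N₀ := by
    have hN₀C : N₀ ≤ Subgroup.centralizer ({w} : Set N) :=
      fun y hy => Cfsg.Agent.Helper8.mem_cent.mpr (hwc y hy)
    have hCcop : (Nat.card (Subgroup.centralizer ({w} : Set N))).Coprime p := by
      rw [Nat.coprime_comm, Nat.Prime.coprime_iff_not_dvd hp]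
      intro hdvd
      obtain ⟨x, hx⟩ :=
        exists_prime_orderOf_dvd_card' (G := Subgroup.centralizer ({w} : Set N)) p hdvd
      have hxo : orderOf (x : N) = p := by rw [Subgroup.orderOf_coe]; exact hx
      have hxw : w * (x : N) = (x : N) * w := Cfsg.Agent.Helper8.mem_cent.mp x.2
      have hxF : (x : N) ∈ F := hCF (by
        rw [Subgroup.mem_centralizer_iff]
        intro y hy
        refine Cfsg.Agent.S1474.cn_comm hCN hw1 (hwc y (hFN hy)) hxw ?_
        rw [hxo]
        exact Nat.Coprime.coprime_dvd_left (Subgroup.orderOf_dvd_natCard N₀ (hFN hy)) hcop)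
      have : p ∣ Nat.card F := by
        have := Subgroup.orderOf_dvd_natCard F hxF
        rwa [hxo] at this
      exact (Nat.Prime.coprime_iff_not_dvd hp).mp hFcop.symm this
    have h2 : N₀.relIndex (Subgroup.centralizer ({w} : Set N)) ∣ p ^ k :=
      hidx ▸ Subgroup.relIndex_dvd_index_of_le hN₀C
    have h3 : N₀.relIndex (Subgroup.centralizer ({w} : Set N)) ∣
        Nat.card (Subgroup.centralizer ({w} : Set N)) := Subgroup.relIndex_dvd_card _ _
    have h4 := Nat.eq_one_of_dvd_coprimes (Nat.Coprime.pow_right k hCcop) h3 h2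
    exact Subgroup.relIndex_eq_one.mp h4
  have hconj : ∀ g : N, ∃ j : ℤ, w = g * w ^ j * g⁻¹ := by
    intro g
    have h1 : g * w * g⁻¹ ∈ N₀ := hFN (hFn.conj_mem w hwF g)
    have h2 : orderOf (g * w * g⁻¹) = r := by rw [orderOf_conj', how]
    have h3 := huniq (g * w * g⁻¹) h1 w hwN r hr h2 how
    obtain ⟨j, hj⟩ := Subgroup.mem_zpowers_iff.mp h3
    exact ⟨j, hj.symm.trans conj_zpow⟩
  have hnorm : N₀.Normal := by
    constructor
    intro n hn g
    apply hCw
    rw [Cfsg.Agent.Helper8.mem_cent]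
    obtain ⟨j, hj⟩ := hconj g
    have h1 : w ^ j * n = n * w ^ j := ((show Commute w n from hwc n hn).zpow_left j).eq
    calc w * (g * n * g⁻¹) = g * w ^ j * g⁻¹ * (g * n * g⁻¹) :=
          congrArg (fun t => t * (g * n * g⁻¹)) hj
      _ = g * (w ^ j * n) * g⁻¹ := by group
      _ = g * (n * w ^ j) * g⁻¹ := by rw [h1]
      _ = (g * n * g⁻¹) * (g * w ^ j * g⁻¹) := by group
      _ = (g * n * g⁻¹) * w := congrArg (fun t => (g * n * g⁻¹) * t) hj.symm
  have hc2 : ∀ x : N, ∀ a ∈ N₀, a ≠ 1 → x * a = a * x → x ∈ N₀ := by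
    intro x a ha ha1 hxa
    obtain ⟨t, ht⟩ : ∃ t : N, t = x ^ Nat.card N₀ := ⟨_, rfl⟩
    have htp : t ^ (p ^ k) = 1 := by
      rw [ht, ← pow_mul, ← hcardN]; exact pow_card_eq_one'
    have hta : a * t = t * a := by
      rw [ht]; exact ((show Commute a x from hxa.symm).pow_right _).eq
    have htw : t * w = w * t := by
      refine Cfsg.Agent.S1474.cn_comm hCN ha1 hta (hwc a ha).symm ?_
      rw [how]
      exact Nat.Coprime.coprime_dvd_left (orderOf_dvd_of_pow_eq_one htp)
        (Nat.Coprime.pow_left k ((Nat.coprime_primes hp hr).mpr hrp.symm))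
    have htN : t ∈ N₀ := hCw (Cfsg.Agent.Helper8.mem_cent.mpr htw.symm)
    have ht1 : t = 1 := by
      have h1 : orderOf t ∣ Nat.card N₀ := Subgroup.orderOf_dvd_natCard N₀ htN
      have h2 : orderOf t ∣ p ^ k := orderOf_dvd_of_pow_eq_one htp
      exact orderOf_eq_one_iff.mp
        (Nat.eq_one_of_dvd_coprimes (Nat.Coprime.pow_right k hcop) h1 h2)
    refine Cfsg.Agent.Helper23.mem_of_pow_mem_of_coprime (a := Nat.card N₀) (b := p ^ k)
      (Nat.Coprime.pow_right k hcop) ?_ ?_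
    · rw [← ht, ht1]; exact N₀.one_mem
    · rw [← hidx]; exact N₀.pow_index_mem x
  refine ⟨hnorm, hc2, ?_⟩
  intro h2
  haveI : Fact (Nat.Prime 2) := ⟨Nat.prime_two⟩
  obtain ⟨t₀, ht₀⟩ := exists_prime_orderOf_dvd_card' (G := N₀) 2 h2
  have ht₀o : orderOf (t₀ : N) = 2 := by rw [Subgroup.orderOf_coe]; exact ht₀
  have ht₀1 : (t₀ : N) ≠ 1 := by
    intro h0; rw [h0, orderOf_one] at ht₀o; omega
  rw [eq_top_iff]
  intro x _
  apply hc2 x (t₀ : N) t₀.2 ht₀1
  have h1 : x * (t₀ : N) * x⁻¹ ∈ N₀ := hnorm.conj_mem _ t₀.2 x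
  have h2' : orderOf (x * (t₀ : N) * x⁻¹) = 2 := by rw [orderOf_conj', ht₀o]
  have h3 := huniq (t₀ : N) t₀.2 (x * t₀ * x⁻¹) h1 2 Nat.prime_two ht₀o h2'
  obtain ⟨j, hj⟩ := Subgroup.mem_zpowers_iff.mp h3
  have hj' : (t₀ : N) ^ (j % 2) = x * (t₀ : N) * x⁻¹ := by
    have := zpow_mod_orderOf (t₀ : N) j
    rw [ht₀o] at this
    rw [← hj]; exact this
  rcases Int.emod_two_eq_zero_or_one j with hj0 | hj1
  · exfalso
    rw [hj0, zpow_zero] at hj'
    have : (t₀ : N) = 1 := by
      have h4 : x⁻¹ * (x * (t₀ : N) * x⁻¹) * x = (t₀ : N) := by group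
      rw [← h4, ← hj']; group
    exact ht₀1 this
  · rw [hj1, zpow_one] at hj'
    calc x * (t₀ : N) = (x * (t₀ : N) * x⁻¹) * x := by group
      _ = (t₀ : N) * x := by rw [← hj']

end Cfsg.Agent.Helper21
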