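import Mathlib
import Cfsg.Agent.Helper21.CNGroup

/-!
Helper library (helper21): the three-step case of the classification of solvable CN-groups.
-/

set_option autoImplicit false

namespace Cfsg.Agent.Helper21

open Cfsg

/-- A Sylow subgroup inside a normal nilpotent subgroup is normal. -/
theorem sylow_normal_of_le_nilpotent {G : Type*} [Group G] [Finite G] {D : Subgroup G}
    (hDn : D.Normal) (hDnil : Group.IsNilpotent D) (p : ℕ) [Fact p.Prime] (S : Sylow p G)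
    (hSD : (S : Subgroup G) ≤ D) : (S : Subgroup G).Normal := by
  obtain ⟨T, hTC, hTp, hTall⟩ := Cfsg.Agent.Helper8.exists_sylow_of_nilpotent D hDnil p
  have hTn : T.Normal := by
    constructor
    intro x hx g
    obtain ⟨k, hk⟩ := Cfsg.Agent.Helper8.pelem_of_mem hTp hx
    exact hTall _ (hDn.conj_mem x (hTC hx) g) ⟨k, by rw [conj_pow, hk]; simp⟩
  have hRT : (S : Subgroup G) ≤ T :=
    fun y hy => hTall y (hSD hy) (Cfsg.Agent.Helper8.pelem_of_mem S.2 hy)
  have hTR : T = (S : Subgroup G) := S.is_maximal' hTp hRT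
  exact hTR ▸ hTn

/-- In a CN-group without nontrivial normal Sylow subgroups, at most one `O_p(G)` is
nontrivial. -/
theorem unique_pCore {G : Type*} [Group G] [Finite G] (hCN : Cfsg.IsCNGroup G)
    (hnS : ∀ (p : ℕ) [Fact p.Prime] (S : Sylow p G), (S : Subgroup G).Normal →
      (S : Subgroup G) = ⊥)
    (p q : ℕ) (hp : p.Prime) (hq : q.Prime) (hpq : p ≠ q) (hP : Cfsg.pCore p G ≠ ⊥) :
    Cfsg.pCore q G = ⊥ := by
  by_contra hQ
  haveI := Fact.mk hp
  haveI := Fact.mk hq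
  obtain ⟨S⟩ : Nonempty (Sylow p G) := inferInstance
  have hPS : Cfsg.pCore p G ≤ S :=
    Cfsg.Agent.Helper23.le_sylow_of_normal (Cfsg.Agent.Helper1.pCore_normal p G)
      (Cfsg.Agent.Helper1.pCore_isPGroup p G) S
  have hSne : (S : Subgroup G) ≠ ⊥ := fun h => hP (le_bot_iff.mp (h ▸ hPS))
  obtain ⟨z, hzS, hz1, hzc⟩ :=
    Cfsg.Agent.Helper8.exists_central_of_pgroup (S : Subgroup G) S.2 hSne
  obtain ⟨u0, hu0⟩ := (Subgroup.ne_bot_iff_exists_ne_one).mp hP
  have hu1 : (u0 : G) ≠ 1 := fun h => hu0 (Subtype.ext h)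
  obtain ⟨w0, hw0⟩ := (Subgroup.ne_bot_iff_exists_ne_one).mp hQ
  have hw01 : (w0 : G) ≠ 1 := fun h => hw0 (Subtype.ext h)
  have hSo : ∀ s ∈ (S : Subgroup G), ∃ k : ℕ, orderOf s ∣ p ^ k := by
    intro s hs
    obtain ⟨k, hk⟩ := Cfsg.Agent.Helper8.pelem_of_mem S.2 hs
    exact ⟨k, orderOf_dvd_of_pow_eq_one hk⟩
  have hQo : ∀ w ∈ Cfsg.pCore q G, ∃ k : ℕ, orderOf w ∣ q ^ k := by
    intro w hw
    obtain ⟨k, hk⟩ := Cfsg.Agent.Helper8.pelem_of_mem (Cfsg.Agent.Helper1.pCore_isPGroup q G) hw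
    exact ⟨k, orderOf_dvd_of_pow_eq_one hk⟩
  have hcop : ∀ a b : ℕ, (p ^ a).Coprime (q ^ b) := fun a b =>
    Nat.Coprime.pow _ _ ((Nat.coprime_primes hp hq).mpr hpq)
  have hcop' : ∀ s ∈ (S : Subgroup G), ∀ w ∈ Cfsg.pCore q G,
      (orderOf s).Coprime (orderOf w) := by
    intro s hs w hw
    obtain ⟨a, ha⟩ := hSo s hs
    obtain ⟨b, hb⟩ := hQo w hw
    exact Nat.Coprime.coprime_dvd_left ha (Nat.Coprime.coprime_dvd_right hb (hcop a b))
  have huw : ∀ w ∈ Cfsg.pCore q G, (u0 : G) * w = w * u0 := by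
    intro w hw
    exact Cfsg.Agent.Helper8.comm_of_coprime_sub (Cfsg.fittingSubgroup G)
      Cfsg.Agent.Helper1.fitting_isNilpotent (Cfsg.Agent.Helper1.pCore_le_fitting p u0.2)
      (Cfsg.Agent.Helper1.pCore_le_fitting q hw) (hcop' _ (hPS u0.2) w hw)
  have hzw : ∀ w ∈ Cfsg.pCore q G, z * w = w * z := by
    intro w hw
    exact Cfsg.Agent.S1474.cn_comm hCN hu1 (hzc u0 (hPS u0.2)) (huw w hw) (hcop' z hzS w hw)
  have hsw : ∀ s ∈ (S : Subgroup G), ∀ w ∈ Cfsg.pCore q G, w * s = s * w := by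
    intro s hs w hw
    exact (Cfsg.Agent.S1474.cn_comm hCN hz1 (hzc s hs).symm (hzw w hw) (hcop' s hs w hw)).symm
  haveI := Cfsg.Agent.Helper1.pCore_normal q G
  have hDn : (Subgroup.centralizer (Cfsg.pCore q G : Set G)).Normal := inferInstance
  have hDnil : Group.IsNilpotent (Subgroup.centralizer (Cfsg.pCore q G : Set G)) :=
    Cfsg.Agent.S1474.nilpotent_of_le (Subgroup.centralizer_le (by simp))
      (hCN (w0 : G) hw01)
  have hSD : (S : Subgroup G) ≤ Subgroup.centralizer (Cfsg.pCore q G : Set G) := by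
    intro s hs
    rw [Subgroup.mem_centralizer_iff]
    intro w hw
    exact hsw s hs w hw
  exact hSne (hnS p S (sylow_normal_of_le_nilpotent hDn hDnil p S hSD))

/-- Every `p'`-element of a CN-group acts fixed-point-freely on a nontrivial self-centralising
normal `p`-subgroup. -/
theorem fix_of_self_centralizing {G : Type*} [Group G] [Finite G] (hCN : Cfsg.IsCNGroup G)
    (p : ℕ) [Fact p.Prime] (P : Subgroup G) (hPp : IsPGroup p P) (hP1 : P ≠ ⊥)
    (hCP : Subgroup.centralizer (P : Set G) ≤ P) :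
    ∀ y : G, (orderOf y).Coprime p → y ≠ 1 → ∀ x ∈ P, y * x = x * y → x = 1 := by
  intro y hy hy1 x hx hyx
  by_contra hx1
  obtain ⟨z, hzP, hz1, hzc⟩ := Cfsg.Agent.Helper8.exists_central_of_pgroup P hPp hP1
  have hPo : ∀ u ∈ P, ∃ k : ℕ, orderOf u ∣ p ^ k := fun u hu => by
    obtain ⟨k, hk⟩ := Cfsg.Agent.Helper8.pelem_of_mem hPp hu
    exact ⟨k, orderOf_dvd_of_pow_eq_one hk⟩
  have h1 : y * z = z * y := by
    obtain ⟨k, hk⟩ := hPo z hzP
    exact Cfsg.Agent.S1474.cn_comm hCN hx1 hyx.symm (hzc x hx)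
      (Nat.Coprime.coprime_dvd_right hk (Nat.Coprime.pow_right k hy))
  have h2 : y ∈ Subgroup.centralizer (P : Set G) := by
    rw [Subgroup.mem_centralizer_iff]
    intro u hu
    obtain ⟨k, hk⟩ := hPo u hu
    exact (Cfsg.Agent.S1474.cn_comm hCN hz1 h1.symm (hzc u hu).symm
      (Nat.Coprime.coprime_dvd_right hk (Nat.Coprime.pow_right k hy))).symm
  obtain ⟨k, hk⟩ := hPo y (hCP h2)
  exact hy1 (orderOf_eq_one_iff.mp
    (Nat.eq_one_of_dvd_coprimes (Nat.Coprime.pow_right k hy) dvd_rfl hk))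

/-- A complement `N` to `P = O_p(G)` in a solvable group: the normaliser of a Sylow subgroup
of the preimage of a minimal normal subgroup of `G/P`. -/
theorem exists_compl_of_fix {G : Type*} [Group G] [Finite G] [Group.IsSolvable G]
    (p : ℕ) [Fact p.Prime] (P : Subgroup G) [hPn : P.Normal] (hPp : IsPGroup p P)
    (hmax : ∀ V : Subgroup G, V.Normal → IsPGroup p V → V ≤ P) (hPtop : P ≠ ⊤)
    (hfixP : ∀ y : G, (orderOf y).Coprime p → y ≠ 1 → ∀ x ∈ P, y * x = x * y → x = 1) :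
    (∀ V : Subgroup (G ⧸ P), V.Normal → IsPGroup p V → V = ⊥) ∧
    ∃ N : Subgroup G, N ⊔ P = ⊤ ∧ N ⊓ P = ⊥ := by
  have hp : p.Prime := Fact.out
  have hQ : ∀ V : Subgroup (G ⧸ P), V.Normal → IsPGroup p V → V = ⊥ := by
    intro V hVn hVp
    have h1 : IsPGroup p (V.comap (QuotientGroup.mk' P)) :=
      hVp.comap_of_ker_isPGroup _ (by rw [QuotientGroup.ker_mk']; exact hPp)
    have h2 : V.comap (QuotientGroup.mk' P) ≤ P := hmax _ (hVn.comap _) h1
    rw [eq_bot_iff]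
    intro x hx
    obtain ⟨g, rfl⟩ := QuotientGroup.mk'_surjective P x
    rw [Subgroup.mem_bot]
    exact (QuotientGroup.eq_one_iff g).mpr (h2 hx)
  refine ⟨hQ, ?_⟩
  haveI : Nontrivial (G ⧸ P) := by
    by_contra hnt
    rw [not_nontrivial_iff_subsingleton] at hnt
    exact hPtop (QuotientGroup.subgroup_eq_top_of_subsingleton P hnt)
  obtain ⟨M, r, k, hMn, -, hr, hk, hMc⟩ := Cfsg.Agent.Helper1.minimal_normal_data (G := G ⧸ P)
  haveI := Fact.mk hr
  have hrp : p ≠ r := by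
    rintro rfl
    have h1 := hQ M hMn (IsPGroup.of_card hMc)
    rw [h1, Subgroup.card_bot] at hMc
    exact (Nat.one_lt_pow hk.ne' hp.one_lt).ne hMc
  obtain ⟨L, hLdef⟩ : ∃ L : Subgroup G, L = M.comap (QuotientGroup.mk' P) := ⟨_, rfl⟩
  haveI hLn : L.Normal := hLdef ▸ hMn.comap _
  have hLc : Nat.card L = Nat.card P * r ^ k := by
    rw [hLdef, Cfsg.Agent.Helper1.card_comap_mk, hMc]
  have hPL : P ≤ L := by
    rw [hLdef]
    intro x hx
    rw [Subgroup.mem_comap]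
    have : (QuotientGroup.mk' P) x = 1 := (QuotientGroup.eq_one_iff x).mpr hx
    rw [this]; exact M.one_mem
  obtain ⟨R'⟩ : Nonempty (Sylow r L) := inferInstance
  obtain ⟨R, hRdef⟩ : ∃ R : Subgroup G, R = (R' : Subgroup L).map L.subtype := ⟨_, rfl⟩
  have hfrat : Subgroup.normalizer (R : Set G) ⊔ L = ⊤ := by
    rw [hRdef]; exact Sylow.normalizer_sup_eq_top R'
  have hRp : IsPGroup r R := by rw [hRdef]; exact R'.2.map _
  have hRL : R ≤ L := by rw [hRdef]; exact Subgroup.map_subtype_le _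
  have hRsub : R.subgroupOf L = (R' : Subgroup L) := by
    rw [hRdef]
    exact Subgroup.comap_map_eq_self_of_injective L.subtype_injective _
  have hRidx : ¬ r ∣ R.relIndex L := by
    rw [Subgroup.relIndex, hRsub]
    exact R'.not_dvd_index
  have hPidx : P.relIndex L = r ^ k := by
    have h1 := Cfsg.Agent.Helper23.card_eq_card_mul_relIndex hPL
    rw [hLc] at h1
    exact (Nat.eq_of_mul_eq_mul_left Nat.card_pos h1).symm
  have hRne : R ≠ ⊥ := by
    intro h0
    apply hRidx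
    rw [h0, Subgroup.relIndex_bot_left, hLc]
    exact Dvd.dvd.mul_left (dvd_pow_self r hk.ne') _
  have hLle : L ≤ P ⊔ R := by
    have h1 : (P ⊔ R).relIndex L ∣ r ^ k := hPidx ▸ Subgroup.relIndex_dvd_of_le_left L le_sup_left
    have h2 : (P ⊔ R).relIndex L ∣ R.relIndex L := Subgroup.relIndex_dvd_of_le_left L le_sup_right
    obtain ⟨i, -, hi⟩ := (Nat.dvd_prime_pow hr).mp h1
    rcases Nat.eq_zero_or_pos i with h0 | h0
    · rw [h0, pow_zero] at hi
      exact Subgroup.relIndex_eq_one.mp hi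
    · exfalso
      apply hRidx
      exact dvd_trans (hi ▸ dvd_pow_self r h0.ne') h2
  refine ⟨Subgroup.normalizer (R : Set G), ?_, ?_⟩
  · rw [eq_top_iff, ← hfrat]
    apply sup_le le_sup_left
    apply le_trans hLle
    exact sup_le le_sup_right (le_trans Subgroup.le_normalizer le_sup_left)
  · rw [eq_bot_iff]
    intro x hx
    rw [Subgroup.mem_inf] at hx
    rw [Subgroup.mem_bot]
    obtain ⟨y0, hy0⟩ := (Subgroup.ne_bot_iff_exists_ne_one).mp hRne
    have hy1 : (y0 : G) ≠ 1 := fun h => hy0 (Subtype.ext h)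
    have hdisj : P ⊓ R = ⊥ := (IsPGroup.disjoint_of_ne p r hrp P R hPp hRp).eq_bot
    have hcomm : ∀ y ∈ R, y * x = x * y := by
      intro y hy
      have h1 : x * y * x⁻¹ * y⁻¹ ∈ R :=
        R.mul_mem ((Subgroup.mem_normalizer_iff.mp hx.1 y).mp hy) (R.inv_mem hy)
      have h2 : x * y * x⁻¹ * y⁻¹ ∈ P := by
        have h3 : x * (y * x⁻¹ * y⁻¹) ∈ P :=
          P.mul_mem hx.2 (hPn.conj_mem _ (P.inv_mem hx.2) y)
        have h4 : x * y * x⁻¹ * y⁻¹ = x * (y * x⁻¹ * y⁻¹) := by group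
        rw [h4]; exact h3
      have h5 : x * y * x⁻¹ * y⁻¹ ∈ P ⊓ R := ⟨h2, h1⟩
      rw [hdisj, Subgroup.mem_bot] at h5
      calc y * x = (x * y * x⁻¹ * y⁻¹)⁻¹ * (x * y) := by group
        _ = x * y := by rw [h5]; group
    obtain ⟨j, hj⟩ := Cfsg.Agent.Helper8.pelem_of_mem hRp y0.2
    have hyo : (orderOf (y0 : G)).Coprime p :=
      Nat.Coprime.coprime_dvd_left (orderOf_dvd_of_pow_eq_one hj)
        (Nat.Coprime.pow_left j ((Nat.coprime_primes hr hp).mpr (Ne.symm hrp)))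
    exact hfixP (y0 : G) hyo hy1 x hx.2 (hcomm y0 y0.2)

/-- The three-step structure of a solvable CN-group `G` in which `P = O_p(G)` is a nontrivial
self-centralising normal `p`-subgroup that is not a Sylow subgroup. -/
theorem three_step_aux {G : Type*} [Group G] [Finite G] [Group.IsSolvable G]
    (hCN : Cfsg.IsCNGroup G) (p : ℕ) [Fact p.Prime] (P : Subgroup G) [hPn : P.Normal]
    (hPp : IsPGroup p P) (hP1 : P ≠ ⊥) (hCP : Subgroup.centralizer (P : Set G) ≤ P)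
    (hmax : ∀ V : Subgroup G, V.Normal → IsPGroup p V → V ≤ P) (hnSyl : p ∣ P.index) :
    ∃ A : Subgroup G, A ≠ ⊥ ∧ IsCyclic A ∧ Odd (Nat.card A) ∧ (Nat.card A).Coprime p ∧
      (P ⊔ A).Normal ∧ P ⊔ A ≠ ⊤ ∧ (∃ n : ℕ, (P ⊔ A).index = p ^ n) ∧
      (∀ a ∈ A, a ≠ 1 → P ⊓ Subgroup.centralizer ({a} : Set G) = ⊥) ∧
      ∀ x : G, x ∉ P ⊔ A → ∀ a ∈ A, a ≠ 1 → x * a * x⁻¹ * a⁻¹ ∉ P := by
  have hp : p.Prime := Fact.out
  have hPtop : P ≠ ⊤ := by
    intro h0
    rw [h0, Subgroup.index_top] at hnSyl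
    exact hp.one_lt.ne' (Nat.dvd_one.mp hnSyl)
  have hfixP := fix_of_self_centralizing hCN p P hPp hP1 hCP
  obtain ⟨hQ, N, hNP, hNP'⟩ := exists_compl_of_fix p P hPp hmax hPtop hfixP
  obtain ⟨φ, hφ⟩ : ∃ φ : N →* G ⧸ P, ∀ n : N, φ n = QuotientGroup.mk' P (n : G) :=
    ⟨(QuotientGroup.mk' P).comp N.subtype, fun n => rfl⟩
  have hφinj : Function.Injective φ := by
    rw [injective_iff_map_eq_one]
    intro n hn
    rw [hφ] at hn
    have h1 : (n : G) ∈ P := (QuotientGroup.eq_one_iff _).mp hn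
    have h2 : (n : G) ∈ N ⊓ P := ⟨n.2, h1⟩
    rw [hNP', Subgroup.mem_bot] at h2
    exact Subtype.ext h2
  have hφsurj : Function.Surjective φ := by
    intro y
    obtain ⟨g, rfl⟩ := QuotientGroup.mk'_surjective P y
    have hg : g ∈ ((N ⊔ P : Subgroup G) : Set G) := by rw [hNP]; exact Subgroup.mem_top g
    rw [Subgroup.mul_normal] at hg
    obtain ⟨n, hn, u, hu, rfl⟩ := Set.mem_mul.mp hg
    refine ⟨⟨n, hn⟩, ?_⟩
    have hu1 : (QuotientGroup.mk' P) u = 1 := (QuotientGroup.eq_one_iff u).mpr hu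
    rw [hφ, map_mul, hu1, mul_one]
  have hcardN : Nat.card N = P.index := Nat.card_congr (Equiv.ofBijective φ ⟨hφinj, hφsurj⟩)
  have hOp : ∀ V : Subgroup N, V.Normal → IsPGroup p V → V = ⊥ := by
    intro V hVn hVp
    have h1 := hQ (V.map φ) (hVn.map φ hφsurj) (hVp.map φ)
    rw [eq_bot_iff]
    intro v hv
    have h2 : φ v ∈ V.map φ := Subgroup.mem_map_of_mem φ hv
    rw [h1, Subgroup.mem_bot] at h2
    rw [Subgroup.mem_bot]
    exact hφinj (by rw [h2, map_one])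
  obtain ⟨k, m, hm, hkm⟩ :=
    Nat.exists_eq_pow_mul_and_not_dvd (Nat.card_pos (α := N)).ne' p hp.ne_one
  have hmcop : m.Coprime p := Nat.Coprime.symm ((Nat.Prime.coprime_iff_not_dvd hp).mpr hm)
  have hmpos : 0 < m := Nat.pos_of_ne_zero (fun h => hm (h ▸ dvd_zero p))
  have hk1 : 0 < k := by
    rcases Nat.eq_zero_or_pos k with h0 | h0
    · exfalso
      rw [h0, pow_zero, one_mul] at hkm
      rw [hcardN] at hkm
      exact hm (hkm ▸ hnSyl)
    · exact h0
  obtain ⟨⟨N₀', hN₀'c⟩, -⟩ := Cfsg.Agent.Helper1.hall_aux (Nat.card N) N rfl m (p ^ k)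
    (by rw [hkm, mul_comm]) (Nat.Coprime.pow_right k hmcop)
  have hidx : N₀'.index = p ^ k := by
    have h1 := Subgroup.card_mul_index N₀'
    rw [hN₀'c, hkm] at h1
    exact Nat.eq_of_mul_eq_mul_left hmpos (h1.trans (mul_comm _ _))
  have hm1 : m ≠ 1 := by
    intro h0
    rw [h0, mul_one] at hkm
    have hG : Nat.card G = Nat.card P * p ^ k := by
      rw [← Subgroup.card_mul_index P, ← hcardN, hkm]
    obtain ⟨j, hj⟩ := IsPGroup.iff_card.mp hPp
    have hGp : IsPGroup p (⊤ : Subgroup G) :=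
      IsPGroup.of_card (n := j + k) (by rw [Subgroup.card_top, hG, hj, pow_add])
    exact hPtop (top_le_iff.mp (hmax ⊤ inferInstance hGp))
  have hN₀'ne : N₀' ≠ ⊥ := by
    intro h0
    rw [h0, Subgroup.card_bot] at hN₀'c
    exact hm1 hN₀'c.symm
  have hN₀'top : N₀' ≠ ⊤ := by
    intro h0
    rw [h0, Subgroup.index_top] at hidx
    exact (Nat.one_lt_pow hk1.ne' hp.one_lt).ne hidx
  obtain ⟨A, hAdef⟩ : ∃ A : Subgroup G, A = N₀'.map N.subtype := ⟨_, rfl⟩
  have hAc : Nat.card A = m := by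
    rw [hAdef, Subgroup.card_map_of_injective N.subtype_injective, hN₀'c]
  have hAcop : (Nat.card A).Coprime p := hAc ▸ hmcop
  have hfix : ∀ h ∈ A, h ≠ 1 → ∀ x ∈ P, h * x = x * h → x = 1 := by
    intro h hh h1 x hx hc
    exact hfixP h (Nat.Coprime.coprime_dvd_left (Subgroup.orderOf_dvd_natCard A hh) hAcop)
      h1 x hx hc
  have hAne : A ≠ ⊥ := by
    intro h0
    rw [h0, Subgroup.card_bot] at hAc
    exact hm1 hAc.symm
  obtain ⟨z, hzA, hz1, hzc⟩ := center_of_fix P A hP1 hAne hfix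
  have hAnil : Group.IsNilpotent A :=
    Cfsg.Agent.S1474.nilpotent_of_le (fun a ha => Cfsg.Agent.Helper8.mem_cent.mpr (hzc a ha))
      (hCN z hz1)
  have hN₀'nil : Group.IsNilpotent N₀' := by
    haveI := hAnil
    have e : N₀' ≃* A := hAdef ▸ N₀'.equivMapOfInjective N.subtype N.subtype_injective
    exact Group.nilpotent_of_mulEquiv e.symm
  have huniq : ∀ x ∈ N₀', ∀ y ∈ N₀', ∀ r : ℕ, r.Prime → orderOf x = r → orderOf y = r →
      y ∈ Subgroup.zpowers x := by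
    intro x hx y hy r hr hox hoy
    have h1 := uniq_nilp P A hP1 hfix hAnil (x : G) (y : G)
      (hAdef ▸ Subgroup.mem_map_of_mem _ hx) (hAdef ▸ Subgroup.mem_map_of_mem _ hy) r hr
      (by rw [Subgroup.orderOf_coe]; exact hox) (by rw [Subgroup.orderOf_coe]; exact hoy)
    obtain ⟨j, hj⟩ := Subgroup.mem_zpowers_iff.mp h1
    exact Subgroup.mem_zpowers_iff.mpr ⟨j, Subtype.ext (by simpa using hj)⟩
  obtain ⟨hnorm, hc2, hc3⟩ := lemmaB (cn_subgroup hCN N) p hOp N₀' hN₀'nil (hN₀'c ▸ hmcop) k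
    hidx hN₀'ne huniq
  have hodd : ¬ 2 ∣ Nat.card A := by
    intro h2
    exact hN₀'top (hc3 (by rw [hN₀'c, ← hAc]; exact h2))
  have hPA : (N₀'.map φ).comap (QuotientGroup.mk' P) = P ⊔ A := by
    have h1 : N₀'.map φ = A.map (QuotientGroup.mk' P) := by
      have hφeq : φ = (QuotientGroup.mk' P).comp N.subtype := MonoidHom.ext hφ
      rw [hAdef, Subgroup.map_map, hφeq]
    rw [h1, Subgroup.comap_map_eq, QuotientGroup.ker_mk', sup_comm]
  have hmem : ∀ n : N, (n : G) ∈ P ⊔ A → n ∈ N₀' := by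
    intro n hn
    rw [← hPA, Subgroup.mem_comap] at hn
    obtain ⟨a, ha, hae⟩ := hn
    have : a = n := hφinj (by rw [hae, hφ])
    exact this ▸ ha
  refine ⟨A, hAne, ?_, ?_, hAcop, ?_, ?_, ?_, ?_, ?_⟩
  · haveI : IsZGroup A := Cfsg.Agent.S0069.zgroup P A hP1 hfix hodd
    haveI := hAnil
    infer_instance
  · exact Nat.not_even_iff_odd.mp (fun h => hodd (even_iff_two_dvd.mp h))
  · rw [← hPA]; exact (hnorm.map φ hφsurj).comap _
  · intro htop
    apply hN₀'top
    rw [eq_top_iff]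
    intro n _
    exact hmem n (by rw [htop]; exact Subgroup.mem_top _)
  · refine ⟨k, ?_⟩
    rw [← hPA, Subgroup.index_comap_of_surjective _ (QuotientGroup.mk'_surjective P),
      Subgroup.index_map_of_bijective ⟨hφinj, hφsurj⟩, hidx]
  · intro a ha ha1
    rw [eq_bot_iff]
    intro x hx
    rw [Subgroup.mem_inf] at hx
    rw [Subgroup.mem_bot]
    exact hfix a ha ha1 x hx.1 (Cfsg.Agent.Helper8.mem_cent.mp hx.2)
  · intro x hx a ha ha1 hcomm
    obtain ⟨n, hn⟩ := hφsurj (QuotientGroup.mk' P x)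
    have hn' : n ∉ N₀' := by
      intro hnN
      apply hx
      rw [← hPA, Subgroup.mem_comap, ← hn]
      exact Subgroup.mem_map_of_mem φ hnN
    rw [hAdef] at ha
    obtain ⟨a', ha', hae⟩ := Subgroup.mem_map.mp ha
    have hae' : (a' : G) = a := hae
    have ha'1 : a' ≠ 1 := by
      intro h0
      apply ha1
      rw [← hae', h0]; rfl
    apply hn'
    apply hc2 n a' ha' ha'1
    apply hφinj
    have h1 : QuotientGroup.mk' P (x * a * x⁻¹ * a⁻¹) = 1 := (QuotientGroup.eq_one_iff _).mpr hcomm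
    simp only [map_mul, map_inv] at h1
    rw [map_mul, map_mul, hn, hφ a', hae']
    calc QuotientGroup.mk' P x * QuotientGroup.mk' P a
        = (QuotientGroup.mk' P x * QuotientGroup.mk' P a * (QuotientGroup.mk' P x)⁻¹ *
            (QuotientGroup.mk' P a)⁻¹) * (QuotientGroup.mk' P a * QuotientGroup.mk' P x) := by
          group
      _ = QuotientGroup.mk' P a * QuotientGroup.mk' P x := by rw [h1, one_mul]

end Cfsg.Agent.Helper21
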