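import Mathlib
import Cfsg.Agent.Helper1.Frobenius
import Cfsg.Agent.Helper14.CoprimeAut2
import Cfsg.Agent.Helper14.Conj
import Cfsg.Agent.Helper16.NPC
import Cfsg.Agent.Lead.Coprime2
import Cfsg.Agent.S0023

/-!
Helper library (helper21): nilpotent maximal subgroups.

* `normalizer_eq_of_le_max`: in a group with a core-free maximal subgroup `M`, a nontrivial
  subgroup of `M` normalized by `M` has normalizer `M`.
* `sylow_of_nilpotent_maximal`: the Sylow subgroups of a core-free nilpotent maximal subgroup are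
  Sylow in `G` and have normalizer `M`.
* `solvable_of_npc`: if `G` has a normal `p`-complement for every prime `p ∣ |M|` (and the
  Sylow subgroups of `M` are Sylow in `G`), then `G` is solvable.
* `nilpotent_act`: if `N_G(S)` is nilpotent, it acts on `S` by inner automorphisms of `S`.
* `fusion_class_two`, `npc_class_two`: a Sylow subgroup of class at most two, whose normalizer
  acts by inner automorphisms and contains the normalizer of each of its nontrivial normal
  subgroups, controls its own fusion (Deskins–Janko).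
-/

set_option autoImplicit false

namespace Cfsg.Agent.Helper21

open scoped Pointwise

universe u

theorem normalizer_eq_of_le_max {G : Type*} [Group G] (M : Subgroup G) (hmax : IsCoatom M)
    (hcore : M.normalCore = ⊥) (X : Subgroup G) (hXM : X ≤ M)
    (hMX : M ≤ Subgroup.normalizer (X : Set G)) (hX : X ≠ ⊥) :
    Subgroup.normalizer (X : Set G) = M := by
  rcases eq_or_lt_of_le hMX with h | h
  · exact h.symm
  · exfalso
    have htop := hmax.2 _ h
    haveI : X.Normal := Subgroup.normalizer_eq_top_iff.1 htop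
    have := (Subgroup.normal_le_normalCore (H := M) (N := X)).2 hXM
    rw [hcore] at this
    exact hX (le_bot_iff.1 this)

/-- The Sylow `p`-subgroup of a core-free nilpotent maximal subgroup `M` is a Sylow subgroup of
`G` with normalizer `M`. -/
theorem sylow_of_nilpotent_maximal {G : Type u} [Group G] [Finite G] (M : Subgroup G)
    (hmax : IsCoatom M) (hnil : Group.IsNilpotent ↥M) (hcore : M.normalCore = ⊥) (p : ℕ)
    [hp : Fact p.Prime] (hpM : p ∣ Nat.card ↥M) :
    ∃ S : Sylow p G, (S : Subgroup G) ≤ M ∧ (S : Subgroup G) ≠ ⊥ ∧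
      Subgroup.normalizer ((S : Subgroup G) : Set G) = M ∧
      (Nat.card G).factorization p = (Nat.card ↥M).factorization p := by
  obtain ⟨P₀⟩ : Nonempty (Sylow p ↥M) := inferInstance
  haveI := hnil
  have hP₀n : (P₀ : Subgroup ↥M).Normal := inferInstance
  have hPM : (P₀ : Subgroup ↥M).map M.subtype ≤ M := Subgroup.map_subtype_le _
  have hPpg : IsPGroup p ↥((P₀ : Subgroup ↥M).map M.subtype) := P₀.isPGroup'.map M.subtype
  have hPcard : Nat.card ↥((P₀ : Subgroup ↥M).map M.subtype) =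
      p ^ (Nat.card ↥M).factorization p := by
    rw [Subgroup.card_map_of_injective M.subtype_injective]
    exact P₀.card_eq_multiplicity
  have hPbot : (P₀ : Subgroup ↥M).map M.subtype ≠ ⊥ := by
    intro h
    rw [h, Subgroup.card_bot] at hPcard
    have hpos : 0 < (Nat.card ↥M).factorization p :=
      hp.out.factorization_pos_of_dvd (Nat.card_pos (α := ↥M)).ne' hpM
    rcases Nat.pow_eq_one.1 hPcard.symm with h4 | h4
    · exact hp.out.one_lt.ne' h4
    · omega
  have hMN : M ≤ Subgroup.normalizer (((P₀ : Subgroup ↥M).map M.subtype : Subgroup G) : Set G) := by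
    intro m hm
    exact Cfsg.Agent.Lead.map_subtype_normalizer M (P₀ : Subgroup ↥M) ⟨m, hm⟩
      (by rw [Subgroup.normalizer_eq_top]; trivial)
  have hNP : Subgroup.normalizer (((P₀ : Subgroup ↥M).map M.subtype : Subgroup G) : Set G) = M :=
    normalizer_eq_of_le_max M hmax hcore _ hPM hMN hPbot
  obtain ⟨S, hPS⟩ := hPpg.exists_le_sylow
  have hSP : (S : Subgroup G) = (P₀ : Subgroup ↥M).map M.subtype := by
    by_contra hne
    have hlt : ((P₀ : Subgroup ↥M).map M.subtype).subgroupOf (S : Subgroup G) < ⊤ := by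
      rw [lt_top_iff_ne_top]
      intro h
      rw [Subgroup.subgroupOf_eq_top] at h
      exact hne (le_antisymm h hPS)
    haveI : Group.IsNilpotent ↥(S : Subgroup G) := S.isPGroup'.isNilpotent
    have hnc := Group.normalizerCondition_of_isNilpotent (G := ↥(S : Subgroup G)) _ hlt
    obtain ⟨x, hxN, hxP⟩ := SetLike.exists_of_lt hnc
    have key : ∀ z : ↥(S : Subgroup G), z ∈ Subgroup.normalizer
        ((((P₀ : Subgroup ↥M).map M.subtype).subgroupOf (S : Subgroup G) : Subgroup _) : Set _) →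
        ∀ y ∈ (P₀ : Subgroup ↥M).map M.subtype,
          (z : G) * y * (z : G)⁻¹ ∈ (P₀ : Subgroup ↥M).map M.subtype := by
      intro z hz y hy
      have := (Subgroup.mem_normalizer_iff.1 hz ⟨y, hPS hy⟩).1 (Subgroup.mem_subgroupOf.2 hy)
      exact Subgroup.mem_subgroupOf.1 this
    have hxNG : (x : G) ∈ Subgroup.normalizer
        (((P₀ : Subgroup ↥M).map M.subtype : Subgroup G) : Set G) := by
      rw [Subgroup.mem_normalizer_iff]
      intro y
      constructor
      · exact key x hxN y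
      · intro hy
        have := key x⁻¹ (Subgroup.inv_mem _ hxN) _ hy
        have h2 : ((x⁻¹ : ↥(S : Subgroup G)) : G) * ((x : G) * y * (x : G)⁻¹) *
            ((x⁻¹ : ↥(S : Subgroup G)) : G)⁻¹ = y := by
          rw [Subgroup.coe_inv]; group
        rwa [h2] at this
    have hxM : (x : G) ∈ M := by rw [hNP] at hxNG; exact hxNG
    have hQpg : IsPGroup p ↥(((S : Subgroup G) ⊓ M).subgroupOf M) :=
      (S.isPGroup'.to_le inf_le_left).comap_subtype
    have hle : (P₀ : Subgroup ↥M) ≤ ((S : Subgroup G) ⊓ M).subgroupOf M := by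
      intro y hy
      rw [Subgroup.mem_subgroupOf]
      exact ⟨hPS (Subgroup.mem_map_of_mem M.subtype hy), y.2⟩
    have heq := P₀.is_maximal' hQpg hle
    apply hxP
    rw [Subgroup.mem_subgroupOf]
    have hmem : (⟨(x : G), hxM⟩ : ↥M) ∈ ((S : Subgroup G) ⊓ M).subgroupOf M :=
      Subgroup.mem_subgroupOf.2 ⟨x.2, hxM⟩
    rw [heq] at hmem
    exact Subgroup.mem_map_of_mem M.subtype hmem
  refine ⟨S, ?_, ?_, ?_, ?_⟩
  · rw [hSP]; exact hPM
  · rw [hSP]; exact hPbot
  · rw [hSP]; exact hNP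
  · have h1 := S.card_eq_multiplicity
    rw [hSP, hPcard] at h1
    exact (Nat.pow_right_injective hp.out.two_le h1).symm

/-- If `G` has a maximal subgroup `M` which is nilpotent, and a normal `p`-complement for every
prime `p` dividing `|M|`, and the Sylow subgroups of `M` are Sylow in `G`, then `G` is solvable. -/
theorem solvable_of_npc {G : Type u} [Group G] [Finite G] (M : Subgroup G)
    (hmax : IsCoatom M) (hnil : Group.IsNilpotent ↥M)
    (hfacts : ∀ p : ℕ, p.Prime → p ∣ Nat.card ↥M → Cfsg.HasNormalPComplement p G ∧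
        (Nat.card G).factorization p = (Nat.card ↥M).factorization p) :
    Group.IsSolvable G := by
  haveI := hnil
  have hMsolv : Group.IsSolvable ↥M := inferInstance
  have hmul : ∀ p : ℕ, p.Prime → p ∣ Nat.card ↥M → ∀ a b : G, (orderOf a).Coprime p →
      (orderOf b).Coprime p → (orderOf (a * b)).Coprime p := by
    intro p hp hpM a b ha hb
    haveI : Fact p.Prime := ⟨hp⟩
    obtain ⟨K, k, hKn, hKcop, hKidx⟩ := Cfsg.Agent.Helper16.npc_exists (hfacts p hp hpM).1
    haveI := hKn
    have hKchar : ∀ g : G, g ∈ K ↔ (orderOf g).Coprime p := by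
      intro g
      constructor
      · intro hg
        exact Nat.Coprime.coprime_dvd_left (Subgroup.orderOf_dvd_natCard K hg) hKcop
      · intro hg
        have h1 : ((g : G ⧸ K)) ^ (p ^ k) = 1 := by
          rw [← hKidx, Subgroup.index_eq_card]; exact pow_card_eq_one'
        have h2 : ((g : G ⧸ K)) ^ (orderOf g) = 1 := by
          rw [← QuotientGroup.mk_pow, pow_orderOf_eq_one]; rfl
        have h3 := orderOf_dvd_of_pow_eq_one h1
        have h4 := orderOf_dvd_of_pow_eq_one h2
        have h5 : orderOf (g : G ⧸ K) = 1 :=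
          Nat.eq_one_of_dvd_coprimes (Nat.Coprime.pow_right k hg) h4 h3
        rw [orderOf_eq_one_iff] at h5
        exact (QuotientGroup.eq_one_iff g).1 h5
    exact (hKchar _).1 (K.mul_mem ((hKchar a).2 ha) ((hKchar b).2 hb))
  let K : Subgroup G :=
    { carrier := {g | (orderOf g).Coprime (Nat.card ↥M)}
      one_mem' := by
        show (orderOf (1 : G)).Coprime _
        rw [orderOf_one]; exact Nat.coprime_one_left _
      mul_mem' := by
        intro a b ha hb
        show (orderOf (a * b)).Coprime _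
        refine Nat.coprime_of_dvd ?_
        intro k hk hk1 hk2
        have := hmul k hk hk2 a b (Nat.Coprime.coprime_dvd_right hk2 ha)
          (Nat.Coprime.coprime_dvd_right hk2 hb)
        exact hk.one_lt.ne' (Nat.Coprime.eq_one_of_dvd this.symm hk1)
      inv_mem' := by
        intro a ha
        show (orderOf a⁻¹).Coprime _
        rw [orderOf_inv]; exact ha }
  have hKmem : ∀ g : G, g ∈ K ↔ (orderOf g).Coprime (Nat.card ↥M) := fun g => Iff.rfl
  have hKn : K.Normal := ⟨fun a ha g => by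
    rw [hKmem] at ha ⊢
    have : orderOf (g * a * g⁻¹) = orderOf a := (MulAut.conj g).orderOf_eq a
    rw [this]; exact ha⟩
  have hKcop : (Nat.card ↥M).Coprime (Nat.card ↥K) := by
    refine Nat.coprime_of_dvd ?_
    intro k hk hk1 hk2
    haveI : Fact k.Prime := ⟨hk⟩
    obtain ⟨x, hx⟩ := exists_prime_orderOf_dvd_card' (G := ↥K) k hk2
    have hx' : orderOf (x : G) = k := by rw [Subgroup.orderOf_coe]; exact hx
    have := (hKmem (x : G)).1 x.2
    rw [hx'] at this
    exact hk.one_lt.ne' (Nat.Coprime.eq_one_of_dvd this hk1)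
  have hKM : K ⊓ M = ⊥ := Cfsg.Agent.Lead.inf_eq_bot_of_coprime' hKcop.symm
  have hKbot : K ≠ ⊥ := by
    intro hK
    apply hmax.1
    rw [← Subgroup.card_eq_iff_eq_top]
    refine Nat.eq_of_factorization_eq (Nat.card_pos).ne' (Nat.card_pos).ne' ?_
    intro p
    by_cases hp : p.Prime
    · by_cases hpM : p ∣ Nat.card ↥M
      · exact ((hfacts p hp hpM).2).symm
      · have hpG : ¬ p ∣ Nat.card G := by
          intro hpG
          haveI : Fact p.Prime := ⟨hp⟩
          obtain ⟨x, hx⟩ := exists_prime_orderOf_dvd_card' (G := G) p hpG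
          have hxK : x ∈ K := by
            rw [hKmem, hx]
            exact (Nat.Prime.coprime_iff_not_dvd hp).2 hpM
          rw [hK, Subgroup.mem_bot] at hxK
          rw [hxK, orderOf_one] at hx
          exact hp.one_lt.ne hx
        rw [Nat.factorization_eq_zero_of_not_dvd hpM, Nat.factorization_eq_zero_of_not_dvd hpG]
    · rw [Nat.factorization_eq_zero_of_not_prime _ hp,
        Nat.factorization_eq_zero_of_not_prime _ hp]
  have hKcard : 1 < Nat.card ↥K := (Subgroup.one_lt_card_iff_ne_bot K).2 hKbot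
  obtain ⟨q, hq, hqK⟩ := Nat.exists_prime_and_dvd hKcard.ne'
  haveI : Fact q.Prime := ⟨hq⟩
  haveI := hKn
  obtain ⟨Q₀, hQ₀⟩ := Cfsg.Agent.S0023.result M K
    (by rw [Subgroup.normalizer_eq_top]; exact le_top) hKcop (Or.inl hMsolv) q
  have hQK : (Q₀ : Subgroup ↥K).map K.subtype ≤ K := Subgroup.map_subtype_le _
  have hQcard : Nat.card ↥((Q₀ : Subgroup ↥K).map K.subtype) =
      q ^ (Nat.card ↥K).factorization q := by
    rw [Subgroup.card_map_of_injective K.subtype_injective]
    exact Q₀.card_eq_multiplicity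
  have hQbot : (Q₀ : Subgroup ↥K).map K.subtype ≠ ⊥ := by
    intro h
    rw [h, Subgroup.card_bot] at hQcard
    have hpos : 0 < (Nat.card ↥K).factorization q :=
      hq.factorization_pos_of_dvd (Nat.card_pos (α := ↥K)).ne' hqK
    rcases Nat.pow_eq_one.1 hQcard.symm with h4 | h4
    · exact hq.one_lt.ne' h4
    · omega
  have hQM : ¬ (Q₀ : Subgroup ↥K).map K.subtype ≤ M := by
    intro h
    apply hQbot
    rw [eq_bot_iff, ← hKM]
    exact le_inf hQK h
  have hsup : M ⊔ (Q₀ : Subgroup ↥K).map K.subtype = ⊤ := by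
    apply hmax.2
    rcases eq_or_lt_of_le (le_sup_left : M ≤ M ⊔ (Q₀ : Subgroup ↥K).map K.subtype) with h | h
    · exfalso
      apply hQM
      have h2 : (Q₀ : Subgroup ↥K).map K.subtype ≤ M ⊔ (Q₀ : Subgroup ↥K).map K.subtype :=
        le_sup_right
      rwa [← h] at h2
    · exact h
  have hQn : ((Q₀ : Subgroup ↥K).map K.subtype).Normal := by
    rw [← Subgroup.normalizer_eq_top_iff, eq_top_iff, ← hsup]
    exact sup_le hQ₀ Subgroup.le_normalizer
  haveI := hQn
  have hsurj : Function.Surjective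
      ((QuotientGroup.mk' ((Q₀ : Subgroup ↥K).map K.subtype)).comp M.subtype) := by
    intro y
    obtain ⟨g, rfl⟩ := QuotientGroup.mk'_surjective _ y
    have hg : g ∈ M ⊔ (Q₀ : Subgroup ↥K).map K.subtype := by rw [hsup]; trivial
    obtain ⟨m, hm, a, ha, rfl⟩ := Subgroup.mem_sup_of_normal_right.1 hg
    refine ⟨⟨m, hm⟩, ?_⟩
    show ((m : G) : G ⧸ (Q₀ : Subgroup ↥K).map K.subtype) = ((m * a : G) : G ⧸ _)
    rw [QuotientGroup.eq, inv_mul_cancel_left]
    exact ha
  haveI : Group.IsSolvable (G ⧸ (Q₀ : Subgroup ↥K).map K.subtype) :=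
    Group.isSolvable_of_surjective hsurj
  haveI : Group.IsNilpotent ↥((Q₀ : Subgroup ↥K).map K.subtype) :=
    IsPGroup.isNilpotent (Q₀.isPGroup'.map K.subtype)
  exact Group.isSolvable_of_ker_le_range ((Q₀ : Subgroup ↥K).map K.subtype).subtype
    (QuotientGroup.mk' ((Q₀ : Subgroup ↥K).map K.subtype))
    (by rw [QuotientGroup.ker_mk', Subgroup.range_subtype])

/-- A `p`-subgroup of the normalizer of a Sylow `p`-subgroup lies in it. -/
theorem le_sylow_of_le_normalizer {G : Type*} [Group G] {p : ℕ} [Fact p.Prime] (S : Sylow p G)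
    (R : Subgroup G) (hR : IsPGroup p R)
    (hRN : R ≤ Subgroup.normalizer ((S : Subgroup G) : Set G)) : R ≤ S := by
  have h1 := hR.inf_normalizer_sylow S
  have h2 : R ⊓ Subgroup.normalizer ((S : Subgroup G) : Set G) = R := inf_eq_left.2 hRN
  have h3 : R ⊓ (S : Subgroup G) = R := by
    rw [← h1]; exact h2
  exact inf_eq_left.1 h3

/-- If the normalizer of the Sylow subgroup `S` is nilpotent, then it acts on `S` by inner
automorphisms of `S`. -/
theorem nilpotent_act {G : Type*} [Group G] [Finite G] {p : ℕ} [hp : Fact p.Prime] (S : Sylow p G)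
    (hnil : Group.IsNilpotent ↥(Subgroup.normalizer ((S : Subgroup G) : Set G)))
    (m : G) (hm : m ∈ Subgroup.normalizer ((S : Subgroup G) : Set G)) (x : G)
    (hx : x ∈ (S : Subgroup G)) : ∃ s ∈ (S : Subgroup G), m * x * m⁻¹ = s * x * s⁻¹ := by
  have hSN : (S : Subgroup G) ≤ Subgroup.normalizer ((S : Subgroup G) : Set G) :=
    Subgroup.le_normalizer
  obtain ⟨a, b, hb, hab⟩ := Nat.exists_eq_pow_mul_and_not_dvd (orderOf_pos m).ne' p
    hp.out.ne_one
  have hbcop : (p).Coprime b := (Nat.Prime.coprime_iff_not_dvd hp.out).2 hb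
  -- `z = m ^ (p ^ a)` centralizes `S`
  have hzb : (m ^ (p ^ a)) ^ b = 1 := by
    rw [← pow_mul, ← hab, pow_orderOf_eq_one]
  have hzN : m ^ (p ^ a) ∈ Subgroup.normalizer ((S : Subgroup G) : Set G) :=
    Subgroup.pow_mem _ hm _
  have hzc : ∀ w ∈ (S : Subgroup G), (m ^ (p ^ a)) * w = w * (m ^ (p ^ a)) := by
    intro w hw
    obtain ⟨n, hn⟩ := hnil.nilpotent'
    obtain ⟨k, hk⟩ := S.isPGroup' ⟨w, hw⟩
    have hwk : w ^ (p ^ k) = 1 := congrArg Subtype.val hk
    have := Cfsg.Agent.Helper14.commute_of_mem_ucs n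
      (⟨w, hSN hw⟩ : ↥(Subgroup.normalizer ((S : Subgroup G) : Set G)))
      (⟨m ^ (p ^ a), hzN⟩ : ↥(Subgroup.normalizer ((S : Subgroup G) : Set G))) (p ^ k) b
      (Nat.Coprime.pow_left k hbcop) (Subtype.ext hwk) (Subtype.ext hzb) (by rw [hn]; trivial)
    exact congrArg Subtype.val this
  have hmx : m * x * m⁻¹ ∈ (S : Subgroup G) := (Subgroup.mem_normalizer_iff.1 hm x).1 hx
  by_cases ha : a = 0
  · subst ha
    rw [pow_zero, pow_one] at hzc
    refine ⟨1, Subgroup.one_mem _, ?_⟩
    rw [hzc x hx]; group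
  · have h1 : 1 < p ^ a := Nat.one_lt_pow ha hp.out.one_lt
    have hcop : (b).Coprime (p ^ a) := (Nat.Coprime.pow_left a hbcop).symm
    obtain ⟨k, -, hk⟩ := Nat.exists_mul_mod_eq_one_of_coprime hcop h1
    -- `m ^ (b * k) = (m ^ (p ^ a)) ^ j * m`
    have hdecomp : m ^ (b * k) = (m ^ (p ^ a)) ^ (b * k / p ^ a) * m := by
      conv_lhs => rw [← Nat.div_add_mod (b * k) (p ^ a), hk]
      rw [pow_add, pow_mul, pow_one]
    have hsS : m ^ (b * k) ∈ (S : Subgroup G) := by
      have hpg : IsPGroup p ↥(Subgroup.zpowers (m ^ b)) := by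
        rintro ⟨g, hg⟩
        obtain ⟨i, rfl⟩ := Subgroup.mem_zpowers_iff.1 hg
        refine ⟨a, Subtype.ext ?_⟩
        show ((m ^ b) ^ i) ^ (p ^ a) = 1
        rw [← zpow_natCast, ← zpow_mul, mul_comm, zpow_mul, zpow_natCast, ← pow_mul, mul_comm b,
          ← hab, pow_orderOf_eq_one, one_zpow]
      have hle := le_sylow_of_le_normalizer S _ hpg
        (by rw [Subgroup.zpowers_le]; exact Subgroup.pow_mem _ hm _)
      rw [pow_mul]
      exact hle (Subgroup.pow_mem _ (Subgroup.mem_zpowers _) k)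
    refine ⟨m ^ (b * k), hsS, ?_⟩
    rw [hdecomp]
    have hc : ∀ j : ℕ, (m ^ (p ^ a)) ^ j * (m * x * m⁻¹) = (m * x * m⁻¹) * (m ^ (p ^ a)) ^ j := by
      intro j
      have : Commute (m ^ (p ^ a)) (m * x * m⁻¹) := hzc _ hmx
      exact this.pow_left j
    have h2 : (m ^ (p ^ a)) ^ (b * k / p ^ a) * m * x *
        ((m ^ (p ^ a)) ^ (b * k / p ^ a) * m)⁻¹ =
        ((m ^ (p ^ a)) ^ (b * k / p ^ a) * (m * x * m⁻¹)) *
          ((m ^ (p ^ a)) ^ (b * k / p ^ a))⁻¹ := by group
    rw [h2, hc, mul_inv_cancel_right]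

/-- **Deskins–Janko fusion lemma.** Let `S` be a Sylow `p`-subgroup of class at most two such
that `N_G(S)` acts on `S` by inner automorphisms of `S`, and `N_G(X) ≤ N_G(S)` for every
nontrivial subgroup `X` of `S` normalized by `S`. Then `S` controls its own fusion. -/
theorem fusion_class_two {G : Type*} [Group G] [Finite G] (p : ℕ) [Fact p.Prime] (S : Sylow p G)
    (hcl : ∀ a ∈ (S : Subgroup G), ∀ b ∈ (S : Subgroup G), ∀ c ∈ (S : Subgroup G),
      (a * b * a⁻¹ * b⁻¹) * c = c * (a * b * a⁻¹ * b⁻¹))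
    (hact : ∀ m ∈ Subgroup.normalizer ((S : Subgroup G) : Set G), ∀ x ∈ (S : Subgroup G),
      ∃ s ∈ (S : Subgroup G), m * x * m⁻¹ = s * x * s⁻¹)
    (hN : ∀ X : Subgroup G, X ≤ S → X ≠ ⊥ →
      (S : Subgroup G) ≤ Subgroup.normalizer (X : Set G) →
      Subgroup.normalizer (X : Set G) ≤ Subgroup.normalizer ((S : Subgroup G) : Set G))
    (x : G) (hx : x ∈ (S : Subgroup G)) (g : G) (hgx : g * x * g⁻¹ ∈ (S : Subgroup G)) :
    ∃ u ∈ (S : Subgroup G), g * x * g⁻¹ = u * x * u⁻¹ := by
  by_cases hx1 : x = 1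
  · subst hx1; exact ⟨1, Subgroup.one_mem _, by simp⟩
  have hmemC : ∀ z d : G, d ∈ Subgroup.centralizer ({z} : Set G) ↔ z * d = d * z := by
    intro z d
    rw [Subgroup.mem_centralizer_iff]
    constructor
    · intro h; exact h z rfl
    · intro h w hw
      rw [Set.mem_singleton_iff] at hw
      rw [hw]; exact h
  -- `S` normalizes `C_S(z)`
  have hDnorm : ∀ z ∈ (S : Subgroup G), (S : Subgroup G) ≤ Subgroup.normalizer
      (((S : Subgroup G) ⊓ Subgroup.centralizer {z} : Subgroup G) : Set G) := by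
    intro z hz s hs
    have key : ∀ t ∈ (S : Subgroup G), ∀ d ∈ (S : Subgroup G) ⊓ Subgroup.centralizer {z},
        t * d * t⁻¹ ∈ (S : Subgroup G) ⊓ Subgroup.centralizer {z} := by
      intro t ht d hd
      obtain ⟨hd1, hd2⟩ := Subgroup.mem_inf.1 hd
      refine Subgroup.mem_inf.2 ⟨Subgroup.mul_mem _ (Subgroup.mul_mem _ ht hd1)
        (Subgroup.inv_mem _ ht), ?_⟩
      rw [hmemC] at hd2 ⊢
      have h2 := hcl t ht d hd1 z hz
      calc z * (t * d * t⁻¹) = (z * (t * d * t⁻¹ * d⁻¹)) * d := by group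
        _ = ((t * d * t⁻¹ * d⁻¹) * z) * d := by rw [h2]
        _ = (t * d * t⁻¹ * d⁻¹) * (z * d) := by group
        _ = (t * d * t⁻¹ * d⁻¹) * (d * z) := by rw [hd2]
        _ = (t * d * t⁻¹) * z := by group
    rw [Subgroup.mem_normalizer_iff]
    intro d
    constructor
    · exact key s hs d
    · intro hd
      have := key s⁻¹ (Subgroup.inv_mem _ hs) _ hd
      have h2 : s⁻¹ * (s * d * s⁻¹) * s⁻¹⁻¹ = d := by group
      rwa [h2] at this
  have hDbot : ∀ z ∈ (S : Subgroup G), z ≠ 1 →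
      (S : Subgroup G) ⊓ Subgroup.centralizer {z} ≠ ⊥ := by
    intro z hz hz1 h
    have : z ∈ (S : Subgroup G) ⊓ Subgroup.centralizer {z} :=
      Subgroup.mem_inf.2 ⟨hz, (hmemC z z).2 rfl⟩
    rw [h, Subgroup.mem_bot] at this
    exact hz1 this
  -- `C_S(z)` is a maximal `p`-subgroup of `C_G(z)`
  have hmaxD : ∀ z ∈ (S : Subgroup G), z ≠ 1 → ∀ R : Subgroup G, IsPGroup p R →
      R ≤ Subgroup.centralizer {z} → (S : Subgroup G) ⊓ Subgroup.centralizer {z} ≤ R →
      R ≤ (S : Subgroup G) ⊓ Subgroup.centralizer {z} := by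
    intro z hz hz1 R hR hRC hDR
    by_contra hne
    have hlt : ((S : Subgroup G) ⊓ Subgroup.centralizer {z}).subgroupOf R < ⊤ := by
      rw [lt_top_iff_ne_top]
      intro h
      rw [Subgroup.subgroupOf_eq_top] at h
      exact hne h
    haveI : Group.IsNilpotent ↥R := hR.isNilpotent
    have hnc := Group.normalizerCondition_of_isNilpotent (G := ↥R) _ hlt
    obtain ⟨r, hrN, hrD⟩ := SetLike.exists_of_lt hnc
    have key : ∀ w : ↥R, w ∈ Subgroup.normalizer
        ((((S : Subgroup G) ⊓ Subgroup.centralizer {z}).subgroupOf R : Subgroup ↥R) : Set ↥R) →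
        ∀ d ∈ (S : Subgroup G) ⊓ Subgroup.centralizer {z},
          (w : G) * d * (w : G)⁻¹ ∈ (S : Subgroup G) ⊓ Subgroup.centralizer {z} := by
      intro w hw d hd
      have := (Subgroup.mem_normalizer_iff.1 hw ⟨d, hDR hd⟩).1 (Subgroup.mem_subgroupOf.2 hd)
      exact Subgroup.mem_subgroupOf.1 this
    have hrNG : (r : G) ∈ Subgroup.normalizer
        ((((S : Subgroup G) ⊓ Subgroup.centralizer {z} : Subgroup G)) : Set G) := by
      rw [Subgroup.mem_normalizer_iff]
      intro d
      constructor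
      · exact key r hrN d
      · intro hd
        have := key r⁻¹ (Subgroup.inv_mem _ hrN) _ hd
        have h2 : ((r⁻¹ : ↥R) : G) * ((r : G) * d * (r : G)⁻¹) * ((r⁻¹ : ↥R) : G)⁻¹ = d := by
          rw [Subgroup.coe_inv]; group
        rwa [h2] at this
    have hrNS : (r : G) ∈ Subgroup.normalizer ((S : Subgroup G) : Set G) :=
      hN _ inf_le_left (hDbot z hz hz1) (hDnorm z hz) hrNG
    have hrS : (r : G) ∈ (S : Subgroup G) := by
      have hpg : IsPGroup p ↥(R ⊓ Subgroup.normalizer ((S : Subgroup G) : Set G)) :=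
        hR.to_le inf_le_left
      exact le_sylow_of_le_normalizer S _ hpg inf_le_right (Subgroup.mem_inf.2 ⟨r.2, hrNS⟩)
    apply hrD
    rw [Subgroup.mem_subgroupOf]
    exact Subgroup.mem_inf.2 ⟨hrS, hRC r.2⟩
  obtain ⟨y, hy⟩ : ∃ y, y = g * x * g⁻¹ := ⟨_, rfl⟩
  rw [← hy] at hgx ⊢
  have hy1 : y ≠ 1 := by
    intro h
    apply hx1
    have : x = g⁻¹ * y * g := by rw [hy]; group
    rw [this, h]; group
  -- the conjugate of `C_S(x)` is a maximal `p`-subgroup of `C_G(y)`
  have hD'C : ((S : Subgroup G) ⊓ Subgroup.centralizer {x}).map (MulAut.conj g).toMonoidHom ≤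
      Subgroup.centralizer {y} := by
    rintro _ ⟨d, hd, rfl⟩
    have hdx : x * d = d * x := (hmemC x d).1 (Subgroup.mem_inf.1 hd).2
    rw [hmemC]
    show y * (g * d * g⁻¹) = (g * d * g⁻¹) * y
    rw [hy]
    calc g * x * g⁻¹ * (g * d * g⁻¹) = g * (x * d) * g⁻¹ := by group
      _ = g * (d * x) * g⁻¹ := by rw [hdx]
      _ = g * d * g⁻¹ * (g * x * g⁻¹) := by group
  have hD'pg : IsPGroup p ↥(((S : Subgroup G) ⊓ Subgroup.centralizer {x}).map
      (MulAut.conj g).toMonoidHom) := (S.isPGroup'.to_le inf_le_left).map _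
  have hDypg : IsPGroup p ↥((S : Subgroup G) ⊓ Subgroup.centralizer {y}) :=
    S.isPGroup'.to_le inf_le_left
  have hmaxD' : ∀ R : Subgroup G, IsPGroup p R → R ≤ Subgroup.centralizer {y} →
      ((S : Subgroup G) ⊓ Subgroup.centralizer {x}).map (MulAut.conj g).toMonoidHom ≤ R →
      R ≤ ((S : Subgroup G) ⊓ Subgroup.centralizer {x}).map (MulAut.conj g).toMonoidHom := by
    intro R hR hRC hD'R
    have hR' : IsPGroup p ↥(R.comap (MulAut.conj g).toMonoidHom) :=
      hR.comap_of_injective _ (MulAut.conj g).injective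
    have h1 : R.comap (MulAut.conj g).toMonoidHom ≤ Subgroup.centralizer {x} := by
      intro r hr
      have hr' : g * r * g⁻¹ ∈ Subgroup.centralizer {y} := hRC hr
      rw [hmemC] at hr' ⊢
      have : x * r = g⁻¹ * (y * (g * r * g⁻¹)) * g := by rw [hy]; group
      rw [this, hr', hy]; group
    have h3 : (S : Subgroup G) ⊓ Subgroup.centralizer {x} ≤
        R.comap (MulAut.conj g).toMonoidHom := by
      intro d hd
      exact hD'R ⟨d, hd, rfl⟩
    have h4 := hmaxD x hx hx1 _ hR' h1 h3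
    intro r hr
    refine ⟨g⁻¹ * r * g, h4 ?_, ?_⟩
    · show g * (g⁻¹ * r * g) * g⁻¹ ∈ R
      have : g * (g⁻¹ * r * g) * g⁻¹ = r := by group
      rw [this]; exact hr
    · show g * (g⁻¹ * r * g) * g⁻¹ = r
      group
  obtain ⟨Q₁, hQ₁⟩ := Cfsg.Agent.Helper14.exists_sylow_sub_ge (Subgroup.centralizer {y})
    ((S : Subgroup G) ⊓ Subgroup.centralizer {y}) inf_le_right hDypg
  obtain ⟨Q₂, hQ₂⟩ := Cfsg.Agent.Helper14.exists_sylow_sub_ge (Subgroup.centralizer {y})
    (((S : Subgroup G) ⊓ Subgroup.centralizer {x}).map (MulAut.conj g).toMonoidHom) hD'C hD'pg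
  have hQ₁' : (Q₁ : Subgroup (Subgroup.centralizer {y})).map (Subgroup.centralizer {y}).subtype =
      (S : Subgroup G) ⊓ Subgroup.centralizer {y} :=
    le_antisymm (hmaxD y hgx hy1 _ (Q₁.isPGroup'.map _) (Subgroup.map_subtype_le _) hQ₁) hQ₁
  have hQ₂' : (Q₂ : Subgroup (Subgroup.centralizer {y})).map (Subgroup.centralizer {y}).subtype =
      ((S : Subgroup G) ⊓ Subgroup.centralizer {x}).map (MulAut.conj g).toMonoidHom :=
    le_antisymm (hmaxD' _ (Q₂.isPGroup'.map _) (Subgroup.map_subtype_le _) hQ₂) hQ₂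
  obtain ⟨c, hcC, hc⟩ := Cfsg.Agent.Helper14.sylow_sub_conj (Subgroup.centralizer {y}) Q₂ Q₁
  rw [hQ₁', hQ₂'] at hc
  have hDy_eq : (S : Subgroup G) ⊓ Subgroup.centralizer {y} =
      ((S : Subgroup G) ⊓ Subgroup.centralizer {x}).map (MulAut.conj (c * g)).toMonoidHom := by
    rw [hc, Subgroup.map_map]
    congr 1
    ext w
    simp [MulAut.conj_apply, mul_assoc]
  have h5 : (S : Subgroup G).map (MulAut.conj (c * g)).toMonoidHom ≤ Subgroup.normalizer
      ((((S : Subgroup G) ⊓ Subgroup.centralizer {y} : Subgroup G)) : Set G) := by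
    rw [hDy_eq, ← Subgroup.map_equiv_normalizer_eq]
    exact Subgroup.map_mono (hDnorm x hx)
  have h6 : (S : Subgroup G).map (MulAut.conj (c * g)).toMonoidHom ≤
      Subgroup.normalizer ((S : Subgroup G) : Set G) :=
    h5.trans (hN _ inf_le_left (hDbot y hgx hy1) (hDnorm y hgx))
  have h7 : (S : Subgroup G).map (MulAut.conj (c * g)).toMonoidHom ≤ S :=
    le_sylow_of_le_normalizer S _ (S.isPGroup'.map _) h6
  have h8 : c * g ∈ Subgroup.normalizer ((S : Subgroup G) : Set G) := by
    have h9 : (c * g) • S = S := by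
      apply Sylow.ext
      rw [Sylow.coe_subgroup_smul]
      apply Subgroup.eq_of_le_of_card_ge
      · exact h7
      · have : MulAut.conj (c * g) • (S : Subgroup G) =
            (S : Subgroup G).map (MulAut.conj (c * g)).toMonoidHom := rfl
        rw [this, Subgroup.card_map_of_injective (MulAut.conj (c * g)).injective]
    exact Sylow.smul_eq_iff_mem_normalizer.1 h9
  obtain ⟨s, hs, hsx⟩ := hact _ h8 x hx
  refine ⟨s, hs, ?_⟩
  rw [← hsx]
  have hcy : y * c = c * y := (hmemC y c).1 hcC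
  calc y = c * y * c⁻¹ := by rw [← hcy]; group
    _ = c * g * x * (c * g)⁻¹ := by rw [hy]; group

/-- Normal `p`-complement from `fusion_class_two`. -/
theorem npc_class_two {G : Type u} [Group G] [Finite G] (p : ℕ) [Fact p.Prime] (S : Sylow p G)
    (hcl : ∀ a ∈ (S : Subgroup G), ∀ b ∈ (S : Subgroup G), ∀ c ∈ (S : Subgroup G),
      (a * b * a⁻¹ * b⁻¹) * c = c * (a * b * a⁻¹ * b⁻¹))
    (hact : ∀ m ∈ Subgroup.normalizer ((S : Subgroup G) : Set G), ∀ x ∈ (S : Subgroup G),
      ∃ s ∈ (S : Subgroup G), m * x * m⁻¹ = s * x * s⁻¹)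
    (hN : ∀ X : Subgroup G, X ≤ S → X ≠ ⊥ →
      (S : Subgroup G) ≤ Subgroup.normalizer (X : Set G) →
      Subgroup.normalizer (X : Set G) ≤ Subgroup.normalizer ((S : Subgroup G) : Set G)) :
    Cfsg.HasNormalPComplement p G :=
  Cfsg.Agent.Helper1.npc_of_fusion _ G rfl p S
    (fun x hx g hgx => fusion_class_two p S hcl hact hN x hx g hgx)

end Cfsg.Agent.Helper21
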