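import Mathlib
import Cfsg.Agent.Helper23.QP1
import Cfsg.Agent.Helper23.DStar
import Cfsg.Agent.Helper1.Hall

/-!
helper21: subgroups of `SL₂(K)` of odd order which are solvable and generated by two
elements of order dividing `p = char K` are `p`-groups.
-/

set_option autoImplicit false

namespace Cfsg.Agent.Helper21.OddSL2

open Matrix

variable {K : Type*} [Field K]

/-- A matrix commuting with a non-scalar `2 × 2` matrix is a polynomial in it. -/
theorem comm_form (A B : Matrix (Fin 2) (Fin 2) K)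
    (hA : ∀ c : K, A ≠ c • (1 : Matrix (Fin 2) (Fin 2) K))
    (h : B * A = A * B) : ∃ x y : K, B = x • (1 : Matrix (Fin 2) (Fin 2) K) + y • A := by
  have h01 := congrFun (congrFun h 0) 1
  have h10 := congrFun (congrFun h 1) 0
  have h00 := congrFun (congrFun h 0) 0
  simp only [Matrix.mul_apply, Fin.sum_univ_two] at h00 h01 h10
  by_cases hb : A 0 1 = 0
  · by_cases hc : A 1 0 = 0
    · have hd : A 0 0 - A 1 1 ≠ 0 := by
        intro hd
        apply hA (A 0 0)
        ext i j
        fin_cases i <;> fin_cases j <;> simp [hb, hc] <;> linear_combination -hd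
      rw [hb] at h01
      rw [hc] at h10
      have hB01 : B 0 1 = 0 := by
        have : B 0 1 * (A 0 0 - A 1 1) = 0 := by linear_combination -h01
        rcases mul_eq_zero.1 this with h | h
        · exact h
        · exact absurd h hd
      have hB10 : B 1 0 = 0 := by
        have : B 1 0 * (A 0 0 - A 1 1) = 0 := by linear_combination h10
        rcases mul_eq_zero.1 this with h | h
        · exact h
        · exact absurd h hd
      refine ⟨B 0 0 - (B 0 0 - B 1 1) / (A 0 0 - A 1 1) * A 0 0,
        (B 0 0 - B 1 1) / (A 0 0 - A 1 1), ?_⟩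
      ext i j
      fin_cases i <;> fin_cases j <;> simp [hb, hc, hB01, hB10]
      field_simp
      ring
    · refine ⟨B 0 0 - B 1 0 / A 1 0 * A 0 0, B 1 0 / A 1 0, ?_⟩
      ext i j
      fin_cases i <;> fin_cases j <;> simp
      · field_simp
        linear_combination h00
      · field_simp
      · field_simp
        linear_combination h10
  · refine ⟨B 0 0 - B 0 1 / A 0 1 * A 0 0, B 0 1 / A 0 1, ?_⟩
    ext i j
    fin_cases i <;> fin_cases j <;> simp
    · field_simp
    · field_simp
      linear_combination -h00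
    · field_simp
      linear_combination -h01

/-- Matrices commuting with a non-scalar `2 × 2` matrix commute with each other. -/
theorem comm_of_comm (A B C : Matrix (Fin 2) (Fin 2) K)
    (hA : ∀ c : K, A ≠ c • (1 : Matrix (Fin 2) (Fin 2) K))
    (hB : B * A = A * B) (hC : C * A = A * C) : B * C = C * B := by
  obtain ⟨x, y, rfl⟩ := comm_form A B hA hB
  obtain ⟨x', y', rfl⟩ := comm_form A C hA hC
  simp only [add_mul, mul_add, Matrix.smul_mul, Matrix.mul_smul, Matrix.one_mul, Matrix.mul_one,
    smul_smul]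
  rw [mul_comm x' x, mul_comm y' y, mul_comm x' y, mul_comm y' x]
  abel


section Main

variable {p : ℕ} [Fact p.Prime] [CharP K p]

theorem two_ne_zero_of_odd_char (hp2 : p ≠ 2) : (2 : K) ≠ 0 := by
  intro h
  have h2 : ((2 : ℕ) : K) = 0 := by exact_mod_cast h
  rw [CharP.cast_eq_zero_iff K p] at h2
  have hp : p.Prime := Fact.out
  exact hp2 ((Nat.prime_dvd_prime_iff_eq hp Nat.prime_two).1 h2)

/-- If `h ^ p = 1` and `h n h⁻¹` commutes with the non-scalar `n`, then `h` commutes with `n`. -/
theorem commute_of_conj_commute (hp2 : p ≠ 2) (h n : Matrix.SpecialLinearGroup (Fin 2) K)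
    (hh : h ^ p = 1)
    (hn : ∀ c : K, (n : Matrix (Fin 2) (Fin 2) K) ≠ c • (1 : Matrix (Fin 2) (Fin 2) K))
    (hc : (h * n * h⁻¹) * n = n * (h * n * h⁻¹)) : h * n = n * h := by
  obtain ⟨A, hAdef⟩ : ∃ A : Matrix (Fin 2) (Fin 2) K, A = (n : Matrix (Fin 2) (Fin 2) K) :=
    ⟨_, rfl⟩
  obtain ⟨Hm, hHm⟩ : ∃ Hm : Matrix (Fin 2) (Fin 2) K, Hm = (h : Matrix (Fin 2) (Fin 2) K) :=
    ⟨_, rfl⟩
  obtain ⟨Hi, hHi⟩ : ∃ Hi : Matrix (Fin 2) (Fin 2) K,
      Hi = ((h⁻¹ : Matrix.SpecialLinearGroup (Fin 2) K) : Matrix (Fin 2) (Fin 2) K) := ⟨_, rfl⟩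
  have h1 : Hm * Hi = 1 := by
    rw [hHm, hHi, ← Matrix.SpecialLinearGroup.coe_mul, mul_inv_cancel,
      Matrix.SpecialLinearGroup.coe_one]
  have h2 : Hi * Hm = 1 := by
    rw [hHm, hHi, ← Matrix.SpecialLinearGroup.coe_mul, inv_mul_cancel,
      Matrix.SpecialLinearGroup.coe_one]
  have hn' : ∀ c : K, A ≠ c • (1 : Matrix (Fin 2) (Fin 2) K) := by rw [hAdef]; exact hn
  have hcm : (Hm * A * Hi) * A = A * (Hm * A * Hi) := by
    have := congrArg (fun g : Matrix.SpecialLinearGroup (Fin 2) K =>
      (g : Matrix (Fin 2) (Fin 2) K)) hc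
    simp only [Matrix.SpecialLinearGroup.coe_mul] at this
    rw [hHm, hHi, hAdef]; exact this
  obtain ⟨x, y, hxy⟩ := comm_form A (Hm * A * Hi) hn' hcm
  have hpow : ∀ k : ℕ, ∃ xk : K,
      Hm ^ k * A * Hi ^ k = xk • (1 : Matrix (Fin 2) (Fin 2) K) + y ^ k • A := by
    intro k
    induction k with
    | zero => exact ⟨0, by simp⟩
    | succ k ih =>
      obtain ⟨xk, hxk⟩ := ih
      refine ⟨xk + y ^ k * x, ?_⟩
      have e1 : Hm ^ (k + 1) * A * Hi ^ (k + 1) = Hm * (Hm ^ k * A * Hi ^ k) * Hi := by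
        rw [pow_succ' Hm, pow_succ Hi]; simp only [Matrix.mul_assoc]
      have e2 : Hm * (xk • (1 : Matrix (Fin 2) (Fin 2) K) + y ^ k • A) * Hi
          = xk • (Hm * Hi) + y ^ k • (Hm * A * Hi) := by
        rw [Matrix.mul_add, Matrix.add_mul, Matrix.mul_smul, Matrix.smul_mul, Matrix.mul_one,
          Matrix.mul_smul, Matrix.smul_mul]
      rw [e1, hxk, e2, h1, hxy, smul_add, smul_smul, smul_smul, add_smul, pow_succ]
      abel
  obtain ⟨xp, hxp⟩ := hpow p
  have hHmp : Hm ^ p = 1 := by
    rw [hHm, ← Matrix.SpecialLinearGroup.coe_pow, hh, Matrix.SpecialLinearGroup.coe_one]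
  have hHip : Hi ^ p = 1 := by
    rw [hHi, ← Matrix.SpecialLinearGroup.coe_pow, inv_pow, hh, inv_one,
      Matrix.SpecialLinearGroup.coe_one]
  rw [hHmp, hHip, Matrix.one_mul, Matrix.mul_one] at hxp
  have hy : y ^ p = 1 := by
    by_contra hne
    have hne' : 1 - y ^ p ≠ 0 := sub_ne_zero.2 (Ne.symm hne)
    apply hn' (xp / (1 - y ^ p))
    have e2 : (1 - y ^ p) • A = xp • (1 : Matrix (Fin 2) (Fin 2) K) := by
      rw [sub_smul, one_smul]; exact sub_eq_of_eq_add hxp
    rw [div_eq_inv_mul, ← smul_smul, ← e2, smul_smul, inv_mul_cancel₀ hne', one_smul]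
  have hy1 : y = 1 := Cfsg.Agent.Helper23.QP.pow_char_eq_one (p := p) hy
  rw [hy1, one_smul] at hxy
  have htr : Matrix.trace (Hm * A * Hi) = Matrix.trace A := by
    rw [Matrix.trace_mul_comm, ← Matrix.mul_assoc, h2, Matrix.one_mul]
  rw [hxy, Matrix.trace_add, Matrix.trace_smul, Matrix.trace_one, Fintype.card_fin] at htr
  have hx : x = 0 := by
    have h3 : x * 2 = 0 := by
      have : x • ((2 : ℕ) : K) = 0 := by
        have := add_eq_right.1 htr
        exact this
      simpa using this
    rcases mul_eq_zero.1 h3 with h | h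
    · exact h
    · exact absurd h (two_ne_zero_of_odd_char (p := p) hp2)
  rw [hx, zero_smul, zero_add] at hxy
  have hfin : Hm * A = A * Hm := by
    calc Hm * A = Hm * A * (Hi * Hm) := by rw [h2, Matrix.mul_one]
      _ = (Hm * A * Hi) * Hm := by simp only [Matrix.mul_assoc]
      _ = A * Hm := by rw [hxy]
  apply Subtype.ext
  show (h : Matrix (Fin 2) (Fin 2) K) * (n : Matrix (Fin 2) (Fin 2) K) =
    (n : Matrix (Fin 2) (Fin 2) K) * (h : Matrix (Fin 2) (Fin 2) K)
  rw [← hHm, ← hAdef]; exact hfin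

/-- A solvable subgroup of odd order of `SL₂(K)` generated by two elements of order dividing
`p = char K` is a `p`-group. -/
theorem sl2_odd_pgroup (hp2 : p ≠ 2) (Q : Subgroup (Matrix.SpecialLinearGroup (Fin 2) K))
    [Finite Q] (hodd : Odd (Nat.card Q)) (hsolv : Group.IsSolvable Q)
    (a b : Matrix.SpecialLinearGroup (Fin 2) K) (hQ : Q = Subgroup.closure {a, b})
    (ha : a ^ p = 1) (hb : b ^ p = 1) : IsPGroup p Q := by
  have haQ : a ∈ Q := by rw [hQ]; exact Subgroup.subset_closure (Set.mem_insert _ _)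
  have hbQ : b ∈ Q := by rw [hQ]; exact Subgroup.subset_closure (Set.mem_insert_of_mem _ rfl)
  have hab : a * b = b * a := by
    by_cases htriv : Nontrivial Q
    · haveI := hsolv
      obtain ⟨N, r, k, hNn, hNc, hr, hk, hcard⟩ :=
        Cfsg.Agent.Helper1.minimal_normal_data (G := Q)
      have hNne : N ≠ ⊥ := by
        intro h
        rw [h, Subgroup.card_bot] at hcard
        have := Nat.one_lt_pow hk.ne' hr.one_lt
        omega
      obtain ⟨⟨n₀, hn₀N⟩, hn₀1'⟩ := (Subgroup.ne_bot_iff_exists_ne_one).1 hNne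
      have hn₀1 : n₀ ≠ 1 := fun h => hn₀1' (Subtype.ext h)
      have hns : ∀ c : K, ((n₀ : Matrix.SpecialLinearGroup (Fin 2) K) :
          Matrix (Fin 2) (Fin 2) K) ≠ c • (1 : Matrix (Fin 2) (Fin 2) K) := by
        intro c hc
        have hdet := (n₀ : Matrix.SpecialLinearGroup (Fin 2) K).2
        have hdet' : Matrix.det ((n₀ : Matrix.SpecialLinearGroup (Fin 2) K) :
            Matrix (Fin 2) (Fin 2) K) = 1 := hdet
        rw [hc, Matrix.det_smul, Matrix.det_one, Fintype.card_fin, mul_one] at hdet'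
        have hcc : c * c = 1 := by rw [← hdet']; ring
        rcases mul_self_eq_one_iff.1 hcc with h | h
        · apply hn₀1
          apply Subtype.ext
          apply Subtype.ext
          rw [hc, h, one_smul]; rfl
        · have hsq : n₀ ^ 2 = 1 := by
            apply Subtype.ext
            apply Subtype.ext
            show ((n₀ : Matrix.SpecialLinearGroup (Fin 2) K) ^ 2 :
              Matrix.SpecialLinearGroup (Fin 2) K).1 = 1
            rw [pow_two]
            show ((n₀ : Matrix.SpecialLinearGroup (Fin 2) K) : Matrix (Fin 2) (Fin 2) K) *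
              ((n₀ : Matrix.SpecialLinearGroup (Fin 2) K) : Matrix (Fin 2) (Fin 2) K) = 1
            rw [hc, h]
            simp
          have hord : orderOf n₀ = 2 := orderOf_eq_prime hsq hn₀1
          have hdvd := orderOf_dvd_natCard n₀
          rw [hord] at hdvd
          exact (Nat.not_even_iff_odd.2 hodd) (even_iff_two_dvd.2 hdvd)
      have key : ∀ h : Matrix.SpecialLinearGroup (Fin 2) K, h ∈ Q → h ^ p = 1 →
          h * (n₀ : Matrix.SpecialLinearGroup (Fin 2) K) =
            (n₀ : Matrix.SpecialLinearGroup (Fin 2) K) * h := by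
        intro h hhQ hhp
        apply commute_of_conj_commute hp2 h (n₀ : Matrix.SpecialLinearGroup (Fin 2) K) hhp hns
        have hconj : (⟨h, hhQ⟩ : Q) * n₀ * (⟨h, hhQ⟩ : Q)⁻¹ ∈ N := hNn.conj_mem n₀ hn₀N _
        have := Cfsg.Agent.Helper23.comm_of_isMulCommutative hNc _ hconj _ hn₀N
        exact congrArg Subtype.val this
      have h1 := key a haQ ha
      have h2 := key b hbQ hb
      have h1' := congrArg (fun g : Matrix.SpecialLinearGroup (Fin 2) K =>
        (g : Matrix (Fin 2) (Fin 2) K)) h1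
      have h2' := congrArg (fun g : Matrix.SpecialLinearGroup (Fin 2) K =>
        (g : Matrix (Fin 2) (Fin 2) K)) h2
      simp only [Matrix.SpecialLinearGroup.coe_mul] at h1' h2'
      apply Subtype.ext
      show (a : Matrix (Fin 2) (Fin 2) K) * (b : Matrix (Fin 2) (Fin 2) K) =
        (b : Matrix (Fin 2) (Fin 2) K) * (a : Matrix (Fin 2) (Fin 2) K)
      exact comm_of_comm _ _ _ hns h1' h2'
    · rw [not_nontrivial_iff_subsingleton] at htriv
      have ha1 : a = 1 := by
        have := Subsingleton.elim (⟨a, haQ⟩ : Q) 1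
        exact congrArg Subtype.val this
      rw [ha1, one_mul, mul_one]
  have hcomm : ∀ x ∈ ({a, b} : Set (Matrix.SpecialLinearGroup (Fin 2) K)),
      ∀ y ∈ ({a, b} : Set (Matrix.SpecialLinearGroup (Fin 2) K)), x * y = y * x := by
    intro x hx y hy
    rcases hx with rfl | hx
    · rcases hy with rfl | hy
      · rfl
      · rw [Set.mem_singleton_iff] at hy; rw [hy]; exact hab
    · rw [Set.mem_singleton_iff] at hx
      rcases hy with rfl | hy
      · rw [hx]; exact hab.symm
      · rw [Set.mem_singleton_iff] at hy; rw [hx, hy]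
  have hQc : IsMulCommutative (Subgroup.closure ({a, b} : Set (Matrix.SpecialLinearGroup (Fin 2) K))) :=
    Subgroup.isMulCommutative_closure hcomm
  have hall : ∀ q ∈ Subgroup.closure ({a, b} : Set (Matrix.SpecialLinearGroup (Fin 2) K)),
      q ^ p = 1 := by
    intro q hq
    induction hq using Subgroup.closure_induction with
    | mem x hx =>
      rcases hx with rfl | hx
      · exact ha
      · rw [Set.mem_singleton_iff] at hx; rw [hx]; exact hb
    | one => exact one_pow _
    | mul x y hx hy ihx ihy =>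
      have hc : x * y = y * x := Cfsg.Agent.Helper23.comm_of_isMulCommutative hQc x hx y hy
      rw [(show Commute x y from hc).mul_pow, ihx, ihy, one_mul]
    | inv x hx ih => rw [inv_pow, ih, inv_one]
  intro q
  refine ⟨1, ?_⟩
  apply Subtype.ext
  rw [pow_one]
  exact hall q (hQ ▸ q.2)

end Main

end Cfsg.Agent.Helper21.OddSL2
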