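import Mathlib
import Cfsg.Agent.Helper21.OddSL2
import Cfsg.Agent.Helper23.QP1
import Cfsg.Agent.Helper23.PSolv
import Cfsg.Agent.Helper1.Fitting
import Cfsg.Agent.S0044

/-!
helper21: a solvable group of odd order acting faithfully and irreducibly on an elementary
abelian `p`-group (`p` odd) contains no non-trivial quadratic element.
-/

set_option autoImplicit false

namespace Cfsg.Agent.Helper21.OddQuad

open Cfsg.Agent.Helper23.QP

universe u

section Mod

variable {A : Type u} [Group A] (K : Type) [Field K]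

/-- The `K`-space of additive functions `A → K`. -/
def addFun : Submodule K (A → K) where
  carrier := {f | ∀ a b : A, f (a * b) = f a + f b}
  add_mem' := by
    intro f g hf hg a b
    simp only [Pi.add_apply, hf a b, hg a b]; ring
  zero_mem' := by intro a b; simp
  smul_mem' := by
    intro c f hf a b
    simp only [Pi.smul_apply, smul_eq_mul, hf a b]; ring

theorem addFun_mul (w : addFun (A := A) K) (a b : A) : w.1 (a * b) = w.1 a + w.1 b := w.2 a b

theorem addFun_div (w : addFun (A := A) K) (a b : A) : w.1 (a / b) = w.1 a - w.1 b := by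
  have h := w.2 (a / b) b
  rw [div_mul_cancel] at h
  rw [h]; ring

/-- The action of an automorphism on additive functions. -/
def actL (γ : MulAut A) : Module.End K (addFun (A := A) K) where
  toFun f := ⟨fun a => f.1 (γ⁻¹ a), by
    intro a b
    show f.1 (γ⁻¹ (a * b)) = f.1 (γ⁻¹ a) + f.1 (γ⁻¹ b)
    rw [map_mul]; exact f.2 _ _⟩
  map_add' f g := by apply Subtype.ext; funext a; rfl
  map_smul' c f := by apply Subtype.ext; funext a; rfl

theorem actL_apply (γ : MulAut A) (w : addFun (A := A) K) (a : A) :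
    (actL K γ w).1 a = w.1 (γ⁻¹ a) := rfl

/-- The representation of a group of automorphisms on additive functions. -/
def rho (Γ : Subgroup (MulAut A)) : Γ →* Module.End K (addFun (A := A) K) where
  toFun γ := actL K (γ : MulAut A)
  map_one' := by
    apply LinearMap.ext
    intro f
    apply Subtype.ext
    funext a
    show f.1 (((1 : Γ) : MulAut A)⁻¹ a) = f.1 a
    simp
  map_mul' γ γ' := by
    apply LinearMap.ext
    intro f
    apply Subtype.ext
    funext a
    show f.1 ((((γ * γ' : Γ) : MulAut A))⁻¹ a) = f.1 ((γ' : MulAut A)⁻¹ ((γ : MulAut A)⁻¹ a))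
    rw [Subgroup.coe_mul, mul_inv_rev]; rfl

theorem rho_apply (Γ : Subgroup (MulAut A)) (γ : Γ) : rho K Γ γ = actL K (γ : MulAut A) := rfl

/-- Quadratic automorphisms act quadratically on additive functions. -/
theorem quad_actL (γ : MulAut A) (hq : ∀ a : A, γ (γ a / a) = γ a / a) : Quad (actL K γ) := by
  intro w
  apply Subtype.ext
  funext a
  show (actL K γ w).1 (γ⁻¹ a) - w.1 (γ⁻¹ a) = (actL K γ w).1 a - w.1 a
  rw [actL_apply, actL_apply]
  obtain ⟨u, hu⟩ : ∃ u : A, u = γ⁻¹ (γ⁻¹ a) := ⟨_, rfl⟩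
  have h1 : γ u = γ⁻¹ a := by rw [hu]; simp
  have h2 : γ (γ u) = a := by rw [h1]; simp
  have h3 := hq u
  rw [map_div] at h3
  have h4 := congrArg w.1 h3
  rw [addFun_div, addFun_div, h2, h1] at h4
  rw [← hu]
  linear_combination h4

theorem quad_conj (γ f : MulAut A) (hq : ∀ a : A, γ (γ a / a) = γ a / a) :
    ∀ a : A, (f * γ * f⁻¹) ((f * γ * f⁻¹) a / a) = (f * γ * f⁻¹) a / a := by
  intro a
  obtain ⟨a', ha'⟩ : ∃ a' : A, a' = f⁻¹ a := ⟨_, rfl⟩
  have h1 : (f * γ * f⁻¹) a = f (γ a') := by rw [ha']; rfl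
  have h2 : a = f a' := by rw [ha']; simp
  have h3 : (f * γ * f⁻¹) a / a = f (γ a' / a') := by
    rw [h1, map_div, ← h2]
  rw [h3]
  show f (γ (f⁻¹ (f (γ a' / a')))) = f (γ a' / a')
  have h4 : f⁻¹ (f (γ a' / a')) = γ a' / a' := by simp
  rw [h4, hq a']

end Mod


section Sep

variable {A : Type u} [Group A] (K : Type) [Field K] {p : ℕ} [Fact p.Prime] [CharP K p]

theorem exists_dual_ne {V : Type*} [AddCommGroup V] [Module (ZMod p) V] (v : V) (hv : v ≠ 0) :
    ∃ φ : V →+ ZMod p, φ v ≠ 0 := by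
  have h1 := (Module.forall_dual_apply_eq_zero_iff (ZMod p) v).not.2 hv
  push Not at h1
  obtain ⟨φ, hφ⟩ := h1
  exact ⟨φ.toAddMonoidHom, hφ⟩

theorem exists_char_ne {B : Type*} [CommGroup B] (hexp : ∀ b : B, b ^ p = 1) (c : B)
    (hc : c ≠ 1) : ∃ ψ : B → ZMod p, (∀ a b, ψ (a * b) = ψ a + ψ b) ∧ ψ c ≠ 0 := by
  letI iM : Module (ZMod p) (Additive B) := AddCommGroup.zmodModule (n := p) (fun x => by
    show Additive.ofMul ((Additive.toMul x) ^ p) = 0
    rw [hexp]; rfl)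
  have hv : Additive.ofMul c ≠ (0 : Additive B) := fun h => hc h
  obtain ⟨φ, hφ⟩ := exists_dual_ne (p := p) (Additive.ofMul c) hv
  refine ⟨fun b => φ (Additive.ofMul b), fun a b => ?_, hφ⟩
  show φ (Additive.ofMul (a * b)) = _
  rw [ofMul_mul, map_add]

/-- Additive characters with values in `K` separate the points of an elementary abelian
`p`-group. -/
theorem exists_addFun_ne (hcomm : ∀ a b : A, a * b = b * a) (hexp : ∀ a : A, a ^ p = 1)
    (c : A) (hc : c ≠ 1) : ∃ χ : addFun (A := A) K, χ.1 c ≠ 0 := by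
  letI iC : CommGroup A := { (inferInstance : Group A) with mul_comm := hcomm }
  obtain ⟨ψ, hψ, hψc⟩ := exists_char_ne (p := p) (B := A) hexp c hc
  refine ⟨⟨fun a => ZMod.castHom (dvd_refl p) K (ψ a), ?_⟩, ?_⟩
  · intro a b
    show ZMod.castHom (dvd_refl p) K (ψ (a * b)) = _
    rw [hψ a b, map_add]
  · show ZMod.castHom (dvd_refl p) K (ψ c) ≠ 0
    rw [Ne, map_eq_zero]
    exact hψc

theorem actL_eq_one (hcomm : ∀ a b : A, a * b = b * a) (hexp : ∀ a : A, a ^ p = 1)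
    (δ : MulAut A) (h : actL K δ = 1) : δ = 1 := by
  have h1 : ∀ a : A, δ⁻¹ a = a := by
    intro a
    by_contra hne
    have hc : δ⁻¹ a / a ≠ 1 := fun h' => hne (div_eq_one.1 h')
    obtain ⟨χ, hχ⟩ := exists_addFun_ne K hcomm hexp _ hc
    apply hχ
    rw [addFun_div]
    have h2 := congrArg (fun F : Module.End K (addFun (A := A) K) => (F χ).1 a) h
    have h3 : (actL K δ χ).1 a = χ.1 a := h2
    rw [actL_apply] at h3
    rw [h3, sub_self]
  have h2 : δ⁻¹ = 1 := MulEquiv.ext h1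
  exact inv_eq_one.1 h2

end Sep

section Grp

variable {H : Type*} [Group H] [Finite H]

/-- In a solvable group with `O_p = 1`, a non-trivial element `x` of order `p` has a conjugate
`f x f⁻¹` such that `x⁻¹ (f x f⁻¹)` is a non-trivial `q`-element for a prime `q ≠ p`. -/
theorem exists_noncommuting (hsolv : Group.IsSolvable H) {p : ℕ} [Fact p.Prime]
    (hOp : Cfsg.pCore p H = ⊥) (x : H) (hxp : x ^ p = 1) (hx1 : x ≠ 1) :
    ∃ (f : H) (q : ℕ) (j : ℕ), q.Prime ∧ q ≠ p ∧ (x⁻¹ * (f * x * f⁻¹)) ^ (q ^ j) = 1 ∧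
      x⁻¹ * (f * x * f⁻¹) ≠ 1 := by
  have hp : p.Prime := Fact.out
  by_contra hcon
  push Not at hcon
  have hcomm : ∀ q : Nat.Primes, Cfsg.pCore (q : ℕ) H ≤ Subgroup.centralizer ({x} : Set H) := by
    intro q
    by_cases hq : (q : ℕ) = p
    · rw [hq, hOp]; exact bot_le
    · intro f hf
      rw [Subgroup.mem_centralizer_iff]
      intro y hy
      rw [Set.mem_singleton_iff] at hy
      subst hy
      by_contra hne
      haveI : Fact (q : ℕ).Prime := ⟨q.2⟩
      have hn := Cfsg.Agent.Helper1.pCore_normal (q : ℕ) H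
      have hr : y⁻¹ * (f * y * f⁻¹) ∈ Cfsg.pCore (q : ℕ) H := by
        have h1 : y⁻¹ * f * y⁻¹⁻¹ ∈ Cfsg.pCore (q : ℕ) H := hn.conj_mem f hf y⁻¹
        have h2 : y⁻¹ * (f * y * f⁻¹) = (y⁻¹ * f * y⁻¹⁻¹) * f⁻¹ := by group
        rw [h2]; exact Subgroup.mul_mem _ h1 (Subgroup.inv_mem _ hf)
      obtain ⟨j, hj⟩ := (Cfsg.Agent.Helper1.pCore_isPGroup (q : ℕ) H) ⟨_, hr⟩
      have hj' : (y⁻¹ * (f * y * f⁻¹)) ^ ((q : ℕ) ^ j) = 1 := congrArg Subtype.val hj
      have h3 := hcon f q j q.2 hq hj'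
      apply hne
      have h4 : f * y * f⁻¹ = y := by
        calc f * y * f⁻¹ = y * (y⁻¹ * (f * y * f⁻¹)) := by group
          _ = y := by rw [h3, mul_one]
      calc y * f = (f * y * f⁻¹) * f := by rw [h4]
        _ = f * y := by group
  have hF : Cfsg.fittingSubgroup H ≤ Subgroup.centralizer ({x} : Set H) := by
    rw [Cfsg.Agent.Helper1.fitting_eq_iSup_primes]
    exact iSup_le hcomm
  have hxC : x ∈ Subgroup.centralizer (Cfsg.fittingSubgroup H : Set H) := by
    rw [Subgroup.mem_centralizer_iff]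
    intro f hf
    have h1 := hF hf
    rw [Subgroup.mem_centralizer_iff] at h1
    exact (h1 x rfl).symm
  haveI := hsolv
  have hxF : x ∈ Cfsg.fittingSubgroup H := Cfsg.Agent.S0044.result hxC
  have hFle : Cfsg.fittingSubgroup H ≤ Cfsg.pPrimeCore p H := by
    rw [Cfsg.Agent.Helper1.fitting_eq_iSup_primes]
    apply iSup_le
    intro q
    by_cases hq : (q : ℕ) = p
    · rw [hq, hOp]; exact bot_le
    · haveI : Fact (q : ℕ).Prime := ⟨q.2⟩
      apply Cfsg.Agent.Helper23.le_pPrimeCore (Cfsg.Agent.Helper1.pCore_normal (q : ℕ) H)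
      obtain ⟨k, hk⟩ := IsPGroup.iff_card.1 (Cfsg.Agent.Helper1.pCore_isPGroup (q : ℕ) H)
      rw [hk]
      exact Nat.Coprime.pow_left k ((Nat.coprime_primes q.2 hp).2 hq)
  have hx' := hFle hxF
  have hco := Cfsg.Agent.Helper23.pPrimeCore_coprime (G := H) p
  have h1 := Cfsg.Agent.Helper23.pow_card_subgroup_eq_one _ hx'
  have h2 : x ^ (Nat.gcd p (Nat.card (Cfsg.pPrimeCore p H))) = 1 := pow_gcd_eq_one.2 ⟨hxp, h1⟩
  rw [Nat.Coprime.gcd_eq_one hco.symm, pow_one] at h2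
  exact hx1 h2

end Grp

section Irr

variable {A : Type u} [Group A] [Finite A] {p : ℕ} [Fact p.Prime]

/-- A group acting faithfully and irreducibly on a `p`-group has no non-trivial normal
`p`-subgroup. -/
theorem pCore_eq_bot_of_irr (hexp : ∀ a : A, a ^ p = 1) (G₀ : Subgroup (MulAut A))
    (hirr : ∀ B : Subgroup A, (∀ γ ∈ G₀, ∀ b ∈ B, γ b ∈ B) → B = ⊥ ∨ B = ⊤) :
    Cfsg.pCore p G₀ = ⊥ := by
  have hp : p.Prime := Fact.out
  have hTn := Cfsg.Agent.Helper1.pCore_normal p G₀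
  have hTp := Cfsg.Agent.Helper1.pCore_isPGroup p G₀
  obtain ⟨T, hT⟩ : ∃ T : Subgroup G₀, T = Cfsg.pCore p G₀ := ⟨_, rfl⟩
  rw [← hT] at hTn hTp ⊢
  let B : Subgroup A :=
    { carrier := {a | ∀ t ∈ T, ((t : G₀) : MulAut A) a = a}
      one_mem' := fun t _ => map_one _
      mul_mem' := fun {a b} ha hb t ht => by rw [map_mul, ha t ht, hb t ht]
      inv_mem' := fun {a} ha t ht => by rw [map_inv, ha t ht] }
  have hBinv : ∀ γ ∈ G₀, ∀ b ∈ B, γ b ∈ B := by
    intro γ hγ b hb t ht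
    have h1 : (⟨γ, hγ⟩ : G₀)⁻¹ * t * (⟨γ, hγ⟩ : G₀)⁻¹⁻¹ ∈ T := hTn.conj_mem t ht _
    have h2 := hb _ h1
    have h3 : ((t : G₀) : MulAut A) (γ b) =
        γ ((((⟨γ, hγ⟩ : G₀)⁻¹ * t * (⟨γ, hγ⟩ : G₀)⁻¹⁻¹ : G₀) : MulAut A) b) := by
      simp [Subgroup.coe_mul, MulAut.mul_apply]
    rw [h3, h2]
  have hBtop : B = ⊤ := by
    rcases hirr B hBinv with hB | hB
    · have hfix : MulAction.fixedPoints T A = {1} := by
        ext a
        rw [MulAction.mem_fixedPoints, Set.mem_singleton_iff]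
        constructor
        · intro h
          have : a ∈ B := fun t ht => h ⟨t, ht⟩
          rw [hB, Subgroup.mem_bot] at this
          exact this
        · rintro rfl t
          exact map_one _
      have hmod := IsPGroup.card_modEq_card_fixedPoints hTp A
      rw [hfix, Nat.card_coe_set_eq, Set.ncard_singleton] at hmod
      have hAp : IsPGroup p A := fun a => ⟨1, by rw [pow_one]; exact hexp a⟩
      obtain ⟨n, hn⟩ := IsPGroup.iff_card.1 hAp
      have hn0 : n = 0 := by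
        by_contra hne
        have h1 : p ∣ Nat.card A := by rw [hn]; exact dvd_pow_self p hne
        have h2 : Nat.card A % p = 1 % p := hmod
        rw [Nat.mod_eq_zero_of_dvd h1, Nat.mod_eq_of_lt hp.one_lt] at h2
        exact absurd h2 (by norm_num)
      rw [hn0, pow_zero] at hn
      haveI : Subsingleton A := (Nat.card_eq_one_iff_unique.1 hn).1
      exact Subsingleton.elim _ _
    · exact hB
  rw [eq_bot_iff]
  intro t ht
  rw [Subgroup.mem_bot]
  apply Subtype.ext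
  apply MulEquiv.ext
  intro a
  have : a ∈ B := by rw [hBtop]; trivial
  exact this t ht

end Irr


section Main

variable {A : Type u} [Group A] [Finite A] {p : ℕ} [Fact p.Prime]

omit [Finite A] [Fact p.Prime] in
theorem quad_pow (γ : MulAut A) (hq : ∀ a : A, γ (γ a / a) = γ a / a) (k : ℕ) (a : A) :
    (γ ^ k) a = (γ a / a) ^ k * a := by
  induction k with
  | zero => simp
  | succ k ih =>
    rw [pow_succ', MulAut.mul_apply, ih, map_mul, map_pow, hq a, pow_succ, mul_assoc,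
      div_mul_cancel]

/-- Two quadratic elements of order `p` whose "quotient" is a non-trivial `q`-element cannot
lie in a solvable group of odd order of automorphisms. -/
theorem quad_pair_false (hp2 : p ≠ 2) (hcomm : ∀ a b : A, a * b = b * a)
    (hexp : ∀ a : A, a ^ p = 1) (G₀ : Subgroup (MulAut A)) (hsolv : Group.IsSolvable G₀)
    (hodd : Odd (Nat.card G₀)) (g b : MulAut A) (hg : g ∈ G₀) (hb : b ∈ G₀)
    (hgq : ∀ a : A, g (g a / a) = g a / a) (hbq : ∀ a : A, b (b a / a) = b a / a)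
    (hgp : g ^ p = 1) (hbp : b ^ p = 1) (q j : ℕ) (hq : q.Prime) (hqp : q ≠ p)
    (hrq : (g⁻¹ * b) ^ (q ^ j) = 1) (hr1 : g⁻¹ * b ≠ 1)
    (K : Type) [Field K] [Fintype K] [CharP K p]
    (hK : ∃ e k, orderOf (g * b) = p ^ e * k ∧ k ∣ Fintype.card K - 1) : False := by
  classical
  have hp : p.Prime := Fact.out
  obtain ⟨Γ, hΓ⟩ : ∃ Γ : Subgroup (MulAut A), Γ = Subgroup.closure {g, b} := ⟨_, rfl⟩
  have hgΓ : g ∈ Γ := by rw [hΓ]; exact Subgroup.subset_closure (Set.mem_insert _ _)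
  have hbΓ : b ∈ Γ := by rw [hΓ]; exact Subgroup.subset_closure (Set.mem_insert_of_mem _ rfl)
  have hΓG : Γ ≤ G₀ := by
    rw [hΓ, Subgroup.closure_le]
    intro x hx
    rcases hx with rfl | hx
    · exact hg
    · rw [Set.mem_singleton_iff] at hx; rw [hx]; exact hb
  have hgen : Subgroup.closure {(⟨g, hgΓ⟩ : Γ), ⟨b, hbΓ⟩} = ⊤ := by
    subst hΓ
    have h1 := Subgroup.closure_closure_coe_preimage (k := ({g, b} : Set (MulAut A)))
    have h2 : ((↑) ⁻¹' ({g, b} : Set (MulAut A)) : Set (Subgroup.closure {g, b})) =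
        {⟨g, hgΓ⟩, ⟨b, hbΓ⟩} := by
      ext x
      simp only [Set.mem_preimage, Set.mem_insert_iff, Set.mem_singleton_iff]
      constructor
      · rintro (h | h)
        · exact Or.inl (Subtype.ext h)
        · exact Or.inr (Subtype.ext h)
      · rintro (h | h)
        · exact Or.inl (congrArg Subtype.val h)
        · exact Or.inr (congrArg Subtype.val h)
    rw [h2] at h1
    exact h1
  have hqa : Quad (rho K Γ ⟨g, hgΓ⟩) := quad_actL K g hgq
  have hqb : Quad (rho K Γ ⟨b, hbΓ⟩) := quad_actL K b hbq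
  have hnp : ¬ PG p (rho K Γ) := by
    intro hPG
    obtain ⟨m, hm⟩ := hPG ((⟨g, hgΓ⟩ : Γ)⁻¹ * ⟨b, hbΓ⟩)
    rw [← map_pow, rho_apply] at hm
    have h1 := actL_eq_one K (p := p) hcomm hexp _ hm
    have h2 : (g⁻¹ * b) ^ (p ^ m) = 1 := h1
    have h3 : (g⁻¹ * b) ^ (Nat.gcd (p ^ m) (q ^ j)) = 1 := pow_gcd_eq_one.2 ⟨h2, hrq⟩
    rw [Nat.Coprime.gcd_eq_one (Nat.Coprime.pow _ _ ((Nat.coprime_primes hp hq).2
      (Ne.symm hqp))), pow_one] at h3
    exact hr1 h3
  have hex : ∃ e k, rho K Γ ((⟨g, hgΓ⟩ : Γ) * ⟨b, hbΓ⟩) ^ (p ^ e * k) = 1 ∧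
      k ∣ Fintype.card K - 1 := by
    obtain ⟨e, k, hord, hkd⟩ := hK
    refine ⟨e, k, ?_, hkd⟩
    rw [← map_pow]
    have h1 : ((⟨g, hgΓ⟩ : Γ) * ⟨b, hbΓ⟩) ^ (p ^ e * k) = 1 := by
      apply Subtype.ext
      show (g * b) ^ (p ^ e * k) = 1
      rw [← hord]; exact pow_orderOf_eq_one _
    rw [h1, map_one]
  obtain ⟨φ, hφ⟩ := quad_pair_sl2 (p := p) (K := K) _ (addFun (A := A) K) rfl Γ
    ⟨g, hgΓ⟩ ⟨b, hbΓ⟩ hgen (rho K Γ) hqa hqb hnp hex
  apply hφ
  haveI : Finite φ.range := Finite.of_surjective φ.rangeRestrict φ.rangeRestrict_surjective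
  apply Cfsg.Agent.Helper21.OddSL2.sl2_odd_pgroup (p := p) hp2 φ.range ?_ ?_
    (φ ⟨g, hgΓ⟩) (φ ⟨b, hbΓ⟩) ?_ ?_ ?_
  · have h1 : Nat.card φ.range ∣ Nat.card Γ := Subgroup.card_range_dvd φ
    have h2 : Nat.card Γ ∣ Nat.card G₀ := Subgroup.card_dvd_of_le hΓG
    exact Odd.of_dvd_nat hodd (h1.trans h2)
  · haveI := hsolv
    haveI : Group.IsSolvable Γ :=
      solvable_of_solvable_injective (Subgroup.inclusion_injective hΓG)
    exact solvable_of_surjective φ.rangeRestrict_surjective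
  · rw [MonoidHom.range_eq_map, ← hgen, MonoidHom.map_closure, Set.image_pair]
  · rw [← map_pow]
    have h1 : (⟨g, hgΓ⟩ : Γ) ^ p = 1 := Subtype.ext hgp
    rw [h1, map_one]
  · rw [← map_pow]
    have h1 : (⟨b, hbΓ⟩ : Γ) ^ p = 1 := Subtype.ext hbp
    rw [h1, map_one]

/-- **No quadratic elements**: a solvable group of odd order acting faithfully and irreducibly
on an elementary abelian `p`-group, `p` odd, has no non-trivial quadratic element. -/
theorem quad_trivial (hp2 : p ≠ 2) (hcomm : ∀ a b : A, a * b = b * a)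
    (hexp : ∀ a : A, a ^ p = 1) (G₀ : Subgroup (MulAut A)) (hsolv : Group.IsSolvable G₀)
    (hodd : Odd (Nat.card G₀))
    (hirr : ∀ B : Subgroup A, (∀ γ ∈ G₀, ∀ b ∈ B, γ b ∈ B) → B = ⊥ ∨ B = ⊤)
    (g : MulAut A) (hg : g ∈ G₀) (hquad : ∀ a : A, g (g a / a) = g a / a) : g = 1 := by
  have hp : p.Prime := Fact.out
  by_contra hg1
  have hgp : g ^ p = 1 := by
    apply MulEquiv.ext
    intro a
    rw [quad_pow g hquad, hexp, one_mul]; rfl
  have hOp := pCore_eq_bot_of_irr hexp G₀ hirr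
  obtain ⟨f, q, j, hq, hqp, hrq, hr1⟩ := exists_noncommuting hsolv hOp (⟨g, hg⟩ : G₀)
    (Subtype.ext hgp) (fun h => hg1 (congrArg Subtype.val h))
  obtain ⟨b, hb⟩ : ∃ b : MulAut A, b = (f : MulAut A) * g * (f : MulAut A)⁻¹ := ⟨_, rfl⟩
  have hbG : b ∈ G₀ := by rw [hb]; exact G₀.mul_mem (G₀.mul_mem f.2 hg) (G₀.inv_mem f.2)
  have hbq : ∀ a : A, b (b a / a) = b a / a := by rw [hb]; exact quad_conj g _ hquad
  have hbp : b ^ p = 1 := by
    rw [hb, conj_pow, hgp, mul_one, mul_inv_cancel]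
  have hr1' : g⁻¹ * b ≠ 1 := by
    intro h
    apply hr1
    apply Subtype.ext
    rw [hb] at h
    exact h
  have hrq' : (g⁻¹ * b) ^ (q ^ j) = 1 := by
    have h1 := congrArg Subtype.val hrq
    rw [hb]; exact h1
  obtain ⟨e, k, hpk, hord⟩ := Nat.exists_eq_pow_mul_and_not_dvd
    (orderOf_pos (g * b)).ne' p hp.ne_one
  have hk0 : k ≠ 0 := by rintro rfl; exact hpk (dvd_zero p)
  have hkcop : Nat.Coprime p k := (Nat.Prime.coprime_iff_not_dvd hp).2 hpk
  have hf0 : Nat.totient k ≠ 0 := (Nat.totient_pos.2 (Nat.pos_of_ne_zero hk0)).ne'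
  letI : Fintype (GaloisField p (Nat.totient k)) := Fintype.ofFinite _
  have hcardK : Fintype.card (GaloisField p (Nat.totient k)) = p ^ Nat.totient k := by
    rw [← Nat.card_eq_fintype_card]; exact GaloisField.card p _ hf0
  have hkdvd : k ∣ Fintype.card (GaloisField p (Nat.totient k)) - 1 := by
    rw [hcardK]
    have h1 : p ^ Nat.totient k ≡ 1 [MOD k] := Nat.ModEq.pow_totient hkcop
    exact (Nat.modEq_iff_dvd' (Nat.one_le_pow _ _ hp.pos)).1 h1.symm
  exact quad_pair_false hp2 hcomm hexp G₀ hsolv hodd g b hg hbG hquad hbq hgp hbp q j hq hqp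
    hrq' hr1' (GaloisField p (Nat.totient k)) ⟨e, k, hord, hkdvd⟩

end Main

end Cfsg.Agent.Helper21.OddQuad
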