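import Mathlib
import Cfsg.Agent.Helper10.PStable
import Cfsg.Agent.Helper21.OddQuad

/-!
helper21: solvable groups of odd order are `p`-stable (`p` odd): an element acting
quadratically on a normal `p`-subgroup `P` lies in `O_p` modulo `C(P)`.
-/

set_option autoImplicit false

namespace Cfsg.Agent.Helper21.OddStable

open Cfsg
open Cfsg.Agent.Helper10
open scoped commutatorElement

universe u

variable {p : ℕ} [Fact p.Prime]

/-- Quadratic action on a chief factor below `O_p(X)` of a solvable group of odd order is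
trivial. -/
theorem chief_quad_odd {X : Type u} [Group X] [Finite X] (hsolv : Group.IsSolvable X)
    (hodd : Odd (Nat.card X)) (hp2 : p ≠ 2) {U V : Subgroup X}
    (hUV : IsChiefFactor U V) (hUP : U ≤ pCore p X)
    (g : X) (hq : ∀ u ∈ U, ⁅g, ⁅g, u⁆⁆ ∈ V) :
    ∀ u ∈ U, ⁅g, u⁆ ∈ V := by
  have hp : p.Prime := Fact.out
  obtain ⟨hVU, hUn, hVn, hchief⟩ := hUV
  have hP₀p : IsPGroup p (pCore p X) := Cfsg.Agent.Helper23.pCore_isPGroup p
  have hP₀n : (pCore p X).Normal := Cfsg.Agent.Helper23.pCore_normal_fin p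
  haveI := hVn
  obtain ⟨π, hπ⟩ : ∃ π : X →* X ⧸ V, π = QuotientGroup.mk' V := ⟨_, rfl⟩
  have hπs : Function.Surjective π := by rw [hπ]; exact QuotientGroup.mk'_surjective V
  have hπ1 : ∀ x : X, π x = 1 ↔ x ∈ V := by
    intro x; rw [hπ, QuotientGroup.mk'_apply, QuotientGroup.eq_one_iff]
  obtain ⟨Ub, hUb⟩ : ∃ Ub, Ub = U.map π := ⟨_, rfl⟩
  have hUbn : Ub.Normal := by rw [hUb]; exact hUn.map π hπs
  have hUbp : IsPGroup p Ub := by rw [hUb]; exact (hP₀p.to_le hUP).map π
  have hUbtop : ∀ P : Subgroup (X ⧸ V), P ≤ Subgroup.normalizer (Ub : Set (X ⧸ V)) := by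
    intro P; rw [Subgroup.normalizer_eq_top_iff.mpr hUbn]; exact le_top
  have hUbne : Ub ≠ ⊥ := by
    intro h
    apply not_le_of_gt hVU
    intro x hx
    have : π x ∈ Ub := by rw [hUb]; exact Subgroup.mem_map_of_mem _ hx
    rw [h, Subgroup.mem_bot] at this
    exact (hπ1 x).mp this
  have hbot_of : ∀ P : Subgroup X, IsPGroup p P → U ≤ ⁅U, P⁆ ⊔ V → False := by
    intro P hP hle
    apply hUbne
    apply eq_bot_of_le_comm_pgroup hUbp (hP.map π) (hUbtop _) le_rfl
    rw [hUb, ← Subgroup.map_commutator]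
    rintro _ ⟨x, hx, rfl⟩
    obtain ⟨a, ha, b, hb, rfl⟩ := Subgroup.mem_sup_of_normal_right.mp (hle hx)
    rw [map_mul, (hπ1 b).mpr hb, mul_one]
    exact Subgroup.mem_map_of_mem _ ha
  have hUP₀ : ⁅U, pCore p X⁆ ≤ V := by
    have hN : (⁅U, pCore p X⁆ ⊔ V).Normal := by
      haveI := hUn; haveI := hP₀n; infer_instance
    haveI := hUn
    rcases hchief _ hN le_sup_right (sup_le (Subgroup.commutator_le_left U _) hVU.le) with h | h
    · rw [← h]; exact le_sup_left
    · exact (hbot_of _ hP₀p h.ge).elim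
  have hUbc : ∀ a ∈ Ub, ∀ b ∈ Ub, a * b = b * a := by
    intro a ha b hb
    rw [hUb] at ha hb
    obtain ⟨x, hx, rfl⟩ := ha
    obtain ⟨y, hy, rfl⟩ := hb
    have h1 : ⁅x, y⁆ ∈ V := hUP₀ (Subgroup.commutator_mem_commutator hx (hUP hy))
    have h2 : π ⁅x, y⁆ = 1 := (hπ1 _).mpr h1
    rw [commutatorElement_def, map_mul, map_mul, map_mul, map_inv, map_inv] at h2
    calc π x * π y = (π x * π y * (π x)⁻¹ * (π y)⁻¹) * (π y * π x) := by group
      _ = π y * π x := by rw [h2, one_mul]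
  have hUbexp : ∀ a ∈ Ub, a ^ p = 1 := by
    let Mb : Subgroup (X ⧸ V) :=
      { carrier := {a | a ∈ Ub ∧ a ^ p = 1}
        one_mem' := ⟨Ub.one_mem, one_pow _⟩
        mul_mem' := fun {a b} ha hb => ⟨Ub.mul_mem ha.1 hb.1, by
          rw [(show Commute a b from hUbc a ha.1 b hb.1).mul_pow, ha.2, hb.2, one_mul]⟩
        inv_mem' := fun {a} ha => ⟨Ub.inv_mem ha.1, by rw [inv_pow, ha.2, inv_one]⟩ }
    have hMbn : Mb.Normal :=
      ⟨fun a ha h => ⟨hUbn.conj_mem a ha.1 h, by rw [conj_pow, ha.2]; simp⟩⟩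
    have hMn : (Mb.comap π ⊓ U).Normal := by
      haveI := hMbn.comap π; haveI := hUn; infer_instance
    have hVM : V ≤ Mb.comap π ⊓ U := le_inf (fun x hx => by
      show π x ∈ Mb
      rw [(hπ1 x).mpr hx]; exact Mb.one_mem) hVU.le
    rcases hchief _ hMn hVM inf_le_right with h | h
    · exfalso
      have hdvd : p ∣ Nat.card ↥Ub := by
        obtain ⟨k, hk⟩ := IsPGroup.iff_card.mp hUbp
        have hk0 : k ≠ 0 := by
          rintro rfl
          rw [pow_zero] at hk
          exact hUbne (Subgroup.card_eq_one.mp hk)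
        rw [hk]; exact dvd_pow_self p hk0
      obtain ⟨a, ha⟩ := exists_prime_orderOf_dvd_card' (G := ↥Ub) p hdvd
      have ha1 : (a : X ⧸ V) ≠ 1 := by
        intro h1
        have : a = 1 := Subtype.ext h1
        rw [this, orderOf_one] at ha
        exact hp.one_lt.ne ha
      have hap : (a : X ⧸ V) ^ p = 1 := by
        have := pow_orderOf_eq_one a
        rw [ha] at this
        exact congrArg Subtype.val this
      obtain ⟨x, hxU, hxa⟩ : ∃ x ∈ U, π x = a := by
        have h0 : (a : X ⧸ V) ∈ Subgroup.map π U := by rw [← hUb]; exact a.2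
        exact h0
      have hxM : x ∈ Mb.comap π ⊓ U :=
        ⟨by show π x ∈ Mb; rw [hxa]; exact ⟨a.2, hap⟩, hxU⟩
      rw [h] at hxM
      exact ha1 (hxa ▸ (hπ1 x).mpr hxM)
    · intro a ha
      rw [hUb] at ha
      obtain ⟨x, hx, rfl⟩ := ha
      have : x ∈ Mb.comap π ⊓ U := by rw [h]; exact hx
      exact this.1.2
  haveI := hUbn
  obtain ⟨ψ, hψ⟩ : ∃ ψ : X →* MulAut ↥Ub, ψ = (MulAut.conjNormal).comp π := ⟨_, rfl⟩
  have hψa : ∀ (x : X) (a : ↥Ub), ((ψ x a : ↥Ub) : X ⧸ V) = π x * a * (π x)⁻¹ := by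
    intro x a; rw [hψ]; rfl
  have hexp : ∀ a : ↥Ub, a ^ p = 1 := fun a => Subtype.ext (hUbexp a a.2)
  have hmemUb : ∀ a : ↥Ub, ∃ x ∈ U, π x = a := by
    intro a
    have h0 : (a : X ⧸ V) ∈ Subgroup.map π U := by rw [← hUb]; exact a.2
    exact h0
  have hdiv : ∀ x y : ↥Ub, ((x / y : ↥Ub) : X ⧸ V) = (x : X ⧸ V) * (y : X ⧸ V)⁻¹ := by
    intro x y; rw [div_eq_mul_inv]; rfl
  -- quadratic action
  have hquad : ∀ a : ↥Ub, (ψ g) ((ψ g) a / a) = (ψ g) a / a := by
    intro a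
    obtain ⟨u, hu, hua⟩ := hmemUb a
    apply Subtype.ext
    rw [hψa, hdiv, hψa, ← hua]
    have h1 := (hπ1 _).mpr (hq u hu)
    rw [commutatorElement_def, commutatorElement_def, map_mul, map_mul, map_mul, map_inv,
      map_inv, map_mul, map_mul, map_mul, map_inv, map_inv] at h1
    calc π g * (π g * π u * (π g)⁻¹ * (π u)⁻¹) * (π g)⁻¹
        = (π g * (π g * π u * (π g)⁻¹ * (π u)⁻¹) * (π g)⁻¹ *
            (π g * π u * (π g)⁻¹ * (π u)⁻¹)⁻¹) * (π g * π u * (π g)⁻¹ * (π u)⁻¹) := by group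
      _ = π g * π u * (π g)⁻¹ * (π u)⁻¹ := by rw [h1, one_mul]
  have hcommA : ∀ a b : ↥Ub, a * b = b * a := fun a b => Subtype.ext (hUbc a a.2 b b.2)
  have hirr : ∀ B : Subgroup ↥Ub, (∀ γ ∈ ψ.range, ∀ b ∈ B, γ b ∈ B) → B = ⊥ ∨ B = ⊤ := by
    intro B hB
    obtain ⟨N, hN⟩ : ∃ N : Subgroup X, N = (B.map Ub.subtype).comap π := ⟨_, rfl⟩
    have hmemN : ∀ x : X, x ∈ N ↔ ∃ b ∈ B, (b : X ⧸ V) = π x := by
      intro x
      rw [hN, Subgroup.mem_comap, Subgroup.mem_map]
      rfl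
    have hNn : N.Normal := by
      constructor
      intro n hn x
      rw [hmemN] at hn ⊢
      obtain ⟨b, hb, hbn⟩ := hn
      refine ⟨ψ x b, hB _ ⟨x, rfl⟩ b hb, ?_⟩
      rw [hψa, hbn, map_mul, map_mul, map_inv]
    have hVN : V ≤ N := by
      intro v hv
      rw [hmemN]
      exact ⟨1, B.one_mem, by rw [(hπ1 v).mpr hv]; rfl⟩
    have hNU : N ≤ U := by
      intro n hn
      rw [hmemN] at hn
      obtain ⟨b, -, hbn⟩ := hn
      obtain ⟨u, hu, hub⟩ := hmemUb b
      have h1 : u⁻¹ * n ∈ V := by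
        rw [← hπ1, map_mul, map_inv, hub, hbn, inv_mul_cancel]
      have h2 : n = u * (u⁻¹ * n) := by group
      rw [h2]
      exact U.mul_mem hu (hVU.le h1)
    rcases hchief N hNn hVN hNU with h | h
    · left
      rw [eq_bot_iff]
      intro b hb
      rw [Subgroup.mem_bot]
      obtain ⟨u, hu, hub⟩ := hmemUb b
      have h1 : u ∈ N := (hmemN u).mpr ⟨b, hb, hub.symm⟩
      rw [h] at h1
      apply Subtype.ext
      rw [← hub, (hπ1 u).mpr h1]; rfl
    · right
      rw [eq_top_iff]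
      intro a _
      obtain ⟨u, hu, hua⟩ := hmemUb a
      have h1 : u ∈ N := by rw [h]; exact hu
      obtain ⟨b, hb, hbu⟩ := (hmemN u).mp h1
      have h2 : b = a := Subtype.ext (by rw [hbu, hua])
      rw [← h2]; exact hb
  have hsolvR : Group.IsSolvable ψ.range := by
    haveI := hsolv
    exact Group.isSolvable_of_surjective ψ.rangeRestrict_surjective
  have hoddR : Odd (Nat.card ψ.range) := Odd.of_dvd_nat hodd (Subgroup.card_range_dvd ψ)
  have hone := Cfsg.Agent.Helper21.OddQuad.quad_trivial hp2 hcommA hexp ψ.range hsolvR hoddR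
    hirr (ψ g) ⟨g, rfl⟩ hquad
  intro u hu
  have huUb : π u ∈ Ub := by rw [hUb]; exact Subgroup.mem_map_of_mem _ hu
  have h2 := hψa g ⟨π u, huUb⟩
  rw [hone, MulAut.one_apply] at h2
  have h3 : π u = π g * π u * (π g)⁻¹ := h2
  rw [← hπ1, commutatorElement_def, map_mul, map_mul, map_mul, map_inv, map_inv, ← h3,
    mul_inv_cancel]

/-- **`p`-stability of solvable groups of odd order** (abstract form): `P ⊴ X` a `p`-group,
`g` quadratic on `P`; then `g C_X(P) ∈ O_p(X / C_X(P))`. -/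
theorem odd_nps_abs {X : Type u} [Group X] [Finite X] (hsolv : Group.IsSolvable X)
    (hodd : Odd (Nat.card X)) (hp2 : p ≠ 2)
    (P : Subgroup X) (hPn : P.Normal) (hPp : IsPGroup p P) (g : X)
    (hquad : ∀ u ∈ P, ⁅g, ⁅g, u⁆⁆ = 1) (C : Subgroup X) [C.Normal]
    (hC : C = Subgroup.centralizer (P : Set X)) :
    (QuotientGroup.mk' C) g ∈ pCore p (X ⧸ C) := by
  have hp : p.Prime := Fact.out
  have hPP₀ : P ≤ pCore p X := Cfsg.Agent.Helper23.le_pCore hPn hPp
  obtain ⟨n, Pc, h0, hn, hch, hPcn, hPcP⟩ := exists_chief_chain (Nat.card P) P hPn le_rfl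
  have hStn : (chainStab Pc n hPcn).Normal := chainStab_normal Pc n hPcn
  -- `p'`-elements of the chain stabilizer centralize `P`
  have hStC : ∀ y ∈ chainStab Pc n hPcn, (orderOf y).Coprime p → y ∈ C := by
    intro y hy hco
    rw [hC, Subgroup.mem_centralizer_iff]
    intro t ht
    have h1 := chain_coprime_centralizes Pc n hn (fun i => hPp.to_le (hPcP i)) hy hco t
      (h0 ▸ ht)
    rw [commutatorElement_def] at h1
    calc t * y = (y * t * y⁻¹ * t⁻¹)⁻¹ * (y * t) := by group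
      _ = y * t := by rw [h1, inv_one, one_mul]
  obtain ⟨π, hπ⟩ : ∃ π : X →* X ⧸ C, π = QuotientGroup.mk' C := ⟨_, rfl⟩
  have hπs : Function.Surjective π := by rw [hπ]; exact QuotientGroup.mk'_surjective C
  have hπ1 : ∀ x : X, π x = 1 ↔ x ∈ C := by
    intro x; rw [hπ, QuotientGroup.mk'_apply, QuotientGroup.eq_one_iff]
  have hdec : ∀ x : X, (∀ v ∈ Subgroup.zpowers x, (orderOf v).Coprime p → v ∈ C) →
      ∃ e : ℕ, (π x) ^ (p ^ e) = 1 := by
    intro x hx
    obtain ⟨e, m', u, v, hord, hpm, hu, hv, hxvu, hue, hvm⟩ :=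
      Cfsg.Agent.Helper8.exists_decomp x (orderOf_pos x).ne' p hp
    have hvco : (orderOf v).Coprime p := by
      have h1 : orderOf v ∣ m' := orderOf_dvd_of_pow_eq_one hvm
      exact Nat.Coprime.coprime_dvd_left h1 ((Nat.Prime.coprime_iff_not_dvd hp).mpr hpm).symm
    have hvC := hx v hv hvco
    refine ⟨e, ?_⟩
    rw [hxvu, map_mul, (hπ1 v).mpr hvC, one_mul, ← map_pow, hue, map_one]
  have hStp : IsPGroup p ((chainStab Pc n hPcn).map π) := by
    rintro ⟨_, ⟨x, hx, rfl⟩⟩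
    obtain ⟨e, he⟩ := hdec x (fun v hv hco => hStC v ((Subgroup.zpowers_le.mpr hx) hv) hco)
    exact ⟨e, Subtype.ext he⟩
  have hStP₁ : (chainStab Pc n hPcn).map π ≤ pCore p (X ⧸ C) :=
    Cfsg.Agent.Helper23.le_pCore (hStn.map π hπs) hStp
  apply hStP₁
  rw [← hπ]
  apply Subgroup.mem_map_of_mem
  intro i hi u hu
  exact chief_quad_odd hsolv hodd hp2 (hch i hi) ((hPcP i).trans hPP₀) g
    (fun u hu => by rw [hquad u (hPcP i hu)]; exact one_mem _) u hu


/-- conversion between the two commutator conventions for quadratic action -/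
theorem quad_of_comm_bot {Z : Type*} [Group Z] {P : Subgroup Z} {g : Z}
    (hquad : ⁅⁅P, Subgroup.zpowers g⁆, Subgroup.zpowers g⁆ = ⊥) :
    ∀ u ∈ P, ⁅g, ⁅g, u⁆⁆ = 1 := by
  intro v hv
  have h1 : ⁅⁅v, g⁆, g⁆ ∈ ⁅⁅P, Subgroup.zpowers g⁆, Subgroup.zpowers g⁆ :=
    Subgroup.commutator_mem_commutator
      (Subgroup.commutator_mem_commutator hv (Subgroup.mem_zpowers g)) (Subgroup.mem_zpowers g)
  rw [hquad, Subgroup.mem_bot] at h1
  rw [commutatorElement_def, commutatorElement_def] at h1 ⊢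
  calc g * (g * v * g⁻¹ * v⁻¹) * g⁻¹ * (g * v * g⁻¹ * v⁻¹)⁻¹
      = (v * g * v⁻¹ * g⁻¹)⁻¹ * ((v * g * v⁻¹ * g⁻¹) * g * (v * g * v⁻¹ * g⁻¹)⁻¹ * g⁻¹) *
          (v * g * v⁻¹ * g⁻¹) := by group
    _ = 1 := by rw [h1]; group

/-- Solvable groups of odd order act `p`-stably on their normal `p`-subgroups (`p` odd). -/
theorem isPStableOn_of_odd {X : Type u} [Group X] [Finite X] (hsolv : Group.IsSolvable X)
    (hodd : Odd (Nat.card X)) (hp2 : p ≠ 2) (P : Subgroup X) [hPn : P.Normal]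
    (hPp : IsPGroup p P) : Cfsg.IsPStableOn p P := by
  intro a hquad
  exact odd_nps_abs hsolv hodd hp2 P hPn hPp a (quad_of_comm_bot hquad)
    (Subgroup.centralizer (P : Set X)) rfl

/-- Solvable groups of odd order are `p`-stable in the normalizer form (`p` odd). -/
theorem isNormalizerPStable_of_odd {Z : Type u} [Group Z] [Finite Z] (hsolv : Group.IsSolvable Z)
    (hodd : Odd (Nat.card Z)) (hp2 : p ≠ 2) : IsNormalizerPStable p Z := by
  intro P hPp g hg hquad
  haveI := hsolv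
  have hsolvN : Group.IsSolvable ↥(Subgroup.normalizer (P : Set Z)) := inferInstance
  have hoddN : Odd (Nat.card ↥(Subgroup.normalizer (P : Set Z))) :=
    Odd.of_dvd_nat hodd (Subgroup.card_subgroup_dvd_card _)
  have hPn : (P.subgroupOf (Subgroup.normalizer (P : Set Z))).Normal :=
    Subgroup.normal_in_normalizer
  have hPp' : IsPGroup p (P.subgroupOf (Subgroup.normalizer (P : Set Z))) := hPp.comap_subtype
  have hquad' : ∀ u ∈ P.subgroupOf (Subgroup.normalizer (P : Set Z)),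
      ⁅(⟨g, hg⟩ : ↥(Subgroup.normalizer (P : Set Z))),
        ⁅(⟨g, hg⟩ : ↥(Subgroup.normalizer (P : Set Z))), u⁆⁆ = 1 := by
    intro u hu
    apply Subtype.ext
    show ⁅g, ⁅g, (u : Z)⁆⁆ = 1
    exact quad_of_comm_bot hquad (u : Z) (Subgroup.mem_subgroupOf.mp hu)
  have hCeq : (Subgroup.centralizer (P : Set Z)).subgroupOf (Subgroup.normalizer (P : Set Z)) =
      Subgroup.centralizer ((P.subgroupOf (Subgroup.normalizer (P : Set Z)) :
        Subgroup ↥(Subgroup.normalizer (P : Set Z))) : Set ↥(Subgroup.normalizer (P : Set Z))) := by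
    ext x
    rw [Subgroup.mem_subgroupOf, Subgroup.mem_centralizer_iff, Subgroup.mem_centralizer_iff]
    constructor
    · intro h u hu
      apply Subtype.ext
      exact h (u : Z) (Subgroup.mem_subgroupOf.mp hu)
    · intro h t ht
      have := h ⟨t, Subgroup.le_normalizer ht⟩ (Subgroup.mem_subgroupOf.mpr ht)
      exact congrArg Subtype.val this
  exact odd_nps_abs hsolvN hoddN hp2
    (P.subgroupOf (Subgroup.normalizer (P : Set Z))) hPn hPp' ⟨g, hg⟩ hquad' _ hCeq


/-- In a solvable group of odd order with `C(O_p) ≤ O_p`, an element acting quadratically on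
`O_p` lies in `O_p` (`p` odd). -/
theorem mem_pCore_of_quad {X : Type u} [Group X] [Finite X] (hsolv : Group.IsSolvable X)
    (hodd : Odd (Nat.card X)) (hp2 : p ≠ 2)
    (hc : Subgroup.centralizer (pCore p X : Set X) ≤ pCore p X) {a : X}
    (hquad : ⁅⁅pCore p X, Subgroup.zpowers a⁆, Subgroup.zpowers a⁆ = ⊥) : a ∈ pCore p X := by
  have hTn : (pCore p X).Normal := Cfsg.Agent.Helper23.pCore_normal_fin p
  have hTp : IsPGroup p (pCore p X) := Cfsg.Agent.Helper23.pCore_isPGroup p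
  have h := isPStableOn_of_odd hsolv hodd hp2 (pCore p X) hTp a hquad
  have hKp : IsPGroup p ((pCore p (X ⧸ Subgroup.centralizer (pCore p X : Set X))).comap
      (QuotientGroup.mk' (Subgroup.centralizer (pCore p X : Set X)))) := by
    apply IsPGroup.comap_of_ker_isPGroup (Cfsg.Agent.Helper23.pCore_isPGroup p)
    rw [QuotientGroup.ker_mk']
    exact hTp.to_le hc
  have hpn : (pCore p (X ⧸ Subgroup.centralizer (pCore p X : Set X))).Normal :=
    Cfsg.Agent.Helper23.pCore_normal_fin p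
  have hKn : ((pCore p (X ⧸ Subgroup.centralizer (pCore p X : Set X))).comap
      (QuotientGroup.mk' (Subgroup.centralizer (pCore p X : Set X)))).Normal := inferInstance
  exact Cfsg.Agent.Helper23.le_pCore hKn hKp (show a ∈ _ from h)

end Cfsg.Agent.Helper21.OddStable
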