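import Mathlib
import Cfsg.Prelude.Def_OddOrderLocal
import Cfsg.Agent.S1474
import Cfsg.Agent.S0044
import Cfsg.Agent.Helper21.CNGroup2
import Cfsg.Agent.Helper1.Fitting

set_option autoImplicit false
open Cfsg
open scoped commutatorElement

/-!
Structure of three-step groups (Feit-Hall-Thompson), in the abstract form `H ⊴ X`, `A` cyclic,
`H ⊔ A ⊴ X`, `A` acting fixed point freely on `H`, `X/H` Frobenius-like with kernel `HA/H`.
-/

namespace Cfsg.Agent.Helper21.ThreeStep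

/-- If `a` normalizes the finite subgroup `H` and fixes no nonidentity element of it, then every
element of `H` is a commutator `⁅h', a⁆` with `h' ∈ H`. -/
theorem surj_comm {X : Type*} [Group X] (H : Subgroup X) [Finite H] (a : X)
    (hnorm : ∀ h ∈ H, a * h * a⁻¹ ∈ H) (hfix : ∀ h ∈ H, a * h = h * a → h = 1) :
    ∀ h ∈ H, ∃ h' ∈ H, h = ⁅h', a⁆ := by
  classical
  let φ : H → H := fun h' =>
    ⟨(h' : X) * (a * (h' : X)⁻¹ * a⁻¹), H.mul_mem h'.2 (hnorm _ (H.inv_mem h'.2))⟩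
  have hinj : Function.Injective φ := by
    intro h₁ h₂ he
    have he' : (h₁ : X) * (a * (h₁ : X)⁻¹ * a⁻¹) = (h₂ : X) * (a * (h₂ : X)⁻¹ * a⁻¹) :=
      congrArg Subtype.val he
    have h4 : (h₁ : X) * a * (h₁ : X)⁻¹ = (h₂ : X) * a * (h₂ : X)⁻¹ := by
      have h := congrArg (fun t => t * a) he'
      simpa [mul_assoc] using h
    have h3 : a * ((h₂ : X)⁻¹ * h₁) = ((h₂ : X)⁻¹ * h₁) * a := by
      calc a * ((h₂ : X)⁻¹ * h₁) = (h₂ : X)⁻¹ * ((h₂ : X) * a * (h₂ : X)⁻¹) * h₁ := by group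
        _ = (h₂ : X)⁻¹ * ((h₁ : X) * a * (h₁ : X)⁻¹) * h₁ := by rw [h4]
        _ = ((h₂ : X)⁻¹ * h₁) * a := by group
    have h5 := hfix _ (H.mul_mem (H.inv_mem h₂.2) h₁.2) h3
    apply Subtype.ext
    have h6 : (h₁ : X) = (h₂ : X) * ((h₂ : X)⁻¹ * h₁) := by group
    rw [h6, h5, mul_one]
  have hsurj := Finite.injective_iff_surjective.mp hinj
  intro h hh
  obtain ⟨h', hh'⟩ := hsurj ⟨h, hh⟩
  refine ⟨h', h'.2, ?_⟩
  have h7 : (h' : X) * (a * (h' : X)⁻¹ * a⁻¹) = h := congrArg Subtype.val hh'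
  rw [commutatorElement_def, ← h7]; group

/-- A finite subgroup `H` of a nilpotent subgroup `F` which is normalized by some `a ∈ F` acting
fixed point freely is trivial. -/
theorem bot_of_nilpotent {X : Type*} [Group X] (H F : Subgroup X) [Finite H] (a : X)
    (haF : a ∈ F) (hHF : H ≤ F) (hnorm : ∀ h ∈ H, a * h * a⁻¹ ∈ H)
    (hfix : ∀ h ∈ H, a * h = h * a → h = 1) (hF : Group.IsNilpotent F) : H = ⊥ := by
  have hs := surj_comm H a hnorm hfix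
  have hle : ∀ n, H ≤ F.lowerCentralSeries n := by
    intro n
    induction n with
    | zero => exact hHF
    | succ k ih =>
      intro h hh
      obtain ⟨h', hh', rfl⟩ := hs h hh
      rw [Subgroup.lowerCentralSeries_succ]
      exact Subgroup.commutator_mem_commutator (ih hh') haF
  obtain ⟨n, hn⟩ := (Subgroup.isNilpotent_iff_lowerCentralSeries F).mp hF
  rw [eq_bot_iff, ← hn]; exact hle n

/-- In any group, if every conjugate of `g` is a power of `g` then commutators centralize `g`. -/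
theorem comm_centralizes {Q : Type*} [Group Q] (g : Q)
    (hE : ∀ z : Q, ∃ n : ℤ, z * g * z⁻¹ = g ^ n) (x y : Q) : ⁅x, y⁆ * g * ⁅x, y⁆⁻¹ = g := by
  have hmul : ∀ (z₁ z₂ : Q) (n₁ n₂ : ℤ), z₁ * g * z₁⁻¹ = g ^ n₁ → z₂ * g * z₂⁻¹ = g ^ n₂ →
      (z₁ * z₂) * g * (z₁ * z₂)⁻¹ = g ^ (n₁ * n₂) := by
    intro z₁ z₂ n₁ n₂ h₁ h₂
    calc (z₁ * z₂) * g * (z₁ * z₂)⁻¹ = z₁ * (z₂ * g * z₂⁻¹) * z₁⁻¹ := by group
      _ = z₁ * g ^ n₂ * z₁⁻¹ := by rw [h₂]
      _ = (z₁ * g * z₁⁻¹) ^ n₂ := conj_zpow.symm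
      _ = g ^ (n₁ * n₂) := by rw [h₁, zpow_mul]
  obtain ⟨n₁, h₁⟩ := hE x
  obtain ⟨n₂, h₂⟩ := hE y
  obtain ⟨n₃, h₃⟩ := hE x⁻¹
  obtain ⟨n₄, h₄⟩ := hE y⁻¹
  have e1 := hmul _ _ _ _ (hmul _ _ _ _ (hmul _ _ _ _ h₁ h₂) h₃) h₄
  have e2 := hmul _ _ _ _ (hmul _ _ _ _ (hmul _ _ _ _ h₁ h₃) h₂) h₄
  have e3 : x * x⁻¹ * y * y⁻¹ = 1 := by group
  rw [e3] at e2
  have e4 : n₁ * n₂ * n₃ * n₄ = n₁ * n₃ * n₂ * n₄ := by ring
  have e5 : ⁅x, y⁆ = x * y * x⁻¹ * y⁻¹ := commutatorElement_def x y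
  rw [e5, e1, e4, ← e2]; group

theorem exists_ne_one' {X : Type*} [Group X] (A : Subgroup X) (hA1 : A ≠ ⊥) :
    ∃ a ∈ A, a ≠ 1 := by
  by_contra hcon
  push_neg at hcon
  apply hA1
  rw [eq_bot_iff]
  intro a ha
  exact Subgroup.mem_bot.mpr (hcon a ha)

section TS

variable {X : Type*} [Group X] [Finite X] (H A : Subgroup X) [hHn : H.Normal]

include hHn in
theorem fix_of_fpf (hfpf : ∀ a ∈ A, a ≠ 1 → H ⊓ Subgroup.centralizer ({a} : Set X) = ⊥) :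
    ∀ a ∈ A, a ≠ 1 → ∀ h ∈ H, a * h = h * a → h = 1 := by
  intro a ha ha1 h hh hc
  have h1 : h ∈ H ⊓ Subgroup.centralizer ({a} : Set X) := Subgroup.mem_inf.mpr ⟨hh, by
    rw [Subgroup.mem_centralizer_iff]; intro y hy
    rw [Set.mem_singleton_iff] at hy; rw [hy]; exact hc⟩
  rw [hfpf a ha ha1, Subgroup.mem_bot] at h1
  exact h1

theorem comm_of_cyclic (hAc : IsCyclic A) : ∀ a ∈ A, ∀ b ∈ A, a * b = b * a := by
  intro a ha b hb
  obtain ⟨g, hg⟩ := hAc.exists_generator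
  obtain ⟨i, hi⟩ := Subgroup.mem_zpowers_iff.mp (hg ⟨a, ha⟩)
  obtain ⟨j, hj⟩ := Subgroup.mem_zpowers_iff.mp (hg ⟨b, hb⟩)
  have h1 : (⟨a, ha⟩ : A) * ⟨b, hb⟩ = ⟨b, hb⟩ * ⟨a, ha⟩ := by
    rw [← hi, ← hj]; exact (Commute.zpow_zpow_self g i j).eq
  exact congrArg Subtype.val h1

/-- `H ⊔ A = H A`. -/
theorem mem_sup_iff' (c : X) : c ∈ H ⊔ A ↔ ∃ h ∈ H, ∃ b ∈ A, h * b = c := by
  rw [← SetLike.mem_coe, Subgroup.normal_mul, Set.mem_mul]
  constructor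
  · rintro ⟨h, hh, b, hb, e⟩; exact ⟨h, hh, b, hb, e⟩
  · rintro ⟨h, hh, b, hb, e⟩; exact ⟨h, hh, b, hb, e⟩

include hHn in
/-- For `x` outside `H ⊔ A`, the map `a ↦ ⁅x, a⁆` is onto `A` modulo `H`. -/
theorem surj_A (hAc : IsCyclic A) (hK : (H ⊔ A).Normal)
    (hfpf : ∀ a ∈ A, a ≠ 1 → H ⊓ Subgroup.centralizer ({a} : Set X) = ⊥)
    (hfrob : ∀ x : X, x ∉ H ⊔ A → ∀ a ∈ A, a ≠ 1 → x * a * x⁻¹ * a⁻¹ ∉ H)
    (x : X) (hx : x ∉ H ⊔ A) : ∀ b ∈ A, ∃ a ∈ A, ∃ h ∈ H, ⁅x, a⁆ = h * b := by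
  classical
  have hcomm := comm_of_cyclic A hAc
  have hdec : ∀ a : A, ∃ b : A, ∃ h ∈ H, h * (b : X) = x * (a : X) * x⁻¹ * (a : X)⁻¹ := by
    intro a
    have h1 : x * (a : X) * x⁻¹ * (a : X)⁻¹ ∈ H ⊔ A :=
      (H ⊔ A).mul_mem (hK.conj_mem _ (Subgroup.mem_sup_right a.2) x)
        ((H ⊔ A).inv_mem (Subgroup.mem_sup_right a.2))
    obtain ⟨h, hh, b, hb, e⟩ := (mem_sup_iff' H A _).mp h1
    exact ⟨⟨b, hb⟩, h, hh, e⟩
  choose θ hθ using hdec
  have hinj : Function.Injective θ := by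
    intro a a' he
    obtain ⟨h, hh, e1⟩ := hθ a
    obtain ⟨h', hh', e2⟩ := hθ a'
    rw [he] at e1
    set b : X := (θ a' : X) with hb
    have hbA : b ∈ A := (θ a').2
    by_contra hne
    have hd1 : (a : X) * (a' : X)⁻¹ ≠ 1 := by
      intro h0
      apply hne
      apply Subtype.ext
      exact mul_inv_eq_one.mp h0
    have hdA : (a : X) * (a' : X)⁻¹ ∈ A := A.mul_mem a.2 (A.inv_mem a'.2)
    have e1' : x * (a : X) * x⁻¹ = h * b * (a : X) := by rw [e1]; group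
    have e2' : x * (a' : X) * x⁻¹ = h' * b * (a' : X) := by rw [e2]; group
    have e3 : x * ((a : X) * (a' : X)⁻¹) * x⁻¹ = (x * (a : X) * x⁻¹) * (x * (a' : X) * x⁻¹)⁻¹ := by
      group
    rw [e1', e2'] at e3
    have e4 : b * ((a : X) * (a' : X)⁻¹) = ((a : X) * (a' : X)⁻¹) * b := hcomm _ hbA _ hdA
    have e5 : x * ((a : X) * (a' : X)⁻¹) * x⁻¹ * ((a : X) * (a' : X)⁻¹)⁻¹ =
        h * (((a : X) * (a' : X)⁻¹) * h'⁻¹ * ((a : X) * (a' : X)⁻¹)⁻¹) := by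
      rw [e3]
      have e6 : h * b * (a : X) * (h' * b * (a' : X))⁻¹ =
          h * (b * ((a : X) * (a' : X)⁻¹)) * b⁻¹ * h'⁻¹ := by group
      rw [e6, e4]; group
    apply hfrob x hx _ hdA hd1
    rw [e5]
    exact H.mul_mem hh (hHn.conj_mem _ (H.inv_mem hh') _)
  have hsurj := Finite.injective_iff_surjective.mp hinj
  intro b hb
  obtain ⟨a, ha⟩ := hsurj ⟨b, hb⟩
  obtain ⟨h, hh, e⟩ := hθ a
  refine ⟨a, a.2, h, hh, ?_⟩
  rw [commutatorElement_def, ← e, ha]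

include hHn in
/-- `H` and `A` lie in every term of the lower central series. -/
theorem le_lcs (hA1 : A ≠ ⊥) (hAc : IsCyclic A) (hK : (H ⊔ A).Normal) (hKtop : H ⊔ A ≠ ⊤)
    (hfpf : ∀ a ∈ A, a ≠ 1 → H ⊓ Subgroup.centralizer ({a} : Set X) = ⊥)
    (hfrob : ∀ x : X, x ∉ H ⊔ A → ∀ a ∈ A, a ≠ 1 → x * a * x⁻¹ * a⁻¹ ∉ H) (n : ℕ) :
    H ≤ (⊤ : Subgroup X).lowerCentralSeries n ∧ A ≤ (⊤ : Subgroup X).lowerCentralSeries n := by
  obtain ⟨a₀, ha₀, ha₀1⟩ := exists_ne_one' A hA1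
  obtain ⟨x, hx⟩ : ∃ x : X, x ∉ H ⊔ A := by
    by_contra hcon
    apply hKtop
    rw [eq_top_iff]; intro y _
    by_contra hy
    exact hcon ⟨y, hy⟩
  have hs := surj_comm H a₀ (fun h hh => hHn.conj_mem h hh a₀) (fix_of_fpf H A hfpf a₀ ha₀ ha₀1)
  have hsA := surj_A H A hAc hK hfpf hfrob x hx
  have hH : ∀ n, H ≤ (⊤ : Subgroup X).lowerCentralSeries n := by
    intro n
    induction n with
    | zero => exact le_top
    | succ k ih =>
      intro h hh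
      obtain ⟨h', hh', rfl⟩ := hs h hh
      rw [Subgroup.lowerCentralSeries_succ]
      exact Subgroup.commutator_mem_commutator (ih hh') (Subgroup.mem_top _)
  refine ⟨hH n, ?_⟩
  induction n with
  | zero => exact le_top
  | succ k ih =>
    intro b hb
    obtain ⟨a, ha, h, hh, e⟩ := hsA b hb
    have h1 : ⁅x, a⁆ ∈ (⊤ : Subgroup X).lowerCentralSeries (k + 1) := by
      rw [Subgroup.lowerCentralSeries_succ, Subgroup.commutator_comm]
      exact Subgroup.commutator_mem_commutator (Subgroup.mem_top _) (ih ha)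
    have h2 : b = h⁻¹ * ⁅x, a⁆ := by rw [e]; group
    rw [h2]
    exact Subgroup.mul_mem _ (Subgroup.inv_mem _ (hH (k + 1) hh)) h1

include hHn in
/-- `C_X(H) ≤ H`. -/
theorem cent_le (hH1 : H ≠ ⊥) (hA1 : A ≠ ⊥) (hK : (H ⊔ A).Normal)
    (hfpf : ∀ a ∈ A, a ≠ 1 → H ⊓ Subgroup.centralizer ({a} : Set X) = ⊥)
    (hfrob : ∀ x : X, x ∉ H ⊔ A → ∀ a ∈ A, a ≠ 1 → x * a * x⁻¹ * a⁻¹ ∉ H) :
    Subgroup.centralizer (H : Set X) ≤ H := by
  have hfix := fix_of_fpf H A hfpf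
  obtain ⟨a₀, ha₀, ha₀1⟩ := exists_ne_one' A hA1
  have sub : ∀ c ∈ H ⊔ A, c ∈ Subgroup.centralizer (H : Set X) → c ∈ H := by
    intro c hc hcc
    obtain ⟨h, hh, b, hb, rfl⟩ := (mem_sup_iff' H A c).mp hc
    by_cases hb1 : b = 1
    · rw [hb1, mul_one]; exact hh
    exfalso
    rw [Subgroup.mem_centralizer_iff] at hcc
    have e1 : b * h = h * b := by
      have := hcc h hh
      -- h * (h * b) = (h * b) * h
      have e : b * h = h⁻¹ * ((h * b) * h) := by group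
      rw [e, ← this]; group
    have h1 : h = 1 := hfix b hb hb1 h hh e1
    rw [h1, one_mul] at hcc
    apply hH1
    rw [eq_bot_iff]
    intro y hy
    exact Subgroup.mem_bot.mpr (hfix b hb hb1 y hy (hcc y hy).symm)
  intro x hx
  by_cases hxK : x ∈ H ⊔ A
  · exact sub x hxK hx
  exfalso
  have hnot := hfrob x hxK a₀ ha₀ ha₀1
  apply hnot
  apply sub
  · exact (H ⊔ A).mul_mem (hK.conj_mem _ (Subgroup.mem_sup_right ha₀) x)
      ((H ⊔ A).inv_mem (Subgroup.mem_sup_right ha₀))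
  · rw [Subgroup.mem_centralizer_iff] at hx ⊢
    intro y hy
    have hy' : a₀⁻¹ * y * a₀ ∈ H := by
      have := hHn.conj_mem y hy a₀⁻¹
      simpa using this
    have e1 : y * x = x * y := hx y hy
    have e2 : (a₀⁻¹ * y * a₀) * x = x * (a₀⁻¹ * y * a₀) := hx _ hy'
    have e3 : x⁻¹ * (a₀⁻¹ * y * a₀) = (a₀⁻¹ * y * a₀) * x⁻¹ := by
      calc x⁻¹ * (a₀⁻¹ * y * a₀) = x⁻¹ * ((a₀⁻¹ * y * a₀) * x) * x⁻¹ := by group
        _ = x⁻¹ * (x * (a₀⁻¹ * y * a₀)) * x⁻¹ := by rw [e2]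
        _ = (a₀⁻¹ * y * a₀) * x⁻¹ := by group
    calc y * (x * a₀ * x⁻¹ * a₀⁻¹) = (y * x) * a₀ * x⁻¹ * a₀⁻¹ := by group
      _ = (x * y) * a₀ * x⁻¹ * a₀⁻¹ := by rw [e1]
      _ = x * a₀ * ((a₀⁻¹ * y * a₀) * x⁻¹) * a₀⁻¹ := by group
      _ = x * a₀ * (x⁻¹ * (a₀⁻¹ * y * a₀)) * a₀⁻¹ := by rw [e3]
      _ = x * a₀ * x⁻¹ * a₀⁻¹ * y := by group

include hHn in
/-- `X' ≤ H A`. -/
theorem comm_le (hA1 : A ≠ ⊥) (hAc : IsCyclic A) (hK : (H ⊔ A).Normal)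
    (hfrob : ∀ x : X, x ∉ H ⊔ A → ∀ a ∈ A, a ≠ 1 → x * a * x⁻¹ * a⁻¹ ∉ H) :
    commutator X ≤ H ⊔ A := by
  obtain ⟨⟨g₀, hg₀⟩, hgen⟩ := hAc.exists_generator
  have hgen' : ∀ b ∈ A, ∃ i : ℤ, g₀ ^ i = b := by
    intro b hb
    obtain ⟨i, hi⟩ := Subgroup.mem_zpowers_iff.mp (hgen ⟨b, hb⟩)
    refine ⟨i, ?_⟩
    have := congrArg Subtype.val hi
    simpa using this
  have hg₀1 : g₀ ≠ 1 := by
    intro h0
    apply hA1
    rw [eq_bot_iff]
    intro b hb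
    obtain ⟨i, hi⟩ := hgen' b hb
    rw [h0, one_zpow] at hi
    exact Subgroup.mem_bot.mpr hi.symm
  have hE : ∀ z : X ⧸ H, ∃ n : ℤ, z * (QuotientGroup.mk' H g₀) * z⁻¹ = (QuotientGroup.mk' H g₀) ^ n := by
    intro z
    obtain ⟨z₀, rfl⟩ := QuotientGroup.mk'_surjective H z
    have h1 : z₀ * g₀ * z₀⁻¹ ∈ H ⊔ A := hK.conj_mem _ (Subgroup.mem_sup_right hg₀) z₀
    obtain ⟨h, hh, b, hb, e⟩ := (mem_sup_iff' H A _).mp h1
    obtain ⟨i, hi⟩ := hgen' b hb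
    refine ⟨i, ?_⟩
    rw [← map_inv, ← map_mul, ← map_mul, ← map_zpow, ← e, map_mul, hi]
    have : QuotientGroup.mk' H h = 1 := (QuotientGroup.eq_one_iff h).mpr hh
    rw [this, one_mul]
  rw [commutator_def, Subgroup.commutator_le]
  intro x _ y _
  by_contra hc
  apply hfrob _ hc g₀ hg₀ hg₀1
  have h2 := comm_centralizes (QuotientGroup.mk' H g₀) hE (QuotientGroup.mk' H x) (QuotientGroup.mk' H y)
  rw [← (QuotientGroup.eq_one_iff _)]
  have h3 : ((⁅x, y⁆ * g₀ * ⁅x, y⁆⁻¹ * g₀⁻¹ : X) : X ⧸ H) =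
      ⁅QuotientGroup.mk' H x, QuotientGroup.mk' H y⁆ * QuotientGroup.mk' H g₀ *
        ⁅QuotientGroup.mk' H x, QuotientGroup.mk' H y⁆⁻¹ * (QuotientGroup.mk' H g₀)⁻¹ := by
    rw [← map_commutatorElement]; rfl
  rw [h3, h2, mul_inv_cancel]

/-- A Sylow `p`-subgroup is not contained in `H A`. -/
theorem sylow_not_le (p : ℕ) [Fact p.Prime] (hKtop : H ⊔ A ≠ ⊤) (n : ℕ)
    (hidx : (H ⊔ A).index = p ^ n) (P : Sylow p X) : ¬ ((P : Subgroup X) ≤ H ⊔ A) := by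
  intro hle
  have h1 := Subgroup.relIndex_mul_index hle
  have hn : n ≠ 0 := by
    intro h0
    rw [h0, pow_zero] at hidx
    exact hKtop (Subgroup.index_eq_one.mp hidx)
  have h2 : p ∣ (H ⊔ A).index := by rw [hidx]; exact dvd_pow_self p hn
  exact P.not_dvd_index (h1 ▸ Dvd.dvd.mul_left h2 _)

end TS

/-- Trichotomy for solvable CN-groups, in the form used for three-step groups: either there is a
nilpotent normal subgroup with nilpotent quotient, or the group is a three-step group. -/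
theorem tri {N : Type*} [Group N] [Finite N] [Group.IsSolvable N] (hCN : Cfsg.IsCNGroup N) :
    (∃ F : Subgroup N, Group.IsNilpotent F ∧ ∃ n, (⊤ : Subgroup N).lowerCentralSeries n ≤ F) ∨
      ∃ p : ℕ, p.Prime ∧ Cfsg.IsThreeStepGroup p N := by
  by_cases hnil : Group.IsNilpotent N
  · left
    haveI := hnil
    exact ⟨⊤, inferInstance, 0, le_top⟩
  by_cases hS : ∃ (p : ℕ) (_ : Fact p.Prime) (S : Sylow p N),
      (S : Subgroup N).Normal ∧ (S : Subgroup N) ≠ ⊥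
  · left
    obtain ⟨p, hp, S, hSn, hS1⟩ := hS
    obtain ⟨-, -, -, hQ⟩ := Cfsg.Agent.S1474.result hCN hnil p S hS1 hSn
    obtain ⟨hFn, hFnil, -⟩ := Cfsg.Agent.S1474.fh_mem (G := N)
    haveI := hFn
    refine ⟨Cfsg.fittingHall N, hFnil, ?_⟩
    obtain ⟨n, hn⟩ := Subgroup.nilpotent_iff_lowerCentralSeries.mp hQ
    refine ⟨n, ?_⟩
    have h1 := Subgroup.map_lowerCentralSeries (⊤ : Subgroup N)
      (QuotientGroup.mk' (Cfsg.fittingHall N)) n
    rw [Subgroup.map_top_of_surjective _ (QuotientGroup.mk'_surjective _), hn] at h1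
    intro x hx
    have h2 : QuotientGroup.mk' (Cfsg.fittingHall N) x ∈
        (⊥ : Subgroup (N ⧸ Cfsg.fittingHall N)) := by
      rw [← h1]; exact Subgroup.mem_map_of_mem _ hx
    exact (QuotientGroup.eq_one_iff x).mp (Subgroup.mem_bot.mp h2)
  · right
    have hnS : ∀ (p : ℕ) [Fact p.Prime] (S : Sylow p N), (S : Subgroup N).Normal →
        (S : Subgroup N) = ⊥ := by
      intro p _ S hSn
      by_contra h
      exact hS ⟨p, inferInstance, S, hSn, h⟩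
    have hF : Cfsg.fittingSubgroup N ≠ ⊥ := by
      intro h
      have h1 := Cfsg.Agent.S0044.result (G := N)
      rw [h] at h1
      have h2 : ∀ x : N, x = 1 := by
        intro x
        have : x ∈ Subgroup.centralizer (((⊥ : Subgroup N) : Set N)) := by
          rw [Subgroup.mem_centralizer_iff]
          intro y hy
          have hy' : y = 1 := Subgroup.mem_bot.mp hy
          rw [hy']; simp
        exact Subgroup.mem_bot.mp (h1 this)
      apply hnil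
      haveI : Subsingleton N := ⟨fun a b => by rw [h2 a, h2 b]⟩
      infer_instance
    obtain ⟨⟨p, hp⟩, hpP⟩ : ∃ p : Nat.Primes, Cfsg.pCore (p : ℕ) N ≠ ⊥ := by
      by_contra hcon
      have hcon' : ∀ q : Nat.Primes, Cfsg.pCore (q : ℕ) N = ⊥ :=
        fun q => by_contra (fun h => hcon ⟨q, h⟩)
      apply hF
      rw [Cfsg.Agent.Helper1.fitting_eq_iSup_primes]
      simp [hcon']
    haveI := Fact.mk hp
    have hpP' : Cfsg.pCore p N ≠ ⊥ := hpP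
    have hFP : Cfsg.fittingSubgroup N = Cfsg.pCore p N := by
      apply le_antisymm
      · rw [Cfsg.Agent.Helper1.fitting_eq_iSup_primes]
        apply iSup_le
        intro q
        by_cases hqp : (q : ℕ) = p
        · rw [hqp]
        · rw [Cfsg.Agent.Helper21.unique_pCore hCN hnS p q hp q.2 (Ne.symm hqp) hpP']
          exact bot_le
      · exact Cfsg.Agent.Helper1.pCore_le_fitting p
    haveI hPn := Cfsg.Agent.Helper1.pCore_normal p N
    have hCP : Subgroup.centralizer (Cfsg.pCore p N : Set N) ≤ Cfsg.pCore p N := by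
      rw [← hFP]; exact Cfsg.Agent.S0044.result
    have hnSyl : p ∣ (Cfsg.pCore p N).index := by
      by_contra h
      have h1 := hnS p ((Cfsg.Agent.Helper1.pCore_isPGroup p N).toSylow h)
        (by rw [IsPGroup.toSylow_coe]; exact hPn)
      rw [IsPGroup.toSylow_coe] at h1
      exact hpP' h1
    obtain ⟨A, h1, h2, h3, h4, h5, h6, h7, h8, h9⟩ :=
      Cfsg.Agent.Helper21.three_step_aux hCN p (Cfsg.pCore p N)
        (Cfsg.Agent.Helper1.pCore_isPGroup p N) hpP' hCP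
        (fun V hVn hVp => Cfsg.Agent.Helper1.le_pCore hVn hVp) hnSyl
    exact ⟨p, hp, hpP', A, h1, h2, h3, h4, h5, h6, h7, h8, h9⟩

end Cfsg.Agent.Helper21.ThreeStep
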