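import Mathlib
import Cfsg.Prelude.Def_OddOrderLocal
import Cfsg.Agent.Helper21.ThreeStep
import Cfsg.Agent.Helper21.OddStable
import Cfsg.Agent.Helper21.NilMax
import Cfsg.Agent.Helper10.ZJLocal
import Cfsg.Agent.Helper10.KStable
import Cfsg.Agent.S0650
import Cfsg.Agent.S1478
import Cfsg.Agent.S1477

set_option autoImplicit false
open Cfsg
open scoped commutatorElement

/-!
Maximal subgroups and maximal nilpotent subgroups of a minimal simple CN-group of odd order
(Feit-Hall-Thompson).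
-/

namespace Cfsg.Agent.Helper21.CNMax

open Cfsg.Agent.Helper21.ThreeStep

/-- Trichotomy for solvable CN-groups with explicit Frobenius data. -/
theorem tri2 {N : Type*} [Group N] [Finite N] [Group.IsSolvable N] (hCN : Cfsg.IsCNGroup N) :
    Group.IsNilpotent N ∨
    (∃ E : Subgroup N, (Cfsg.fittingHall N).Normal ∧ Group.IsNilpotent (Cfsg.fittingHall N) ∧
      Cfsg.fittingHall N ≠ ⊥ ∧ Subgroup.IsComplement' (Cfsg.fittingHall N) E ∧ E ≠ ⊥ ∧
      (∀ e ∈ E, e ≠ 1 → Cfsg.fittingHall N ⊓ Subgroup.centralizer ({e} : Set N) = ⊥) ∧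
      ∃ n, (⊤ : Subgroup N).lowerCentralSeries n ≤ Cfsg.fittingHall N) ∨
      ∃ p : ℕ, p.Prime ∧ Cfsg.IsThreeStepGroup p N := by
  by_cases hnil : Group.IsNilpotent N
  · exact Or.inl hnil
  by_cases hS : ∃ (p : ℕ) (_ : Fact p.Prime) (S : Sylow p N),
      (S : Subgroup N).Normal ∧ (S : Subgroup N) ≠ ⊥
  · right; left
    obtain ⟨p, hp, S, hSn, hS1⟩ := hS
    obtain ⟨hF1, -, ⟨E, hE, hEF, hfpf⟩, hQ⟩ := Cfsg.Agent.S1474.result hCN hnil p S hS1 hSn
    obtain ⟨hFn, hFnil, -⟩ := Cfsg.Agent.S1474.fh_mem (G := N)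
    haveI := hFn
    refine ⟨E, hFn, hFnil, hF1, hE, hEF.1, hfpf, ?_⟩
    obtain ⟨n, hn⟩ := Subgroup.nilpotent_iff_lowerCentralSeries.mp hQ
    refine ⟨n, ?_⟩
    have h1 := Subgroup.map_lowerCentralSeries (⊤ : Subgroup N)
      (QuotientGroup.mk' (Cfsg.fittingHall N)) n
    rw [Subgroup.map_top_of_surjective _ (QuotientGroup.mk'_surjective _), hn] at h1
    intro x hx
    have h2 : QuotientGroup.mk' (Cfsg.fittingHall N) x ∈
        (⊥ : Subgroup (N ⧸ Cfsg.fittingHall N)) := by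
      rw [← h1]; exact Subgroup.mem_map_of_mem _ hx
    exact (QuotientGroup.eq_one_iff x).mp (Subgroup.mem_bot.mp h2)
  · right; right
    have hnS : ∀ (p : ℕ) [Fact p.Prime] (S : Sylow p N), (S : Subgroup N).Normal →
        (S : Subgroup N) = ⊥ := by
      intro p _ S hSn
      by_contra h
      exact hS ⟨p, inferInstance, S, hSn, h⟩
    have hF : Cfsg.fittingSubgroup N ≠ ⊥ := by
      intro h
      have h1 := Cfsg.Agent.S0044.result (G := N)
      rw [h] at h1
      have h2 : ∀ x : N, x = 1 := by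
        intro x
        have : x ∈ Subgroup.centralizer (((⊥ : Subgroup N) : Set N)) := by
          rw [Subgroup.mem_centralizer_iff]
          intro y hy
          have hy' : y = 1 := Subgroup.mem_bot.mp hy
          rw [hy']; simp
        exact Subgroup.mem_bot.mp (h1 this)
      apply hnil
      haveI : Subsingleton N := ⟨fun a b => by rw [h2 a, h2 b]⟩
      infer_instance
    obtain ⟨⟨p, hp⟩, hpP⟩ : ∃ p : Nat.Primes, Cfsg.pCore (p : ℕ) N ≠ ⊥ := by
      by_contra hcon
      have hcon' : ∀ q : Nat.Primes, Cfsg.pCore (q : ℕ) N = ⊥ :=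
        fun q => by_contra (fun h => hcon ⟨q, h⟩)
      apply hF
      rw [Cfsg.Agent.Helper1.fitting_eq_iSup_primes]
      simp [hcon']
    haveI := Fact.mk hp
    have hpP' : Cfsg.pCore p N ≠ ⊥ := hpP
    have hFP : Cfsg.fittingSubgroup N = Cfsg.pCore p N := by
      apply le_antisymm
      · rw [Cfsg.Agent.Helper1.fitting_eq_iSup_primes]
        apply iSup_le
        intro q
        by_cases hqp : (q : ℕ) = p
        · rw [hqp]
        · rw [Cfsg.Agent.Helper21.unique_pCore hCN hnS p q hp q.2 (Ne.symm hqp) hpP']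
          exact bot_le
      · exact Cfsg.Agent.Helper1.pCore_le_fitting p
    haveI hPn := Cfsg.Agent.Helper1.pCore_normal p N
    have hCP : Subgroup.centralizer (Cfsg.pCore p N : Set N) ≤ Cfsg.pCore p N := by
      rw [← hFP]; exact Cfsg.Agent.S0044.result
    have hnSyl : p ∣ (Cfsg.pCore p N).index := by
      by_contra h
      have h1 := hnS p ((Cfsg.Agent.Helper1.pCore_isPGroup p N).toSylow h)
        (by rw [IsPGroup.toSylow_coe]; exact hPn)
      rw [IsPGroup.toSylow_coe] at h1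
      exact hpP' h1
    obtain ⟨A, h1, h2, h3, h4, h5, h6, h7, h8, h9⟩ :=
      Cfsg.Agent.Helper21.three_step_aux hCN p (Cfsg.pCore p N)
        (Cfsg.Agent.Helper1.pCore_isPGroup p N) hpP' hCP
        (fun V hVn hVp => Cfsg.Agent.Helper1.le_pCore hVn hVp) hnSyl
    exact ⟨p, hp, hpP', A, h1, h2, h3, h4, h5, h6, h7, h8, h9⟩

variable {G : Type*} [Group G]

/-- Frobenius data for a subgroup `L`: nilpotent normal kernel `F`, complement `E` acting fixed
point freely, nilpotent quotient. -/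
def FD (L F E : Subgroup G) : Prop :=
  F ≤ L ∧ E ≤ L ∧ L ≤ Subgroup.normalizer (F : Set G) ∧ Group.IsNilpotent F ∧ F ≠ ⊥ ∧ E ≠ ⊥ ∧
  F ⊓ E = ⊥ ∧ (∀ m ∈ L, ∃ a ∈ F, ∃ b ∈ E, m = a * b) ∧
  (∀ e ∈ E, e ≠ 1 → F ⊓ Subgroup.centralizer ({e} : Set G) = ⊥) ∧
  ∃ n, L.lowerCentralSeries n ≤ F

theorem fix_of_fpf' {F : Subgroup G} {e : G}
    (h : F ⊓ Subgroup.centralizer ({e} : Set G) = ⊥) : ∀ y ∈ F, e * y = y * e → y = 1 := by
  intro y hy hc
  have h1 : y ∈ F ⊓ Subgroup.centralizer ({e} : Set G) := Subgroup.mem_inf.mpr ⟨hy, by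
    rw [Subgroup.mem_centralizer_iff]; intro z hz
    rw [Set.mem_singleton_iff] at hz; rw [hz]; exact hc⟩
  rw [h, Subgroup.mem_bot] at h1
  exact h1

theorem conj_mem_of_le_normalizer {L F : Subgroup G} (h : L ≤ Subgroup.normalizer (F : Set G))
    {l y : G} (hl : l ∈ L) (hy : y ∈ F) : l * y * l⁻¹ ∈ F :=
  (Subgroup.mem_normalizer_iff.mp (h hl) y).mp hy

/-- If `e ∈ M` normalizes `H ≤ M` fixed point freely then `H` lies in every term of the lower
central series of `M`. -/
theorem le_lcs_of_fpf (H M : Subgroup G) [Finite H] (e : G) (heM : e ∈ M) (hHM : H ≤ M)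
    (hnorm : ∀ h ∈ H, e * h * e⁻¹ ∈ H) (hfix : ∀ h ∈ H, e * h = h * e → h = 1) :
    ∀ n, H ≤ M.lowerCentralSeries n := by
  have hs := surj_comm H e hnorm hfix
  intro n
  induction n with
  | zero => exact hHM
  | succ k ih =>
    intro h hh
    obtain ⟨h', hh', rfl⟩ := hs h hh
    rw [Subgroup.lowerCentralSeries_succ]
    exact Subgroup.commutator_mem_commutator (ih hh') heM

variable [Finite G]

theorem not_nilpotent_top (hsimple : IsSimpleGroup G) (hnc : ¬ IsMulCommutative G) :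
    ¬ Group.IsNilpotent G := by
  intro hnil
  haveI := hnil
  haveI := hsimple
  apply hnc
  have h1 : Group.IsSolvable G := inferInstance
  have h2 := IsSimpleGroup.comm_iff_isSolvable.mpr h1
  exact ⟨⟨h2⟩⟩

theorem normalizer_ne_top (hsimple : IsSimpleGroup G) (hnc : ¬ IsMulCommutative G)
    (R : Subgroup G) (hR1 : R ≠ ⊥) (hRnil : Group.IsNilpotent R) :
    Subgroup.normalizer (R : Set G) ≠ ⊤ := by
  intro htop
  haveI := hsimple
  have hn : R.Normal := Subgroup.normalizer_eq_top_iff.mp htop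
  rcases hn.eq_bot_or_eq_top with h | h
  · exact hR1 h
  · apply not_nilpotent_top hsimple hnc
    rw [h] at hRnil
    exact Group.isNilpotent_top.mp hRnil

/-- The last nontrivial term of the lower central series of a nontrivial nilpotent subgroup. -/
theorem exists_last_lcs (F : Subgroup G) (hF : Group.IsNilpotent F) (hF1 : F ≠ ⊥) :
    ∃ k, F.lowerCentralSeries k ≠ ⊥ ∧ F.lowerCentralSeries (k + 1) = ⊥ := by
  classical
  have hex := (Subgroup.isNilpotent_iff_lowerCentralSeries F).mp hF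
  have h0 : Nat.find hex ≠ 0 := by
    intro h0
    have := Nat.find_spec hex
    rw [h0] at this
    exact hF1 this
  obtain ⟨k, hk⟩ := Nat.exists_eq_succ_of_ne_zero h0
  refine ⟨k, ?_, ?_⟩
  · exact Nat.find_min hex (by rw [hk]; exact Nat.lt_succ_self k)
  · have := Nat.find_spec hex
    rw [hk] at this
    exact this

/-- In a CN-group, elements of `L` outside the Frobenius kernel act fixed point freely on it. -/
theorem fd_cov (hCN : Cfsg.IsCNGroup G) {L F E : Subgroup G} (h : FD L F E) :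
    ∀ x ∈ L, x ∉ F → ∀ y ∈ F, x * y = y * x → y = 1 := by
  obtain ⟨hFL, hEL, hLN, hFnil, hF1, hE1, hFE, hprod, hfpf, -⟩ := h
  intro x hxL hxF y hyF hxy
  by_contra hy1
  have hCnil := hCN y hy1
  obtain ⟨k, hk1, hk2⟩ := exists_last_lcs F hFnil hF1
  have hΓF : F.lowerCentralSeries k ≤ F := by
    have := Subgroup.lowerCentralSeries_antitone (S := F) (Nat.zero_le k)
    exact this
  have hcent : ∀ γ ∈ F.lowerCentralSeries k, ∀ a ∈ F, γ * a = a * γ := by
    intro γ hγ a ha
    have h1 : ⁅γ, a⁆ ∈ F.lowerCentralSeries (k + 1) := by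
      rw [Subgroup.lowerCentralSeries_succ]
      exact Subgroup.commutator_mem_commutator hγ ha
    rw [hk2, Subgroup.mem_bot] at h1
    exact commutatorElement_eq_one_iff_mul_comm.mp h1
  obtain ⟨a, ha, b, hb, hxab⟩ := hprod x hxL
  have hb1 : b ≠ 1 := by
    intro h0
    apply hxF
    rw [hxab, h0, mul_one]; exact ha
  have hfix := fix_of_fpf' (hfpf b hb hb1)
  apply hk1
  apply bot_of_nilpotent (F.lowerCentralSeries k) (Subgroup.centralizer ({y} : Set G)) x
  · rw [Subgroup.mem_centralizer_iff]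
    intro z hz
    rw [Set.mem_singleton_iff] at hz
    rw [hz]; exact hxy.symm
  · intro γ hγ
    rw [Subgroup.mem_centralizer_iff]
    intro z hz
    rw [Set.mem_singleton_iff] at hz
    rw [hz]; exact (hcent γ hγ y hyF).symm
  · intro γ hγ
    have h1 : (F.lowerCentralSeries k).map (MulAut.conj x).toMonoidHom =
        F.lowerCentralSeries k := by
      rw [Subgroup.map_lowerCentralSeries]
      congr 1
      ext z
      constructor
      · rintro ⟨w, hw, rfl⟩
        exact conj_mem_of_le_normalizer hLN hxL hw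
      · intro hz
        refine ⟨x⁻¹ * z * x, ?_, ?_⟩
        · have e : x * (x⁻¹ * z * x) * x⁻¹ = z := by group
          exact (Subgroup.mem_normalizer_iff.mp (hLN hxL) _).mpr (by rw [e]; exact hz)
        · show x * (x⁻¹ * z * x) * x⁻¹ = z
          group
    have h2 : x * γ * x⁻¹ ∈ (F.lowerCentralSeries k).map (MulAut.conj x).toMonoidHom :=
      ⟨γ, hγ, rfl⟩
    rw [h1] at h2
    exact h2
  · intro γ hγ hc
    apply hfix γ (hΓF hγ)
    -- a b γ = γ a b and a γ = γ a imply b γ = γ b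
    have e1 : γ * a = a * γ := hcent γ hγ a ha
    rw [hxab] at hc
    have e2 : a * (b * γ) = a * (γ * b) := by
      calc a * (b * γ) = a * b * γ := by group
        _ = γ * (a * b) := hc
        _ = (γ * a) * b := by group
        _ = (a * γ) * b := by rw [e1]
        _ = a * (γ * b) := by group
    exact mul_left_cancel e2
  · exact hCnil

/-- A nilpotent subgroup of `L` meeting the Frobenius kernel nontrivially lies in it. -/
theorem fd_nil (hCN : Cfsg.IsCNGroup G) {L F E : Subgroup G} (h : FD L F E) (K : Subgroup G)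
    (hKL : K ≤ L) (hK : Group.IsNilpotent K) (hKF : K ⊓ F ≠ ⊥) : K ≤ F := by
  intro k hk
  by_contra hkF
  apply hKF
  apply bot_of_nilpotent (K ⊓ F) K k hk inf_le_left
  · intro y hy
    obtain ⟨hyK, hyF⟩ := Subgroup.mem_inf.mp hy
    exact Subgroup.mem_inf.mpr ⟨K.mul_mem (K.mul_mem hk hyK) (K.inv_mem hk),
      conj_mem_of_le_normalizer h.2.2.1 (hKL hk) hyF⟩
  · intro y hy hc
    exact fd_cov hCN h k (hKL hk) hkF y (Subgroup.mem_inf.mp hy).2 hc
  · exact hK

/-- A nontrivial subgroup normalized by `L` meets the Frobenius kernel nontrivially. -/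
theorem fd_norm (hCN : Cfsg.IsCNGroup G) {L F E : Subgroup G} (h : FD L F E) (R : Subgroup G)
    (hRL : R ≤ L) (hLR : L ≤ Subgroup.normalizer (R : Set G)) (hR1 : R ≠ ⊥) : R ⊓ F ≠ ⊥ := by
  intro h0
  obtain ⟨r, hr, hr1⟩ := exists_ne_one' R hR1
  have hrF : r ∉ F := by
    intro hrF
    have : r ∈ R ⊓ F := Subgroup.mem_inf.mpr ⟨hr, hrF⟩
    rw [h0, Subgroup.mem_bot] at this
    exact hr1 this
  apply h.2.2.2.2.1
  rw [eq_bot_iff]
  intro y hy
  apply Subgroup.mem_bot.mpr
  apply fd_cov hCN h r (hRL hr) hrF y hy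
  have h1 : r * y * r⁻¹ * y⁻¹ ∈ R ⊓ F := by
    refine Subgroup.mem_inf.mpr ⟨?_, ?_⟩
    · have h2 : y * r⁻¹ * y⁻¹ ∈ R :=
        conj_mem_of_le_normalizer hLR (h.1 hy) (R.inv_mem hr)
      have e : r * y * r⁻¹ * y⁻¹ = r * (y * r⁻¹ * y⁻¹) := by group
      rw [e]; exact R.mul_mem hr h2
    · exact F.mul_mem (conj_mem_of_le_normalizer h.2.2.1 (hRL hr) hy) (F.inv_mem hy)
  rw [h0, Subgroup.mem_bot] at h1
  calc r * y = (r * y * r⁻¹ * y⁻¹) * y * r := by group
    _ = y * r := by rw [h1, one_mul]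

/-- Frobenius data (or nilpotency) for proper subgroups of a minimal simple CN-group of odd
order. -/
theorem frob_data (hG : Cfsg.IsMinSimpleOddOrder G) (hCN : Cfsg.IsCNGroup G) (L : Subgroup G)
    (hL : L ≠ ⊤) : Group.IsNilpotent L ∨ ∃ F E : Subgroup G, FD L F E := by
  haveI hsolv : Group.IsSolvable ↥L := hG.2.2.2 L hL
  have hCNL := Cfsg.Agent.Helper21.cn_subgroup hCN L
  rcases tri2 hCNL with hnil | ⟨E, hFn, hFnil, hF1, hcompl, hE1, hfpf, n, hn⟩ | ⟨p, hp, h3⟩
  · exact Or.inl hnil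
  · right
    refine ⟨(Cfsg.fittingHall ↥L).map L.subtype, E.map L.subtype, Subgroup.map_subtype_le _,
      Subgroup.map_subtype_le _, ?_, ?_, ?_, ?_, ?_, ?_, ?_, ?_⟩
    · intro l hl
      apply Cfsg.Agent.S0650.mem_normalizer_of_conj_mem
      rintro _ ⟨y, hy, rfl⟩
      exact ⟨⟨l, hl⟩ * y * ⟨l, hl⟩⁻¹, hFn.conj_mem y hy _, rfl⟩
    · haveI := hFnil
      exact Group.nilpotent_of_mulEquiv
        ((Cfsg.fittingHall ↥L).equivMapOfInjective L.subtype L.subtype_injective)
    · intro h0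
      apply hF1
      rw [eq_bot_iff]; intro y hy
      have h1 : (y : G) ∈ (Cfsg.fittingHall ↥L).map L.subtype := Subgroup.mem_map_of_mem _ hy
      rw [h0, Subgroup.mem_bot] at h1
      exact Subgroup.mem_bot.mpr (Subtype.ext h1)
    · intro h0
      apply hE1
      rw [eq_bot_iff]; intro y hy
      have h1 : (y : G) ∈ E.map L.subtype := Subgroup.mem_map_of_mem _ hy
      rw [h0, Subgroup.mem_bot] at h1
      exact Subgroup.mem_bot.mpr (Subtype.ext h1)
    · rw [eq_bot_iff]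
      intro x hx
      obtain ⟨hxF, hxE⟩ := Subgroup.mem_inf.mp hx
      obtain ⟨y, hy, rfl⟩ := hxF
      obtain ⟨z, hz, hzy⟩ := hxE
      have hzy' : z = y := Subtype.ext hzy
      have h1 : y ∈ Cfsg.fittingHall ↥L ⊓ E := Subgroup.mem_inf.mpr ⟨hy, hzy' ▸ hz⟩
      rw [hcompl.disjoint.eq_bot, Subgroup.mem_bot] at h1
      rw [h1]; exact Subgroup.mem_bot.mpr rfl
    · intro m hm
      obtain ⟨⟨a, b⟩, hab, -⟩ := (Subgroup.isComplement'_def.mp hcompl).existsUnique ⟨m, hm⟩
      refine ⟨((a : ↥L) : G), Subgroup.mem_map_of_mem _ (SetLike.mem_coe.mp a.2),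
        ((b : ↥L) : G), Subgroup.mem_map_of_mem _ (SetLike.mem_coe.mp b.2), ?_⟩
      have h1 := congrArg Subtype.val hab
      simpa using h1.symm
    · rintro _ ⟨e, he, rfl⟩ he1
      have he1' : e ≠ 1 := fun h => he1 (by rw [h]; rfl)
      rw [eq_bot_iff]
      intro x hx
      obtain ⟨hxF, hxc⟩ := Subgroup.mem_inf.mp hx
      obtain ⟨y, hy, rfl⟩ := hxF
      have h1 : y ∈ Cfsg.fittingHall ↥L ⊓ Subgroup.centralizer ({e} : Set ↥L) := by
        refine Subgroup.mem_inf.mpr ⟨hy, ?_⟩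
        rw [Subgroup.mem_centralizer_iff]
        intro z hz
        rw [Set.mem_singleton_iff] at hz
        rw [hz]
        apply Subtype.ext
        exact Subgroup.mem_centralizer_iff.mp hxc (L.subtype e) (Set.mem_singleton _)
      rw [hfpf e he he1', Subgroup.mem_bot] at h1
      rw [h1]; exact Subgroup.mem_bot.mpr rfl
    · refine ⟨n, ?_⟩
      rw [← Subgroup.top_subtype_lowerCentralSeries]
      exact Subgroup.map_mono hn
  · exact absurd h3 (Cfsg.Agent.S1478.result hG hCN L p)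

/-- `N(P) ≤ N(ZJ(P))`. -/
theorem normalizer_le_zj {p : ℕ} [Fact p.Prime] (P : Subgroup G) (hP : IsPGroup p P) :
    Subgroup.normalizer (P : Set G) ≤
      Subgroup.normalizer (Cfsg.Agent.Helper23.zjSub p false P : Set G) := by
  have hW := Cfsg.Agent.Helper10.isConjugacyFunctor_zjSub (G := G) (p := p) false
  intro g hg
  apply Cfsg.Agent.S0650.mem_normalizer_of_conj_mem
  intro z hz
  have h1 : P.map (MulAut.conj g).toMonoidHom = P := by
    ext x
    constructor
    · rintro ⟨y, hy, rfl⟩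
      exact (Subgroup.mem_normalizer_iff.mp hg y).mp hy
    · intro hx
      refine ⟨g⁻¹ * x * g, ?_, ?_⟩
      · have e : g * (g⁻¹ * x * g) * g⁻¹ = x := by group
        exact (Subgroup.mem_normalizer_iff.mp hg _).mpr (by rw [e]; exact hx)
      · show g * (g⁻¹ * x * g) * g⁻¹ = x
        group
  have h2 := (hW P hP).2.2 g
  rw [h1] at h2
  have h3 : g * z * g⁻¹ ∈ (Cfsg.Agent.Helper23.zjSub p false P).map (MulAut.conj g).toMonoidHom :=
    ⟨z, hz, rfl⟩
  rw [← h2] at h3
  exact h3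

/-- Focal subgroup argument: a Sylow subgroup `S` of a minimal simple group of odd order lies in
`[S, N(ZJ(S))]`. -/
theorem focal_le (hG : Cfsg.IsMinSimpleOddOrder G) {p : ℕ} [Fact p.Prime] (S : Sylow p G)
    (hSne : (S : Subgroup G) ≠ ⊥) :
    (S : Subgroup G) ≤ ⁅(S : Subgroup G),
      Subgroup.normalizer (Cfsg.Agent.Helper23.zjSub p false (S : Subgroup G) : Set G)⁆ := by
  classical
  obtain ⟨hodd, hsimple, hnc, hmin⟩ := hG
  haveI := hsimple
  have hpG : p ∣ Nat.card G := by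
    obtain ⟨k, hk⟩ := S.isPGroup'.exists_card_eq
    have hk0 : k ≠ 0 := by
      intro h0
      rw [h0, pow_zero] at hk
      exact hSne (Subgroup.eq_bot_of_card_eq _ hk)
    have h1 : p ∣ Nat.card (S : Subgroup G) := by rw [hk]; exact dvd_pow_self p hk0
    exact h1.trans (Subgroup.card_subgroup_dvd_card _)
  have hq2 : p ≠ 2 := by
    intro h2
    rw [h2] at hpG
    exact (Nat.not_even_iff_odd.mpr hodd) (even_iff_two_dvd.mpr hpG)
  have hloc : ∀ T : Subgroup G,
      (S : Subgroup G) ⊓ Subgroup.centralizer ((S : Subgroup G) : Set G) ≤ T →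
      T ≤ (S : Subgroup G) →
      ∀ (Y : Type _) [Group Y], Cfsg.Agent.Helper10.IsSec ↥(Subgroup.normalizer (T : Set G)) Y →
        Cfsg.Agent.Helper10.QStab p Y := by
    intro T hZT hTS
    have hTne : T ≠ ⊥ := by
      haveI hnt : Nontrivial ↥(S : Subgroup G) := (Subgroup.nontrivial_iff_ne_bot _).2 hSne
      haveI hcn : Nontrivial (Subgroup.center ↥(S : Subgroup G)) := S.isPGroup'.center_nontrivial
      obtain ⟨⟨z, hz⟩, hz1⟩ := exists_ne (1 : Subgroup.center ↥(S : Subgroup G))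
      intro h0
      have hzT : (z : G) ∈ T := by
        apply hZT
        refine Subgroup.mem_inf.mpr ⟨z.2, ?_⟩
        rw [Subgroup.mem_centralizer_iff]
        intro y hy
        have := Subgroup.mem_center_iff.mp hz ⟨y, hy⟩
        exact congrArg Subtype.val this
      rw [h0, Subgroup.mem_bot] at hzT
      apply hz1
      apply Subtype.ext
      apply Subtype.ext
      exact hzT
    have hNT : Subgroup.normalizer (T : Set G) ≠ ⊤ :=
      normalizer_ne_top hsimple hnc T hTne (S.isPGroup'.to_le hTS).isNilpotent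
    haveI hsolvN : Group.IsSolvable ↥(Subgroup.normalizer (T : Set G)) := hmin _ hNT
    have hoddN : Odd (Nat.card ↥(Subgroup.normalizer (T : Set G))) :=
      Odd.of_dvd_nat hodd (Subgroup.card_subgroup_dvd_card _)
    apply Cfsg.Agent.Helper10.qstab_of_sections
    intro K R hR
    apply Cfsg.Agent.Helper21.OddStable.isNormalizerPStable_of_odd inferInstance _ hq2
    exact Odd.of_dvd_nat hoddN ((Subgroup.card_quotient_dvd_card _).trans
      (Subgroup.card_subgroup_dvd_card _))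
  have hctl := Cfsg.Agent.Helper10.zj_ctl_of_local hq2 S hloc
  have hcomm : commutator G = ⊤ := by
    rcases (inferInstance : (commutator G).Normal).eq_bot_or_eq_top with h | h
    · exfalso
      apply hnc
      refine ⟨⟨fun a b => ?_⟩⟩
      have h1 : ⁅a, b⁆ ∈ commutator G := by
        rw [commutator_def]
        exact Subgroup.commutator_mem_commutator (Subgroup.mem_top _) (Subgroup.mem_top _)
      rw [h, Subgroup.mem_bot] at h1
      exact commutatorElement_eq_one_iff_mul_comm.mp h1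
    · exact h
  have h2 := Subgroup.commutator_inf_eq_focalSubgroup S
  rw [hcomm, top_inf_eq] at h2
  refine h2.le.trans ?_
  rw [Subgroup.focalSubgroup_def, Subgroup.closure_le]
  rintro c ⟨hcS, x, hxS, u, rfl⟩
  have hxinv : x⁻¹ ∈ (S : Subgroup G) := Subgroup.inv_mem _ hxS
  have h3 : u * x⁻¹ * u⁻¹ ∈ (S : Subgroup G) := by
    have e : u * x⁻¹ * u⁻¹ = x⁻¹ * ⁅x, u⁆ := by rw [commutatorElement_def]; group
    rw [e]; exact Subgroup.mul_mem _ hxinv hcS
  obtain ⟨m, hm, hmx⟩ := hctl ({x⁻¹} : Set G) u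
    (by intro y hy; rw [Set.mem_singleton_iff] at hy; rw [hy]; exact hxinv)
    (by
      rintro y ⟨a, ha, rfl⟩
      rw [Set.mem_singleton_iff] at ha
      rw [ha]; exact h3)
  have e2 : ⁅x, u⁆ = ⁅x, m⁆ := by
    have e3 : ⁅x, u⁆ = x * (u * x⁻¹ * u⁻¹) := by rw [commutatorElement_def]; group
    rw [e3, ← hmx x⁻¹ (Set.mem_singleton _), commutatorElement_def]; group
  rw [SetLike.mem_coe, e2]
  exact Subgroup.commutator_mem_commutator hxS hm

/-- `N(ZJ(S))` is not nilpotent. -/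
theorem nonnil_zj (hG : Cfsg.IsMinSimpleOddOrder G) {p : ℕ} [Fact p.Prime] (S : Sylow p G)
    (hSne : (S : Subgroup G) ≠ ⊥) :
    ¬ Group.IsNilpotent
      ↥(Subgroup.normalizer (Cfsg.Agent.Helper23.zjSub p false (S : Subgroup G) : Set G)) := by
  intro hnil
  have hf := focal_le hG S hSne
  have hSN : (S : Subgroup G) ≤
      Subgroup.normalizer (Cfsg.Agent.Helper23.zjSub p false (S : Subgroup G) : Set G) :=
    Subgroup.le_normalizer.trans (normalizer_le_zj _ S.isPGroup')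
  have hle : ∀ k, (S : Subgroup G) ≤ (Subgroup.normalizer
      (Cfsg.Agent.Helper23.zjSub p false (S : Subgroup G) : Set G)).lowerCentralSeries k := by
    intro k
    induction k with
    | zero => exact hSN
    | succ k ih =>
      rw [Subgroup.lowerCentralSeries_succ]
      exact hf.trans (Subgroup.commutator_mono ih le_rfl)
  obtain ⟨n, hn⟩ := (Subgroup.isNilpotent_iff_lowerCentralSeries _).mp hnil
  apply hSne
  rw [eq_bot_iff, ← hn]; exact hle n

theorem fd_zj (hG : Cfsg.IsMinSimpleOddOrder G) (hCN : Cfsg.IsCNGroup G) {p : ℕ} [Fact p.Prime]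
    (S : Sylow p G) (hSne : (S : Subgroup G) ≠ ⊥) :
    ∃ F E : Subgroup G,
      FD (Subgroup.normalizer (Cfsg.Agent.Helper23.zjSub p false (S : Subgroup G) : Set G)) F E := by
  have hZne := Cfsg.Agent.Helper23.zjSub_ne_bot S.isPGroup' hSne
  have hZle := Cfsg.Agent.Helper23.zjSub_le p false (S : Subgroup G)
  have hNtop := normalizer_ne_top hG.2.1 hG.2.2.1 _ hZne (S.isPGroup'.to_le hZle).isNilpotent
  exact (frob_data hG hCN _ hNtop).resolve_left (nonnil_zj hG S hSne)

/-- A nilpotent subgroup containing a Sylow subgroup normalizes it. -/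
theorem sylow_normal_in_nil {p : ℕ} [Fact p.Prime] (S : Sylow p G) (K : Subgroup G)
    (hK : Group.IsNilpotent K) (hSK : (S : Subgroup G) ≤ K) :
    K ≤ Subgroup.normalizer ((S : Subgroup G) : Set G) := by
  haveI := hK
  obtain ⟨Q₀, hQ₀⟩ := (S.isPGroup'.comap_subtype (K := K)).exists_le_sylow
  haveI hQn : (Q₀ : Subgroup ↥K).Normal := inferInstance
  have h1 : (S : Subgroup G) ≤ (Q₀ : Subgroup ↥K).map K.subtype := by
    intro s hs
    exact ⟨⟨s, hSK hs⟩, hQ₀ (Subgroup.mem_subgroupOf.mpr hs), rfl⟩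
  have h2 := S.is_maximal' (Q₀.isPGroup'.map K.subtype) h1
  intro k hk
  apply Cfsg.Agent.S0650.mem_normalizer_of_conj_mem
  intro s hs
  rw [← h2] at hs ⊢
  obtain ⟨y, hy, rfl⟩ := hs
  exact ⟨⟨k, hk⟩ * y * ⟨k, hk⟩⁻¹, hQn.conj_mem y hy _, rfl⟩

/-- Every nilpotent subgroup containing the Sylow subgroup `S` lies in the Frobenius kernel of
`N(ZJ(S))`. -/
theorem nil_le (hCN : Cfsg.IsCNGroup G) {p : ℕ} [Fact p.Prime]
    (S : Sylow p G) (hSne : (S : Subgroup G) ≠ ⊥) {F E : Subgroup G}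
    (hFD : FD (Subgroup.normalizer
      (Cfsg.Agent.Helper23.zjSub p false (S : Subgroup G) : Set G)) F E)
    (K : Subgroup G) (hK : Group.IsNilpotent K) (hSK : (S : Subgroup G) ≤ K) : K ≤ F := by
  have hZne := Cfsg.Agent.Helper23.zjSub_ne_bot S.isPGroup' hSne
  have hZle := Cfsg.Agent.Helper23.zjSub_le p false (S : Subgroup G)
  have hNS := normalizer_le_zj (S : Subgroup G) S.isPGroup'
  have hKN := (sylow_normal_in_nil S K hK hSK).trans hNS
  have h1 := fd_norm hCN hFD (Cfsg.Agent.Helper23.zjSub p false (S : Subgroup G))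
    (hZle.trans (Subgroup.le_normalizer.trans hNS)) le_rfl hZne
  apply fd_nil hCN hFD K hKN hK
  intro h0
  apply h1
  rw [eq_bot_iff, ← h0]
  exact inf_le_inf_right _ (hZle.trans hSK)

/-- A Hall subgroup contains a Sylow `p`-subgroup of `G` for each prime dividing its order. -/
theorem exists_sylow_le (H : Subgroup G) (hHall : (Nat.card H).Coprime H.index) (p : ℕ)
    [Fact p.Prime] (hp : p ∣ Nat.card H) : ∃ S : Sylow p G, (S : Subgroup G) ≤ H := by
  have hpp : p.Prime := Fact.out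
  obtain ⟨P₀⟩ : Nonempty (Sylow p ↥H) := inferInstance
  have hcard : Nat.card ↥((P₀ : Subgroup ↥H).map H.subtype) = p ^ (Nat.card G).factorization p := by
    rw [Subgroup.card_map_of_injective H.subtype_injective, P₀.card_eq_multiplicity]
    congr 1
    have h1 := Subgroup.card_mul_index H
    have hidx : ¬ p ∣ H.index := by
      intro h2
      have h3 := Nat.Coprime.eq_one_of_dvd (Nat.Coprime.coprime_dvd_left hp hHall) h2
      exact hpp.one_lt.ne' h3
    have h0 : Nat.card H ≠ 0 := Nat.card_pos.ne'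
    have h0' : H.index ≠ 0 := by
      intro h
      rw [h, mul_zero] at h1
      exact (Nat.card_pos (α := G)).ne' h1.symm
    rw [← h1, Nat.factorization_mul h0 h0', Finsupp.add_apply,
      Nat.factorization_eq_zero_of_not_dvd hidx, add_zero]
  exact ⟨Sylow.ofCard _ hcard, by rw [Sylow.coe_ofCard]; exact Subgroup.map_subtype_le _⟩

theorem max_nil_ne_bot (hG : Cfsg.IsMinSimpleOddOrder G) (H : Subgroup G)
    (hmax : ∀ L : Subgroup G, Group.IsNilpotent L → H ≤ L → L = H) : H ≠ ⊥ := by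
  intro h0
  haveI := hG.2.1
  have hc : Nat.card G ≠ 1 := by
    intro h
    have : Subsingleton G := (Nat.card_eq_one_iff_unique.mp h).1
    exact not_subsingleton G this
  obtain ⟨p, hp, hpG⟩ := Nat.exists_prime_and_dvd hc
  haveI := Fact.mk hp
  obtain ⟨S⟩ : Nonempty (Sylow p G) := inferInstance
  have h1 := hmax (S : Subgroup G) S.isPGroup'.isNilpotent (h0 ▸ bot_le)
  exact S.ne_bot_of_dvd_card hpG (h1.trans h0)

/-- Structure of the normalizer of a maximal nilpotent subgroup. -/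
theorem max_nil_fd (hG : Cfsg.IsMinSimpleOddOrder G) (hCN : Cfsg.IsCNGroup G) (H : Subgroup G)
    (hHnil : Group.IsNilpotent H)
    (hmax : ∀ L : Subgroup G, Group.IsNilpotent L → H ≤ L → L = H) :
    ∃ E : Subgroup G, FD (Subgroup.normalizer (H : Set G)) H E := by
  have hH1 := max_nil_ne_bot hG H hmax
  have hc : Nat.card H ≠ 1 := fun h => hH1 (Subgroup.card_eq_one.mp h)
  obtain ⟨p, hp, hpH⟩ := Nat.exists_prime_and_dvd hc
  haveI := Fact.mk hp
  have hHall := (Cfsg.Agent.S1477.result hCN H hHnil hmax).1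
  obtain ⟨S, hSH⟩ := exists_sylow_le H hHall p hpH
  have hSne : (S : Subgroup G) ≠ ⊥ :=
    S.ne_bot_of_dvd_card (hpH.trans (Subgroup.card_subgroup_dvd_card _))
  obtain ⟨F₁, E₁, hFD1⟩ := fd_zj hG hCN S hSne
  have hHF := nil_le hCN S hSne hFD1 H hHnil hSH
  have hFH : F₁ = H := hmax F₁ hFD1.2.2.2.1 hHF
  rw [hFH] at hFD1
  have hNtop := normalizer_ne_top hG.2.1 hG.2.2.1 H hH1 hHnil
  obtain ⟨e₁, he₁, he₁1⟩ := exists_ne_one' E₁ hFD1.2.2.2.2.2.1
  have hfix := fix_of_fpf' (hFD1.2.2.2.2.2.2.2.2.1 e₁ he₁ he₁1)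
  have hnorm : ∀ h ∈ H, e₁ * h * e₁⁻¹ ∈ H := fun h hh =>
    conj_mem_of_le_normalizer hFD1.2.2.1 (hFD1.2.1 he₁) hh
  rcases frob_data hG hCN _ hNtop with hnil | ⟨F, E, hFD⟩
  · exfalso
    apply hH1
    exact bot_of_nilpotent H (Subgroup.normalizer (H : Set G)) e₁
      (hFD1.2.2.1 (hFD1.2.1 he₁)) Subgroup.le_normalizer hnorm hfix hnil
  · have h1 := fd_norm hCN hFD H Subgroup.le_normalizer le_rfl hH1
    have h2 := fd_nil hCN hFD H Subgroup.le_normalizer hHnil h1
    have h3 : F = H := hmax F hFD.2.2.2.1 h2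
    rw [h3] at hFD
    exact ⟨E, hFD⟩

/-- The normalizer of a maximal nilpotent subgroup is a maximal subgroup. -/
theorem max_nil_coatom (hG : Cfsg.IsMinSimpleOddOrder G) (hCN : Cfsg.IsCNGroup G)
    (H : Subgroup G) (hHnil : Group.IsNilpotent H)
    (hmax : ∀ L : Subgroup G, Group.IsNilpotent L → H ≤ L → L = H) :
    IsCoatom (Subgroup.normalizer (H : Set G)) := by
  have hH1 := max_nil_ne_bot hG H hmax
  obtain ⟨E, hFD⟩ := max_nil_fd hG hCN H hHnil hmax
  refine ⟨normalizer_ne_top hG.2.1 hG.2.2.1 H hH1 hHnil, fun M hM => ?_⟩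
  by_contra hMtop
  obtain ⟨e, he, he1⟩ := exists_ne_one' E hFD.2.2.2.2.2.1
  have hfix := fix_of_fpf' (hFD.2.2.2.2.2.2.2.2.1 e he he1)
  have hnorm : ∀ h ∈ H, e * h * e⁻¹ ∈ H := fun h hh =>
    conj_mem_of_le_normalizer hFD.2.2.1 (hFD.2.1 he) hh
  have heM : e ∈ M := hM.le (hFD.2.1 he)
  have hHM : H ≤ M := Subgroup.le_normalizer.trans hM.le
  rcases frob_data hG hCN M hMtop with hnil | ⟨F, E', hFD'⟩
  · exact hH1 (bot_of_nilpotent H M e heM hHM hnorm hfix hnil)
  · obtain ⟨n, hn⟩ := hFD'.2.2.2.2.2.2.2.2.2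
    have h1 : H ≤ F := (le_lcs_of_fpf H M e heM hHM hnorm hfix n).trans hn
    have h2 : F = H := hmax F hFD'.2.2.2.1 h1
    have h3 : M ≤ Subgroup.normalizer (H : Set G) := h2 ▸ hFD'.2.2.1
    exact not_le_of_gt hM h3

/-- In a nilpotent subgroup, two `p`-subgroups lie in a common `p`-subgroup. -/
theorem pgroups_in_nil {p : ℕ} [Fact p.Prime] (K : Subgroup G) (hK : Group.IsNilpotent K)
    (A B : Subgroup G) (hA : IsPGroup p A) (hB : IsPGroup p B) (hAK : A ≤ K) (hBK : B ≤ K) :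
    ∃ R : Subgroup G, IsPGroup p R ∧ A ≤ R ∧ B ≤ R := by
  haveI := hK
  obtain ⟨Q₀⟩ : Nonempty (Sylow p ↥K) := inferInstance
  haveI hQn : (Q₀ : Subgroup ↥K).Normal := inferInstance
  have key : ∀ A : Subgroup G, IsPGroup p A → A ≤ K → A ≤ (Q₀ : Subgroup ↥K).map K.subtype := by
    intro A hA hAK a ha
    have h1 : A.subgroupOf K ≤ Q₀ := by
      apply Cfsg.Agent.Helper21.le_sylow_of_le_normalizer Q₀ _ hA.comap_subtype
      rw [Subgroup.normalizer_eq_top]; exact le_top
    exact ⟨⟨a, hAK ha⟩, h1 (Subgroup.mem_subgroupOf.mpr ha), rfl⟩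
  exact ⟨_, Q₀.isPGroup'.map _, key A hA hAK, key B hB hBK⟩

theorem ns (hG : Cfsg.IsMinSimpleOddOrder G) (hCN : Cfsg.IsCNGroup G) {p : ℕ} [Fact p.Prime]
    (D A B : Subgroup G) (hD1 : D ≠ ⊥) (hDp : IsPGroup p D) (hA : IsPGroup p A)
    (hB : IsPGroup p B) (hDA : D ≤ A) (hDB : D ≤ B)
    (hAN : A ≤ Subgroup.normalizer (D : Set G)) (hBN : B ≤ Subgroup.normalizer (D : Set G)) :
    ∃ R : Subgroup G, IsPGroup p R ∧ A ≤ R ∧ B ≤ R := by
  have hNtop := normalizer_ne_top hG.2.1 hG.2.2.1 D hD1 hDp.isNilpotent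
  rcases frob_data hG hCN _ hNtop with hnil | ⟨F, E, hFD⟩
  · exact pgroups_in_nil _ hnil A B hA hB hAN hBN
  · have h1 := fd_norm hCN hFD D Subgroup.le_normalizer le_rfl hD1
    have hAF : A ≤ F := fd_nil hCN hFD A hAN hA.isNilpotent (fun h0 => h1 (by
      rw [eq_bot_iff, ← h0]; exact inf_le_inf_right _ hDA))
    have hBF : B ≤ F := fd_nil hCN hFD B hBN hB.isNilpotent (fun h0 => h1 (by
      rw [eq_bot_iff, ← h0]; exact inf_le_inf_right _ hDB))
    exact pgroups_in_nil F hFD.2.2.2.1 A B hA hB hAF hBF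

theorem grow {p : ℕ} [Fact p.Prime] (P : Sylow p G) (D : Subgroup G)
    (hDP : D ≤ (P : Subgroup G)) (hne : D ≠ (P : Subgroup G)) :
    ∃ a, a ∈ (P : Subgroup G) ∧ a ∈ Subgroup.normalizer (D : Set G) ∧ a ∉ D := by
  haveI : Group.IsNilpotent ↥(P : Subgroup G) := P.isPGroup'.isNilpotent
  have hnc' : NormalizerCondition ↥(P : Subgroup G) := Group.normalizerCondition_of_isNilpotent
  have hlt : D.subgroupOf (P : Subgroup G) < ⊤ := by
    rw [lt_top_iff_ne_top]
    intro h0
    rw [Subgroup.subgroupOf_eq_top] at h0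
    exact hne (le_antisymm hDP h0)
  obtain ⟨x, hxN, hxn⟩ := SetLike.exists_of_lt (hnc' _ hlt)
  refine ⟨(x : G), x.2, ?_, ?_⟩
  · apply Cfsg.Agent.S0650.mem_normalizer_of_conj_mem
    intro y hy
    have h1 : (⟨y, hDP hy⟩ : ↥(P : Subgroup G)) ∈ D.subgroupOf (P : Subgroup G) := by
      rw [Subgroup.mem_subgroupOf]; exact hy
    have h2 := (Subgroup.mem_normalizer_iff.mp hxN _).mp h1
    rw [Subgroup.mem_subgroupOf] at h2
    exact h2
  · intro h; exact hxn (Subgroup.mem_subgroupOf.mpr h)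

/-- Sylow subgroups are TI. -/
theorem ti_sylow (hG : Cfsg.IsMinSimpleOddOrder G) (hCN : Cfsg.IsCNGroup G) {p : ℕ}
    [Fact p.Prime] : ∀ (n : ℕ) (P Q : Sylow p G),
    Nat.card (P : Subgroup G) - Nat.card ((P : Subgroup G) ⊓ (Q : Subgroup G) : Subgroup G) = n →
    (P : Subgroup G) ⊓ (Q : Subgroup G) ≠ ⊥ → P = Q := by
  intro n
  induction n using Nat.strong_induction_on with
  | _ n ih =>
    intro P Q hn hD
    by_contra hPQ
    have hDP : (P : Subgroup G) ⊓ (Q : Subgroup G) ≠ (P : Subgroup G) := by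
      intro h0
      have hle : (P : Subgroup G) ≤ Q := inf_eq_left.mp h0
      exact hPQ (Sylow.ext (P.is_maximal' Q.isPGroup' hle).symm)
    have hDQ : (P : Subgroup G) ⊓ (Q : Subgroup G) ≠ (Q : Subgroup G) := by
      intro h0
      have hle : (Q : Subgroup G) ≤ P := inf_eq_right.mp h0
      exact hPQ (Sylow.ext (Q.is_maximal' P.isPGroup' hle))
    obtain ⟨a, haP, haN, haD⟩ := grow P _ inf_le_left hDP
    obtain ⟨b, hbQ, hbN, hbD⟩ := grow Q _ inf_le_right hDQ
    have hDp : IsPGroup p ↥((P : Subgroup G) ⊓ (Q : Subgroup G) : Subgroup G) :=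
      P.isPGroup'.to_le inf_le_left
    obtain ⟨R, hRp, hAR, hBR⟩ := ns hG hCN ((P : Subgroup G) ⊓ (Q : Subgroup G))
      ((P : Subgroup G) ⊓ Subgroup.normalizer
        ((((P : Subgroup G) ⊓ (Q : Subgroup G) : Subgroup G)) : Set G))
      ((Q : Subgroup G) ⊓ Subgroup.normalizer
        ((((P : Subgroup G) ⊓ (Q : Subgroup G) : Subgroup G)) : Set G))
      hD hDp (P.isPGroup'.to_le inf_le_left) (Q.isPGroup'.to_le inf_le_left)
      (le_inf inf_le_left Subgroup.le_normalizer) (le_inf inf_le_right Subgroup.le_normalizer)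
      inf_le_right inf_le_right
    obtain ⟨P₁, hP₁⟩ := hRp.exists_le_sylow
    have hDP₁ : (P : Subgroup G) ⊓ (Q : Subgroup G) ≤ P₁ := fun d hd =>
      hP₁ (hAR (Subgroup.mem_inf.mpr ⟨(Subgroup.mem_inf.mp hd).1, Subgroup.le_normalizer hd⟩))
    have haP₁ : a ∈ (P₁ : Subgroup G) := hP₁ (hAR (Subgroup.mem_inf.mpr ⟨haP, haN⟩))
    have hbP₁ : b ∈ (P₁ : Subgroup G) := hP₁ (hBR (Subgroup.mem_inf.mpr ⟨hbQ, hbN⟩))
    have hc1 : Nat.card ((P : Subgroup G) ⊓ (Q : Subgroup G) : Subgroup G) <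
        Nat.card ((P : Subgroup G) ⊓ (P₁ : Subgroup G) : Subgroup G) := by
      by_contra hcon
      have hle : (P : Subgroup G) ⊓ (Q : Subgroup G) ≤ (P : Subgroup G) ⊓ (P₁ : Subgroup G) :=
        le_inf inf_le_left hDP₁
      have heq := Subgroup.eq_of_le_of_card_ge hle (not_lt.mp hcon)
      apply haD
      rw [heq]; exact Subgroup.mem_inf.mpr ⟨haP, haP₁⟩
    have hc2 : Nat.card ((P : Subgroup G) ⊓ (Q : Subgroup G) : Subgroup G) <
        Nat.card ((Q : Subgroup G) ⊓ (P₁ : Subgroup G) : Subgroup G) := by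
      by_contra hcon
      have hle : (P : Subgroup G) ⊓ (Q : Subgroup G) ≤ (Q : Subgroup G) ⊓ (P₁ : Subgroup G) :=
        le_inf inf_le_right hDP₁
      have heq := Subgroup.eq_of_le_of_card_ge hle (not_lt.mp hcon)
      apply hbD
      rw [heq]; exact Subgroup.mem_inf.mpr ⟨hbQ, hbP₁⟩
    have hc3 : Nat.card ((P : Subgroup G) ⊓ (P₁ : Subgroup G) : Subgroup G) ≤
        Nat.card (P : Subgroup G) := Subgroup.card_le_of_le inf_le_left
    have hc4 : Nat.card ((Q : Subgroup G) ⊓ (P₁ : Subgroup G) : Subgroup G) ≤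
        Nat.card (Q : Subgroup G) := Subgroup.card_le_of_le inf_le_left
    have hc5 : Nat.card (Q : Subgroup G) = Nat.card (P : Subgroup G) := by
      rw [Q.card_eq_multiplicity, P.card_eq_multiplicity]
    have hne1 : (P : Subgroup G) ⊓ (P₁ : Subgroup G) ≠ ⊥ := fun h0 =>
      hD (by rw [eq_bot_iff, ← h0]; exact le_inf inf_le_left hDP₁)
    have hne2 : (Q : Subgroup G) ⊓ (P₁ : Subgroup G) ≠ ⊥ := fun h0 =>
      hD (by rw [eq_bot_iff, ← h0]; exact le_inf inf_le_right hDP₁)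
    have e1 : P = P₁ := ih _ (by omega) P P₁ rfl hne1
    have e2 : Q = P₁ := ih _ (by omega) Q P₁ rfl hne2
    exact hPQ (e1.trans e2.symm)

/-- Maximal nilpotent subgroups are TI. -/
theorem max_nil_ti (hG : Cfsg.IsMinSimpleOddOrder G) (hCN : Cfsg.IsCNGroup G) (H : Subgroup G)
    (hHnil : Group.IsNilpotent H)
    (hmax : ∀ L : Subgroup G, Group.IsNilpotent L → H ≤ L → L = H) :
    ∀ g : G, H.map (MulAut.conj g).toMonoidHom ≠ H →
      H ⊓ H.map (MulAut.conj g).toMonoidHom = ⊥ := by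
  intro g hg
  by_contra hne
  obtain ⟨x, hx, hx1⟩ := exists_ne_one' _ hne
  obtain ⟨hxH, hxH'⟩ := Subgroup.mem_inf.mp hx
  have ho1 : orderOf x ≠ 1 := fun h => hx1 (orderOf_eq_one_iff.mp h)
  obtain ⟨p, hp, hpo⟩ := Nat.exists_prime_and_dvd ho1
  haveI := Fact.mk hp
  obtain ⟨y, hy⟩ : ∃ y : G, y = x ^ (orderOf x / p) := ⟨_, rfl⟩
  have hyo : orderOf y = p := by
    rw [hy]; exact orderOf_pow_orderOf_div (orderOf_pos x).ne' hpo
  have hyH : y ∈ H := by rw [hy]; exact H.pow_mem hxH _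
  have hyH' : y ∈ H.map (MulAut.conj g).toMonoidHom := by
    rw [hy]; exact Subgroup.pow_mem _ hxH' _
  have hpH : p ∣ Nat.card H := by
    have h1 := orderOf_dvd_natCard (⟨y, hyH⟩ : H)
    rw [Subgroup.orderOf_mk, hyo] at h1
    exact h1
  have hHall := (Cfsg.Agent.S1477.result hCN H hHnil hmax).1
  obtain ⟨S, hSH⟩ := exists_sylow_le H hHall p hpH
  have hSne : (S : Subgroup G) ≠ ⊥ :=
    S.ne_bot_of_dvd_card (hpH.trans (Subgroup.card_subgroup_dvd_card _))
  obtain ⟨F₁, E₁, hFD1⟩ := fd_zj hG hCN S hSne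
  have hHF := nil_le hCN S hSne hFD1 H hHnil hSH
  have hFH : F₁ = H := hmax F₁ hFD1.2.2.2.1 hHF
  have hHN := sylow_normal_in_nil S H hHnil hSH
  have pel : ∀ w : G, w ∈ H → orderOf w = p → w ∈ (S : Subgroup G) := by
    intro w hw hwo
    have hwp : IsPGroup p (Subgroup.zpowers w) :=
      IsPGroup.of_card (n := 1) (by rw [Nat.card_zpowers, hwo, pow_one])
    exact Cfsg.Agent.Helper21.le_sylow_of_le_normalizer S (Subgroup.zpowers w) hwp
      ((Subgroup.zpowers_le.mpr hw).trans hHN) (Subgroup.mem_zpowers w)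
  have hyS : y ∈ (S : Subgroup G) := pel y hyH hyo
  obtain ⟨w, hw, hwy⟩ := hyH'
  have hwy' : g * w * g⁻¹ = y := hwy
  have hwo : orderOf w = p := by
    rw [← hyo, ← hwy]
    exact (orderOf_injective (MulAut.conj g).toMonoidHom (MulAut.conj g).injective w).symm
  have hwS : w ∈ (S : Subgroup G) := pel w hw hwo
  have hy1 : y ≠ 1 := by
    intro h
    rw [h, orderOf_one] at hyo
    exact hp.one_lt.ne hyo
  have hyS' : y ∈ ((g • S : Sylow p G) : Subgroup G) := by
    rw [Sylow.coe_subgroup_smul, Subgroup.mem_pointwise_smul_iff_inv_smul_mem]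
    have e : g⁻¹ * y * g = w := by rw [← hwy']; group
    have h2 : g⁻¹ * y * g ∈ (S : Subgroup G) := by rw [e]; exact hwS
    simpa [MulAut.smul_def] using h2
  have hSS : S = g • S := ti_sylow hG hCN _ S (g • S) rfl (fun h0 => hy1 (by
    have : y ∈ (S : Subgroup G) ⊓ ((g • S : Sylow p G) : Subgroup G) :=
      Subgroup.mem_inf.mpr ⟨hyS, hyS'⟩
    rw [h0, Subgroup.mem_bot] at this
    exact this))
  have hSK : (S : Subgroup G) ≤ H.map (MulAut.conj g).toMonoidHom := by
    intro s hs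
    have hs2 : s ∈ ((g • S : Sylow p G) : Subgroup G) := by rw [← hSS]; exact hs
    rw [Sylow.coe_subgroup_smul, Subgroup.mem_pointwise_smul_iff_inv_smul_mem] at hs2
    have hs' : g⁻¹ * s * g ∈ (S : Subgroup G) := by simpa [MulAut.smul_def] using hs2
    refine ⟨g⁻¹ * s * g, hSH hs', ?_⟩
    show g * (g⁻¹ * s * g) * g⁻¹ = s
    group
  have hKnil : Group.IsNilpotent ↥(H.map (MulAut.conj g).toMonoidHom) := by
    haveI := hHnil
    exact Group.nilpotent_of_mulEquiv (H.equivMapOfInjective _ (MulAut.conj g).injective)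
  have hKF := nil_le hCN S hSne hFD1 _ hKnil hSK
  rw [hFH] at hKF
  apply hg
  exact Subgroup.eq_of_le_of_card_ge hKF (by
    rw [Subgroup.card_map_of_injective (MulAut.conj g).injective])

theorem exists_max_nil (K : Subgroup G) (hK : Group.IsNilpotent K) :
    ∃ H : Subgroup G, K ≤ H ∧ Group.IsNilpotent H ∧
      ∀ L : Subgroup G, Group.IsNilpotent L → H ≤ L → L = H := by
  obtain ⟨H, hKH, hH⟩ :=
    Finite.exists_le_maximal (p := fun L : Subgroup G => Group.IsNilpotent L) hK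
  exact ⟨H, hKH, hH.1, fun L hL hHL => le_antisymm (hH.2 hL hHL) hHL⟩

/-- Every maximal subgroup is a Frobenius group whose kernel is a maximal nilpotent subgroup. -/
theorem coatom_struct (hG : Cfsg.IsMinSimpleOddOrder G) (hCN : Cfsg.IsCNGroup G)
    (M : Subgroup G) (hM : IsCoatom M) :
    ∃ H E : Subgroup G, Group.IsNilpotent H ∧
      (∀ L : Subgroup G, Group.IsNilpotent L → H ≤ L → L = H) ∧ FD M H E := by
  rcases frob_data hG hCN M hM.1 with hnil | ⟨F, E, hFD⟩
  · exfalso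
    obtain ⟨H, hMH, hHnil, hmax⟩ := exists_max_nil M hnil
    have hHtop : H ≠ ⊤ := fun h =>
      not_nilpotent_top hG.2.1 hG.2.2.1 (Group.isNilpotent_top.mp (h ▸ hHnil))
    have hHM : H = M := by
      rcases eq_or_lt_of_le hMH with h | h
      · exact h.symm
      · exact absurd (hM.2 H h) hHtop
    obtain ⟨E, hFD⟩ := max_nil_fd hG hCN H hHnil hmax
    have hlt : H < Subgroup.normalizer (H : Set G) := by
      refine lt_of_le_of_ne Subgroup.le_normalizer ?_
      intro heq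
      obtain ⟨e, he, he1⟩ := exists_ne_one' E hFD.2.2.2.2.2.1
      have heH : e ∈ H := by rw [heq]; exact hFD.2.1 he
      have h1 : e ∈ H ⊓ E := Subgroup.mem_inf.mpr ⟨heH, he⟩
      rw [hFD.2.2.2.2.2.2.1, Subgroup.mem_bot] at h1
      exact he1 h1
    rw [hHM] at hlt
    have h2 := hM.2 _ hlt
    rw [← hHM] at h2
    exact normalizer_ne_top hG.2.1 hG.2.2.1 H (max_nil_ne_bot hG H hmax) hHnil h2
  · obtain ⟨H, hFH, hHnil, hmax⟩ := exists_max_nil F hFD.2.2.2.1
    have hti := max_nil_ti hG hCN H hHnil hmax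
    have hMN : M ≤ Subgroup.normalizer (H : Set G) := by
      intro m hm
      apply Cfsg.Agent.S0650.mem_normalizer_of_conj_mem
      by_cases hc : H.map (MulAut.conj m).toMonoidHom = H
      · intro x hx
        have h1 : m * x * m⁻¹ ∈ H.map (MulAut.conj m).toMonoidHom := ⟨x, hx, rfl⟩
        rw [hc] at h1
        exact h1
      · exfalso
        have h1 := hti m hc
        apply hFD.2.2.2.2.1
        rw [eq_bot_iff, ← h1]
        intro x hx
        refine Subgroup.mem_inf.mpr ⟨hFH hx, ⟨m⁻¹ * x * m, hFH ?_, ?_⟩⟩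
        · have h2 := conj_mem_of_le_normalizer hFD.2.2.1 (M.inv_mem hm) hx
          simpa using h2
        · show m * (m⁻¹ * x * m) * m⁻¹ = x
          group
    have hNtop := (max_nil_coatom hG hCN H hHnil hmax).1
    have hMeq : M = Subgroup.normalizer (H : Set G) := by
      rcases eq_or_lt_of_le hMN with h | h
      · exact h
      · exact absurd (hM.2 _ h) hNtop
    have hHM : H ≤ M := by rw [hMeq]; exact Subgroup.le_normalizer
    have hHF : H ≤ F := fd_nil hCN hFD H hHM hHnil (by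
      intro h0
      apply hFD.2.2.2.2.1
      rw [eq_bot_iff, ← h0]
      exact le_inf hFH le_rfl)
    have hEq : F = H := le_antisymm hFH hHF
    rw [hEq] at hFD
    exact ⟨H, E, hHnil, hmax, hFD⟩

end Cfsg.Agent.Helper21.CNMax
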