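import Mathlib
import Cfsg.Agent.Helper21.CNMax

set_option autoImplicit false
open Cfsg
open scoped commutatorElement

/-!
Further consequences for minimal simple CN-groups of odd order: conjugacy of maximal nilpotent
subgroups, and the Fitting-Hall subgroups of maximal subgroups.
-/

namespace Cfsg.Agent.Helper21.CNMax

open Cfsg.Agent.Helper21.ThreeStep

variable {G : Type*} [Group G] [Finite G]

theorem p_elt_mem {p : ℕ} [Fact p.Prime] (S : Sylow p G) (K : Subgroup G)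
    (hK : Group.IsNilpotent K) (hSK : (S : Subgroup G) ≤ K) (w : G) (hw : w ∈ K)
    (hwp : IsPGroup p (Subgroup.zpowers w)) : w ∈ (S : Subgroup G) :=
  Cfsg.Agent.Helper21.le_sylow_of_le_normalizer S (Subgroup.zpowers w) hwp
    ((Subgroup.zpowers_le.mpr hw).trans (sylow_normal_in_nil S K hK hSK)) (Subgroup.mem_zpowers w)

theorem conj_le (hG : Cfsg.IsMinSimpleOddOrder G) (hCN : Cfsg.IsCNGroup G) {p : ℕ}
    [Fact p.Prime] (H₁ H₂ : Subgroup G) (hH₁ : Group.IsNilpotent H₁)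
    (hH₂ : Group.IsNilpotent H₂)
    (hmax₂ : ∀ L : Subgroup G, Group.IsNilpotent L → H₂ ≤ L → L = H₂) (S₁ S₂ : Sylow p G)
    (h₁ : (S₁ : Subgroup G) ≤ H₁) (h₂ : (S₂ : Subgroup G) ≤ H₂)
    (hS : (S₂ : Subgroup G) ≠ ⊥) : ∃ g : G, H₁.map (MulAut.conj g).toMonoidHom ≤ H₂ := by
  obtain ⟨g, hg⟩ := MulAction.exists_smul_eq G S₁ S₂
  refine ⟨g, ?_⟩
  obtain ⟨F, E, hFD⟩ := fd_zj hG hCN S₂ hS
  have hH₂F := nil_le hCN S₂ hS hFD H₂ hH₂ h₂
  have hFH : F = H₂ := hmax₂ F hFD.2.2.2.1 hH₂F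
  have hSK : (S₂ : Subgroup G) ≤ H₁.map (MulAut.conj g).toMonoidHom := by
    intro s hs
    have hs2 : s ∈ ((g • S₁ : Sylow p G) : Subgroup G) := by rw [hg]; exact hs
    rw [Sylow.coe_subgroup_smul, Subgroup.mem_pointwise_smul_iff_inv_smul_mem] at hs2
    have hs' : g⁻¹ * s * g ∈ (S₁ : Subgroup G) := by simpa [MulAut.smul_def] using hs2
    refine ⟨g⁻¹ * s * g, h₁ hs', ?_⟩
    show g * (g⁻¹ * s * g) * g⁻¹ = s
    group
  have hKnil : Group.IsNilpotent ↥(H₁.map (MulAut.conj g).toMonoidHom) := by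
    haveI := hH₁
    exact Group.nilpotent_of_mulEquiv (H₁.equivMapOfInjective _ (MulAut.conj g).injective)
  have h3 := nil_le hCN S₂ hS hFD _ hKnil hSK
  rwa [hFH] at h3

/-- Two maximal nilpotent subgroups are conjugate or have coprime orders. -/
theorem conj_or_coprime (hG : Cfsg.IsMinSimpleOddOrder G) (hCN : Cfsg.IsCNGroup G)
    (H₁ H₂ : Subgroup G) (hH₁ : Group.IsNilpotent H₁)
    (hmax₁ : ∀ L : Subgroup G, Group.IsNilpotent L → H₁ ≤ L → L = H₁)
    (hH₂ : Group.IsNilpotent H₂)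
    (hmax₂ : ∀ L : Subgroup G, Group.IsNilpotent L → H₂ ≤ L → L = H₂) :
    (∃ g : G, H₂ = H₁.map (MulAut.conj g).toMonoidHom) ∨
      (Nat.card H₁).Coprime (Nat.card H₂) := by
  by_cases hc : (Nat.card H₁).Coprime (Nat.card H₂)
  · exact Or.inr hc
  left
  obtain ⟨p, hp, hp1, hp2⟩ := Nat.Prime.not_coprime_iff_dvd.mp hc
  haveI := Fact.mk hp
  obtain ⟨S₁, hS₁⟩ := exists_sylow_le H₁ (Cfsg.Agent.S1477.result hCN H₁ hH₁ hmax₁).1 p hp1
  obtain ⟨S₂, hS₂⟩ := exists_sylow_le H₂ (Cfsg.Agent.S1477.result hCN H₂ hH₂ hmax₂).1 p hp2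
  have hpG : p ∣ Nat.card G := hp1.trans (Subgroup.card_subgroup_dvd_card _)
  obtain ⟨g, hg⟩ := conj_le hG hCN H₁ H₂ hH₁ hH₂ hmax₂ S₁ S₂ hS₁ hS₂
    (S₂.ne_bot_of_dvd_card hpG)
  obtain ⟨g', hg'⟩ := conj_le hG hCN H₂ H₁ hH₂ hH₁ hmax₁ S₂ S₁ hS₂ hS₁
    (S₁.ne_bot_of_dvd_card hpG)
  refine ⟨g, ?_⟩
  have c1 : Nat.card H₂ ≤ Nat.card H₁ := by
    have h := Subgroup.card_le_of_le hg'
    rwa [Subgroup.card_map_of_injective (MulAut.conj g').injective] at h
  exact (Subgroup.eq_of_le_of_card_ge hg (by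
    rw [Subgroup.card_map_of_injective (MulAut.conj g).injective]; exact c1)).symm

theorem hall_factorization (H : Subgroup G) (hHall : (Nat.card H).Coprime H.index) (p : ℕ)
    (hpp : p.Prime) (hp : p ∣ Nat.card H) :
    (Nat.card H).factorization p = (Nat.card G).factorization p := by
  have h1 := Subgroup.card_mul_index H
  have hidx : ¬ p ∣ H.index := by
    intro h2
    have h3 := Nat.Coprime.eq_one_of_dvd (Nat.Coprime.coprime_dvd_left hp hHall) h2
    exact hpp.one_lt.ne' h3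
  have h0 : Nat.card H ≠ 0 := Nat.card_pos.ne'
  have h0' : H.index ≠ 0 := by
    intro h
    rw [h, mul_zero] at h1
    exact (Nat.card_pos (α := G)).ne' h1.symm
  rw [← h1, Nat.factorization_mul h0 h0', Finsupp.add_apply,
    Nat.factorization_eq_zero_of_not_dvd hidx, add_zero]

/-- The Fitting-Hall subgroup of a maximal subgroup is its maximal nilpotent Frobenius kernel. -/
theorem fittingHallOf_eq (hCN : Cfsg.IsCNGroup G)
    (M H E : Subgroup G) (hHnil : Group.IsNilpotent H)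
    (hmax : ∀ L : Subgroup G, Group.IsNilpotent L → H ≤ L → L = H) (hFD : FD M H E) :
    Cfsg.fittingHallOf M = H := by
  have hHM : H ≤ M := hFD.1
  have hHall := (Cfsg.Agent.S1477.result hCN H hHnil hmax).1
  obtain ⟨hΦn, hΦnil, -⟩ := Cfsg.Agent.S1474.fh_mem (G := ↥M)
  have hsub : H.subgroupOf M ≤ Cfsg.fittingHall ↥M := by
    apply le_sSup
    refine ⟨(Subgroup.normal_subgroupOf_iff_le_normalizer hHM).mpr hFD.2.2.1, ?_, ?_⟩
    · haveI := hHnil
      exact Group.nilpotent_of_mulEquiv (Subgroup.subgroupOfEquivOfLe hHM).symm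
    · have e1 : Nat.card ↥(H.subgroupOf M) = Nat.card H :=
        Nat.card_congr (Subgroup.subgroupOfEquivOfLe hHM).toEquiv
      rw [e1]
      exact Nat.Coprime.coprime_dvd_right (Subgroup.relIndex_dvd_index_of_le hHM) hHall
  have hle : H ≤ (Cfsg.fittingHall ↥M).map M.subtype := by
    intro h hh
    exact ⟨⟨h, hHM hh⟩, hsub (Subgroup.mem_subgroupOf.mpr hh), rfl⟩
  have hnil' : Group.IsNilpotent ↥((Cfsg.fittingHall ↥M).map M.subtype) := by
    haveI := hΦnil
    exact Group.nilpotent_of_mulEquiv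
      ((Cfsg.fittingHall ↥M).equivMapOfInjective M.subtype M.subtype_injective)
  exact hmax _ hnil' hle

theorem max_nil_unique_of_normalizer (hG : Cfsg.IsMinSimpleOddOrder G) (hCN : Cfsg.IsCNGroup G)
    (H H' : Subgroup G) (hHnil : Group.IsNilpotent H)
    (hmax : ∀ L : Subgroup G, Group.IsNilpotent L → H ≤ L → L = H)
    (hH'nil : Group.IsNilpotent H')
    (hmax' : ∀ L : Subgroup G, Group.IsNilpotent L → H' ≤ L → L = H')
    (hN : Subgroup.normalizer (H' : Set G) = Subgroup.normalizer (H : Set G)) : H' = H := by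
  obtain ⟨E, hFD⟩ := max_nil_fd hG hCN H hHnil hmax
  have hH'N : H' ≤ Subgroup.normalizer (H : Set G) := hN ▸ Subgroup.le_normalizer
  have h1 := fd_norm hCN hFD H' hH'N hN.ge (max_nil_ne_bot hG H' hmax')
  have h2 := fd_nil hCN hFD H' hH'N hH'nil h1
  exact (hmax' H hHnil h2).symm

theorem max_nil_conj (H : Subgroup G) (hHnil : Group.IsNilpotent H)
    (hmax : ∀ L : Subgroup G, Group.IsNilpotent L → H ≤ L → L = H) (g : G) :
    Group.IsNilpotent ↥(H.map (MulAut.conj g).toMonoidHom) ∧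
      ∀ L : Subgroup G, Group.IsNilpotent L → H.map (MulAut.conj g).toMonoidHom ≤ L →
        L = H.map (MulAut.conj g).toMonoidHom := by
  have hKnil : Group.IsNilpotent ↥(H.map (MulAut.conj g).toMonoidHom) := by
    haveI := hHnil
    exact Group.nilpotent_of_mulEquiv (H.equivMapOfInjective _ (MulAut.conj g).injective)
  refine ⟨hKnil, fun L hL hle => ?_⟩
  have hL' : Group.IsNilpotent ↥(L.map (MulAut.conj g⁻¹).toMonoidHom) := by
    haveI := hL
    exact Group.nilpotent_of_mulEquiv (L.equivMapOfInjective _ (MulAut.conj g⁻¹).injective)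
  have hHL : H ≤ L.map (MulAut.conj g⁻¹).toMonoidHom := by
    intro h hh
    refine ⟨g * h * g⁻¹, hle ⟨h, hh, rfl⟩, ?_⟩
    show g⁻¹ * (g * h * g⁻¹) * g⁻¹⁻¹ = h
    group
  have h1 := hmax _ hL' hHL
  have c1 : Nat.card L = Nat.card H := by
    rw [← h1, Subgroup.card_map_of_injective (MulAut.conj g⁻¹).injective]
  exact (Subgroup.eq_of_le_of_card_ge hle (by
    rw [Subgroup.card_map_of_injective (MulAut.conj g).injective, c1])).symm

end Cfsg.Agent.Helper21.CNMax
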