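import Mathlib
import Cfsg.Agent.Helper21.NpcZJ
import Cfsg.Agent.S0031
import Cfsg.Agent.S0032
import Cfsg.Agent.Helper1.Frobenius
import Cfsg.Agent.Helper14.CoprimeAut2
import Cfsg.Agent.Helper16.NPC

/-!
Helper library (helper21): Thompson's theorem — a finite group with a fixed-point-free
automorphism `φ` with `φ ^ r = 1`, `r` prime, is nilpotent.

Main results:
* `fpf_centralizes`: a `φ`-invariant subgroup `A` centralizes every normal abelian `φ`-invariant
  subgroup `V` of coprime order.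
* `thompson_nilpotent`.
-/

set_option autoImplicit false

namespace Cfsg.Agent.Helper21

universe u

section Mu

variable {G : Type*} [Group G]

/-- `muF φ k a = a * φ a * ⋯ * φ^(k-1) a`. -/
def muF (φ : G ≃* G) : ℕ → G → G
  | 0, _ => 1
  | (k + 1), a => a * φ (muF φ k a)

theorem muF_zero (φ : G ≃* G) (a : G) : muF φ 0 a = 1 := rfl

theorem muF_succ (φ : G ≃* G) (k : ℕ) (a : G) : muF φ (k + 1) a = a * φ (muF φ k a) := rfl

theorem muF_succ' (φ : G ≃* G) (k : ℕ) (a : G) :
    muF φ (k + 1) a = muF φ k a * (⇑φ)^[k] a := by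
  induction k with
  | zero => simp [muF]
  | succ k ih =>
    calc muF φ (k + 2) a = a * φ (muF φ (k + 1) a) := rfl
      _ = a * φ (muF φ k a * (⇑φ)^[k] a) := by rw [ih]
      _ = (a * φ (muF φ k a)) * φ ((⇑φ)^[k] a) := by rw [map_mul, mul_assoc]
      _ = muF φ (k + 1) a * (⇑φ)^[k + 1] a := by
        rw [Function.iterate_succ_apply']; rfl

theorem muF_add (φ : G ≃* G) (k l : ℕ) (a : G) :
    muF φ (k + l) a = muF φ k a * (⇑φ)^[k] (muF φ l a) := by
  induction l with
  | zero => simp [muF, iterate_map_one]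
  | succ l ih =>
    rw [← add_assoc, muF_succ', ih, muF_succ', iterate_map_mul, ← Function.iterate_add_apply,
      mul_assoc]

theorem muF_eq_list (φ : G ≃* G) (k : ℕ) (a : G) :
    muF φ k a = ((List.range k).map (fun i => (⇑φ)^[i] a)).prod := by
  induction k with
  | zero => simp [muF]
  | succ k ih =>
    rw [muF_succ', ih, List.range_succ, List.map_append, List.prod_append]
    simp

theorem muF_period [Finite G] (φ : G ≃* G) (hφ : ∀ g : G, φ g = g → g = 1) (r : ℕ)
    (hφr : ∀ g : G, (⇑φ)^[r] g = g) (a : G) : muF φ r a = 1 := by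
  rw [muF_eq_list]
  exact MonoidHom.FixedPointFree.prod_pow_eq_one (φ := φ) hφ (funext hφr) a

theorem iter_mul_eq (φ : G ≃* G) (r : ℕ) (hφr : ∀ g : G, (⇑φ)^[r] g = g) (m : ℕ) (g : G) :
    (⇑φ)^[r * m] g = g := by
  rw [Function.iterate_mul]
  have : (⇑φ)^[r] = id := funext hφr
  rw [this, Function.iterate_id]; rfl

theorem muF_period_mul [Finite G] (φ : G ≃* G) (hφ : ∀ g : G, φ g = g → g = 1) (r : ℕ)
    (hφr : ∀ g : G, (⇑φ)^[r] g = g) (m : ℕ) (a : G) : muF φ (r * m) a = 1 := by
  induction m with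
  | zero => simp [muF]
  | succ m ih =>
    rw [Nat.mul_succ, muF_add, ih, muF_period φ hφ r hφr, iterate_map_one, mul_one]

theorem muF_injective [Finite G] (φ : G ≃* G) (hφ : ∀ g : G, φ g = g → g = 1) (r : ℕ)
    (hr : r.Prime) (hφr : ∀ g : G, (⇑φ)^[r] g = g) (k : ℕ) (hk0 : 0 < k) (hkr : k < r) :
    Function.Injective (muF φ k) := by
  intro a b hab
  have hmul : ∀ j, muF φ (k * j) a = muF φ (k * j) b := by
    intro j
    induction j with
    | zero => simp [muF]
    | succ j ih => rw [Nat.mul_succ, muF_add, muF_add, ih, hab]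
  have hcop : k.Coprime r := by
    rw [Nat.coprime_comm]
    exact (Nat.Prime.coprime_iff_not_dvd hr).2 (Nat.not_dvd_of_pos_of_lt hk0 hkr)
  obtain ⟨j, -, hj⟩ := Nat.exists_mul_mod_eq_one_of_coprime hcop hr.one_lt
  have hkj : k * j = r * (k * j / r) + 1 := by
    have := Nat.div_add_mod (k * j) r
    omega
  have key : ∀ c : G, muF φ (k * j) c = c := by
    intro c
    rw [hkj, muF_succ', muF_period_mul φ hφ r hφr, iter_mul_eq φ r hφr, one_mul]
  rw [← key a, ← key b, hmul j]

theorem muF_mem (φ : G ≃* G) (A : Subgroup G) (hA : ∀ x ∈ A, φ x ∈ A) (k : ℕ) {a : G}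
    (ha : a ∈ A) : muF φ k a ∈ A := by
  induction k with
  | zero => exact A.one_mem
  | succ k ih => exact A.mul_mem ha (hA _ ih)

theorem twist_iter (φ : G ≃* G) (a : G) (k : ℕ) (v : G) :
    (⇑(φ.trans (MulAut.conj a)))^[k] v = muF φ k a * (⇑φ)^[k] v * (muF φ k a)⁻¹ := by
  induction k with
  | zero => simp [muF]
  | succ k ih =>
    rw [Function.iterate_succ_apply', ih, Function.iterate_succ_apply', muF_succ]
    simp [MulEquiv.trans_apply, MulAut.conj_apply, map_mul, map_inv, mul_assoc, mul_inv_rev]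

theorem twist_fpf [Finite G] (φ : G ≃* G) (hφ : ∀ g : G, φ g = g → g = 1) (a : G) :
    ∀ g : G, (φ.trans (MulAut.conj a)) g = g → g = 1 := by
  intro g hg
  obtain ⟨h, hh⟩ := MonoidHom.FixedPointFree.commutatorMap_surjective (φ := φ) hφ a
  rw [MonoidHom.commutatorMap_apply] at hh
  have h1 : φ h = a⁻¹ * h := by
    rw [← hh, div_eq_mul_inv, mul_inv_rev, inv_inv, inv_mul_cancel_right]
  rw [MulEquiv.trans_apply, MulAut.conj_apply] at hg
  have h2 : φ (h⁻¹ * g * h) = h⁻¹ * g * h := by
    rw [map_mul, map_mul, map_inv, h1]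
    have : φ g = a⁻¹ * g * a := by
      calc φ g = a⁻¹ * (a * φ g * a⁻¹) * a := by group
        _ = a⁻¹ * g * a := by rw [hg]
    rw [this]; group
  have h3 := hφ _ h2
  have : g = h * (h⁻¹ * g * h) * h⁻¹ := by group
  rw [this, h3]; group

theorem twist_period [Finite G] (φ : G ≃* G) (hφ : ∀ g : G, φ g = g → g = 1) (r : ℕ)
    (hφr : ∀ g : G, (⇑φ)^[r] g = g) (a : G) (v : G) :
    (⇑(φ.trans (MulAut.conj a)))^[r] v = v := by
  rw [twist_iter, muF_period φ hφ r hφr, hφr]; group

theorem twist_prod [Finite G] (φ : G ≃* G) (hφ : ∀ g : G, φ g = g → g = 1) (r : ℕ)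
    (hφr : ∀ g : G, (⇑φ)^[r] g = g) (a : G) (v : G) :
    ((List.range r).map (fun k => muF φ k a * (⇑φ)^[k] v * (muF φ k a)⁻¹)).prod = 1 := by
  have := MonoidHom.FixedPointFree.prod_pow_eq_one (φ := φ.trans (MulAut.conj a))
    (twist_fpf φ hφ a) (funext (twist_period φ hφ r hφr a)) v
  simp only [twist_iter] at this
  exact this

end Mu

section SumTrick

theorem sum_trick {W I : Type*} [CommGroup W] [Group I] [Fintype I] (c : I → W → W)
    (hc_mul : ∀ a b w, c (a * b) w = c a (c b w)) (hc_one : ∀ w, c 1 w = w)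
    (hc_hom : ∀ a w₁ w₂, c a (w₁ * w₂) = c a w₁ * c a w₂)
    (f : W → W) (μ : ℕ → I → I) (r : ℕ) (hμ0 : ∀ a, μ 0 a = 1)
    (hμ : ∀ k, 0 < k → k < r → Function.Bijective (μ k)) (hr : 0 < r)
    (hprod : ∀ a w, ∏ k ∈ Finset.range r, c (μ k a) (f^[k] w) = 1) (a₀ : I) (w : W) :
    c a₀ (w ^ Fintype.card I) = w ^ Fintype.card I := by
  classical
  let ca : W →* W := MonoidHom.mk' (c a₀) (hc_hom a₀)
  have hca : ∀ u, ca u = c a₀ u := fun u => rfl
  have hT : ∀ u, c a₀ (∏ b : I, c b u) = ∏ b : I, c b u := by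
    intro u
    rw [← hca, map_prod]
    simp_rw [hca, ← hc_mul]
    exact Fintype.prod_equiv (Equiv.mulLeft a₀) _ _ (fun b => rfl)
  have h1 : ∏ a : I, ∏ k ∈ Finset.range r, c (μ k a) (f^[k] w) = 1 :=
    Finset.prod_eq_one (fun a _ => hprod a w)
  rw [Finset.prod_comm] at h1
  obtain ⟨r', rfl⟩ : ∃ r', r = r' + 1 := ⟨r - 1, by omega⟩
  rw [Finset.prod_range_succ'] at h1
  have h0 : ∏ a : I, c (μ 0 a) (f^[0] w) = w ^ Fintype.card I := by
    simp [hμ0, hc_one]
  have hk : ∀ k ∈ Finset.range r', ∏ a : I, c (μ (k + 1) a) (f^[k + 1] w) =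
      ∏ b : I, c b (f^[k + 1] w) := by
    intro k hk
    have hk' := Finset.mem_range.1 hk
    exact Fintype.prod_bijective (μ (k + 1)) (hμ (k + 1) (by omega) (by omega)) _ _
      (fun a => rfl)
  rw [h0, Finset.prod_congr rfl hk] at h1
  have h2 : w ^ Fintype.card I = (∏ k ∈ Finset.range r', ∏ b : I, c b (f^[k + 1] w))⁻¹ :=
    eq_inv_of_mul_eq_one_right h1
  rw [h2, ← hca, map_inv, map_prod]
  congr 1
  exact Finset.prod_congr rfl (fun k _ => by rw [hca]; exact hT _)

end SumTrick

section Key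

variable {G : Type*} [Group G] [Finite G]

/-- **Key lemma.** If `φ` is fixed-point-free with `φ^r = 1` (`r` prime), a `φ`-invariant subgroup
`A` centralizes every normal abelian `φ`-invariant subgroup `V` of coprime order. -/
theorem fpf_centralizes (φ : G ≃* G) (hφ : ∀ g : G, φ g = g → g = 1) (r : ℕ) (hr : r.Prime)
    (hφr : ∀ g : G, (⇑φ)^[r] g = g) (V : Subgroup G) [hVn : V.Normal]
    (hVab : ∀ x ∈ V, ∀ y ∈ V, x * y = y * x) (hVφ : ∀ x ∈ V, φ x ∈ V)
    (A : Subgroup G) (hAφ : ∀ x ∈ A, φ x ∈ A) (hcop : (Nat.card A).Coprime (Nat.card V)) :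
    ∀ a ∈ A, ∀ v ∈ V, a * v = v * a := by
  classical
  letI instV : CommGroup ↥V :=
    { (inferInstance : Group ↥V) with
      mul_comm := fun x y => Subtype.ext (hVab x x.2 y y.2) }
  haveI : Fintype ↥A := Fintype.ofFinite _
  let c : ↥A → ↥V → ↥V := fun b w => ⟨(b : G) * w * (b : G)⁻¹, hVn.conj_mem w w.2 b⟩
  let f : ↥V → ↥V := fun w => ⟨φ w, hVφ w w.2⟩
  let μ : ℕ → ↥A → ↥A := fun k b => ⟨muF φ k b, muF_mem φ A hAφ k b.2⟩
  have hf_iter : ∀ (k : ℕ) (w : ↥V), ((f^[k] w : ↥V) : G) = (⇑φ)^[k] (w : G) := by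
    intro k w
    induction k with
    | zero => rfl
    | succ k ih =>
      rw [Function.iterate_succ_apply', Function.iterate_succ_apply', ← ih]
  have hμbij : ∀ k, 0 < k → k < r → Function.Bijective (μ k) := by
    intro k hk0 hkr
    rw [← Finite.injective_iff_bijective]
    intro a b hab
    apply Subtype.ext
    exact muF_injective φ hφ r hr hφr k hk0 hkr (congrArg Subtype.val hab)
  have hprod : ∀ (b : ↥A) (w : ↥V), ∏ k ∈ Finset.range r, c (μ k b) (f^[k] w) = 1 := by
    intro b w
    have hlist : ∀ n, ((∏ k ∈ Finset.range n, c (μ k b) (f^[k] w) : ↥V) : G) =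
        ((List.range n).map (fun k => muF φ k (b : G) * (⇑φ)^[k] (w : G) *
          (muF φ k (b : G))⁻¹)).prod := by
      intro n
      induction n with
      | zero => simp
      | succ n ih =>
        rw [Finset.prod_range_succ, List.range_succ, List.map_append, List.prod_append]
        show ((∏ k ∈ Finset.range n, c (μ k b) (f^[k] w) : ↥V) : G) *
          ((c (μ n b) (f^[n] w) : ↥V) : G) = _
        rw [ih]
        congr 1
        show muF φ n (b : G) * ((f^[n] w : ↥V) : G) * (muF φ n (b : G))⁻¹ = _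
        rw [hf_iter]; simp
    apply Subtype.ext
    rw [hlist r]
    exact twist_prod φ hφ r hφr b w
  have key := sum_trick c (fun a b w => Subtype.ext (by
      show ((a : G) * (b : G)) * (w : G) * ((a : G) * (b : G))⁻¹ =
        (a : G) * ((b : G) * (w : G) * (b : G)⁻¹) * (a : G)⁻¹
      group))
    (fun w => Subtype.ext (by
      show (1 : G) * (w : G) * (1 : G)⁻¹ = w
      group))
    (fun a w₁ w₂ => Subtype.ext (by
      show (a : G) * ((w₁ : G) * (w₂ : G)) * (a : G)⁻¹ =
        ((a : G) * (w₁ : G) * (a : G)⁻¹) * ((a : G) * (w₂ : G) * (a : G)⁻¹)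
      group))
    f μ r (fun a => Subtype.ext rfl) hμbij hr.pos hprod
  intro a ha v hv
  have h1 := key ⟨a, ha⟩ ⟨v, hv⟩
  have h2 : a * v ^ (Fintype.card ↥A) * a⁻¹ = v ^ (Fintype.card ↥A) :=
    congrArg Subtype.val h1
  set n := Fintype.card ↥A with hn
  have hw : a * v * a⁻¹ ∈ V := hVn.conj_mem v hv a
  have hu : (a * v * a⁻¹ * v⁻¹) ^ n = 1 := by
    have hc : Commute (a * v * a⁻¹) v⁻¹ := hVab _ hw _ (V.inv_mem hv)
    rw [hc.mul_pow, conj_pow, h2, inv_pow, mul_inv_cancel]
  have hu2 : (a * v * a⁻¹ * v⁻¹) ^ (Nat.card ↥V) = 1 := by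
    have hmem : a * v * a⁻¹ * v⁻¹ ∈ V := V.mul_mem hw (V.inv_mem hv)
    have := pow_card_eq_one' (G := ↥V) (x := ⟨_, hmem⟩)
    exact congrArg Subtype.val this
  have ho1 := orderOf_dvd_of_pow_eq_one hu
  have ho2 := orderOf_dvd_of_pow_eq_one hu2
  have hn' : n = Nat.card ↥A := by rw [hn, Nat.card_eq_fintype_card]
  rw [hn'] at ho1
  have ho3 : orderOf (a * v * a⁻¹ * v⁻¹) = 1 :=
    Nat.eq_one_of_dvd_coprimes hcop ho1 ho2
  rw [orderOf_eq_one_iff] at ho3
  have : a * v = (a * v * a⁻¹ * v⁻¹) * (v * a) := by group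
  rw [this, ho3, one_mul]

end Key

section Main

open scoped commutatorElement

theorem localP_of_nilpotent {L : Type*} [Group L] [Finite L] (h : Group.IsNilpotent L) (p : ℕ)
    [Fact p.Prime] : Cfsg.Agent.Helper1.LocalP p L := by
  intro Q hQ g _ hgo
  rw [Subgroup.mem_centralizer_iff]
  intro x hx
  obtain ⟨n, hn⟩ := h.nilpotent'
  obtain ⟨k, hk⟩ := hQ ⟨x, hx⟩
  have hxk : x ^ (p ^ k) = 1 := congrArg Subtype.val hk
  have := Cfsg.Agent.Helper14.commute_of_mem_ucs n x g (p ^ k) (orderOf g)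
    (Nat.Coprime.pow_left k hgo.symm) hxk (pow_orderOf_eq_one g) (by rw [hn]; trivial)
  exact this.symm

/-- Restriction of an automorphism to an invariant subgroup. -/
noncomputable def restrictEquiv {G : Type*} [Group G] [Finite G] (φ : G ≃* G) (L : Subgroup G)
    (hL : ∀ x ∈ L, φ x ∈ L) : ↥L ≃* ↥L :=
  MulEquiv.ofBijective ((φ.toMonoidHom.comp L.subtype).codRestrict L (fun x => hL x x.2))
    (by
      rw [← Finite.injective_iff_bijective]
      intro x y hxy
      have := congrArg Subtype.val hxy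
      exact Subtype.ext (φ.injective this))

theorem restrictEquiv_apply {G : Type*} [Group G] [Finite G] (φ : G ≃* G) (L : Subgroup G)
    (hL : ∀ x ∈ L, φ x ∈ L) (x : ↥L) : ((restrictEquiv φ L hL x : ↥L) : G) = φ x := rfl

theorem exists_fixed {G : Type*} [Group G] [Finite G] (q : ℕ) [Fact q.Prime] (Q V : Subgroup G)
    [hVn : V.Normal] (hQ : IsPGroup q Q) (hV : IsPGroup q V) (hV1 : V ≠ ⊥) :
    ∃ v ∈ V, v ≠ 1 ∧ ∀ x ∈ Q, x * v = v * x := by
  letI : MulAction ↥Q ↥V :=
    MulAction.compHom ↥V ((MulAut.conjNormal (H := V)).comp Q.subtype)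
  have hsmul : ∀ (x : ↥Q) (w : ↥V), ((x • w : ↥V) : G) = (x : G) * w * (x : G)⁻¹ :=
    fun x w => rfl
  have hdvd : q ∣ Nat.card ↥V := by
    obtain ⟨k, hk⟩ := hV.exists_card_eq
    have hk0 : k ≠ 0 := by
      rintro rfl
      rw [pow_zero] at hk
      exact hV1 ((Subgroup.card_eq_one).1 hk)
    rw [hk]; exact dvd_pow_self q hk0
  have h1 : (1 : ↥V) ∈ MulAction.fixedPoints ↥Q ↥V := by
    intro x
    apply Subtype.ext
    rw [hsmul]; simp
  obtain ⟨w, hw, hw1⟩ := hQ.exists_fixed_point_of_prime_dvd_card_of_fixed_point ↥V hdvd h1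
  refine ⟨w, w.2, fun h => hw1 (Subtype.ext h.symm), fun x hx => ?_⟩
  have := congrArg Subtype.val (hw ⟨x, hx⟩)
  rw [hsmul] at this
  calc x * w = (x * w * x⁻¹) * x := by group
    _ = w * x := by rw [this]

theorem thompson_aux (r : ℕ) (hr : r.Prime) : ∀ (n : ℕ) (G : Type u) [Group G] [Finite G],
    Nat.card G = n → ∀ φ : G ≃* G, (∀ g : G, φ g = g → g = 1) → (∀ g : G, (⇑φ)^[r] g = g) →
    Group.IsNilpotent G := by
  intro n
  induction n using Nat.strong_induction_on with
  | _ n ih =>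
  intro G _ _ hn φ hφ hφr
  by_contra hnil
  -- invariant proper subgroups are nilpotent
  have I1 : ∀ L : Subgroup G, (∀ x ∈ L, φ x ∈ L) → L ≠ ⊤ → Group.IsNilpotent ↥L := by
    intro L hL hLtop
    have hcard : Nat.card ↥L < n := by
      rw [← hn]; exact Cfsg.Agent.Helper10.card_lt_of_ne_top hLtop
    refine ih _ hcard ↥L rfl (restrictEquiv φ L hL) ?_ ?_
    · intro x hx
      have h1 : φ (x : G) = x := congrArg Subtype.val hx
      exact Subtype.ext (hφ _ h1)
    · intro x
      have h1 : ∀ k, (((⇑(restrictEquiv φ L hL))^[k] x : ↥L) : G) = (⇑φ)^[k] (x : G) := by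
        intro k
        induction k with
        | zero => rfl
        | succ k ih' =>
          rw [Function.iterate_succ_apply', Function.iterate_succ_apply', ← ih']; rfl
      exact Subtype.ext ((h1 r).trans (hφr _))
  -- quotients by invariant nontrivial normal subgroups are nilpotent
  have I2 : ∀ (N : Subgroup G) [N.Normal], (∀ x ∈ N, φ x ∈ N) → N ≠ ⊥ →
      Group.IsNilpotent (G ⧸ N) := by
    intro N hNn hNφ hNbot
    have hmap : N.map (φ : G →* G) = N := by
      apply Subgroup.eq_of_le_of_card_ge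
      · rintro _ ⟨x, hx, rfl⟩; exact hNφ x hx
      · rw [Subgroup.card_map_of_injective (f := (φ : G →* G)) φ.injective]
    have hcard : Nat.card (G ⧸ N) < n := by
      rw [← hn]; exact Cfsg.Agent.Helper10.card_quot_lt_of_ne_bot hNbot
    have hq : ∀ x : G, (QuotientGroup.congr N N φ hmap) (x : G ⧸ N) = ((φ x : G) : G ⧸ N) :=
      fun x => rfl
    refine ih _ hcard (G ⧸ N) rfl (QuotientGroup.congr N N φ hmap) ?_ ?_
    · intro y hy
      induction y using QuotientGroup.induction_on with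
      | H x =>
        rw [hq] at hy
        have h1 : (φ x)⁻¹ * x ∈ N := QuotientGroup.eq.1 hy
        have hx := Cfsg.Agent.S0032.result φ hφ N hNφ x h1
        exact (QuotientGroup.eq_one_iff x).2 hx
    · intro y
      induction y using QuotientGroup.induction_on with
      | H x =>
        have h1 : ∀ k, (⇑(QuotientGroup.congr N N φ hmap))^[k] (x : G ⧸ N) =
            (((⇑φ)^[k] x : G) : G ⧸ N) := by
          intro k
          induction k with
          | zero => rfl
          | succ k ih' =>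
            rw [Function.iterate_succ_apply', ih', hq, Function.iterate_succ_apply']
        rw [h1, hφr]
  -- a nontrivial normal invariant nilpotent subgroup
  have hN : ∃ N : Subgroup G, N.Normal ∧ (∀ x ∈ N, φ x ∈ N) ∧ N ≠ ⊥ ∧
      Group.IsNilpotent ↥N := by
    by_cases h2 : ∀ p : ℕ, p.Prime → p ∣ Nat.card G → p = 2
    · exfalso
      have hcard := Nat.eq_prime_pow_of_unique_prime_dvd (Nat.card_pos (α := G)).ne'
        (fun {d} hd hdvd => h2 d hd hdvd)
      haveI : Fact (Nat.Prime 2) := ⟨Nat.prime_two⟩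
      exact hnil (IsPGroup.isNilpotent (IsPGroup.of_card hcard))
    · push Not at h2
      obtain ⟨p, hp, hpdvd, hp2⟩ := h2
      haveI : Fact p.Prime := ⟨hp⟩
      obtain ⟨P, hP⟩ := Cfsg.Agent.S0031.result φ hφ p
      have hPbot : (P : Subgroup G) ≠ ⊥ := by
        intro h
        have h1 := P.card_eq_multiplicity
        rw [h, Subgroup.card_bot] at h1
        have hpos : 0 < (Nat.card G).factorization p :=
          hp.factorization_pos_of_dvd (Nat.card_pos (α := G)).ne' hpdvd
        have h3 : p ^ (Nat.card G).factorization p = 1 := h1.symm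
        rcases Nat.pow_eq_one.1 h3 with h4 | h4
        · exact hp.one_lt.ne' h4
        · omega
      have hWφ : (Cfsg.Agent.Helper23.zjSub p true (P : Subgroup G)).map φ.toMonoidHom =
          Cfsg.Agent.Helper23.zjSub p true (P : Subgroup G) := by
        rw [Cfsg.Agent.Helper23.zjSub_map]
        congr 1
      have hWP : Cfsg.Agent.Helper23.zjSub p true (P : Subgroup G) ≤ P :=
        Cfsg.Agent.Helper23.zjSub_le p true _
      have hWbot : Cfsg.Agent.Helper23.zjSub p true (P : Subgroup G) ≠ ⊥ := by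
        intro h
        have h1 := inducedFunctor_zjW p true (P : Subgroup G)
        rw [h] at h1
        have h2 : zjW p true ↥(P : Subgroup G) = ⊥ :=
          (Subgroup.map_eq_bot_iff_of_injective _ (Subgroup.subtype_injective _)).1 h1
        haveI : Nontrivial ↥(P : Subgroup G) := (Subgroup.nontrivial_iff_ne_bot _).2 hPbot
        exact (zjW_char p true).1 ↥(P : Subgroup G) P.isPGroup' inferInstance h2
      have hWφ' : ∀ x ∈ Cfsg.Agent.Helper23.zjSub p true (P : Subgroup G),
          φ x ∈ Cfsg.Agent.Helper23.zjSub p true (P : Subgroup G) := fun x hx => by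
        rw [← hWφ]; exact Subgroup.mem_map_of_mem _ hx
      by_cases hL : Subgroup.normalizer
          (Cfsg.Agent.Helper23.zjSub p true (P : Subgroup G) : Set G) = ⊤
      · refine ⟨_, Subgroup.normalizer_eq_top_iff.1 hL, hWφ', hWbot, ?_⟩
        exact IsPGroup.isNilpotent (P.isPGroup'.to_le hWP)
      · have hLφ : ∀ x ∈ Subgroup.normalizer
            (Cfsg.Agent.Helper23.zjSub p true (P : Subgroup G) : Set G),
            φ x ∈ Subgroup.normalizer
              (Cfsg.Agent.Helper23.zjSub p true (P : Subgroup G) : Set G) := by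
          intro x hx
          have h1 := Subgroup.map_equiv_normalizer_eq
            (Cfsg.Agent.Helper23.zjSub p true (P : Subgroup G)) φ
          rw [hWφ] at h1
          rw [← h1]; exact Subgroup.mem_map_of_mem _ hx
        have hLnil := I1 _ hLφ hL
        have hnpcL : Cfsg.HasNormalPComplement p ↥(Subgroup.normalizer
            (Cfsg.Agent.Helper23.zjSub p true (P : Subgroup G) : Set G)) :=
          Cfsg.Agent.Helper1.npc_of_local (localP_of_nilpotent hLnil p)
        have hnpc := npc_of_zj hp2 true P hnpcL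
        obtain ⟨K, k, hKn, hKcop, hKidx⟩ := Cfsg.Agent.Helper16.npc_exists hnpc
        haveI := hKn
        have hKchar : ∀ g : G, g ∈ K ↔ (orderOf g).Coprime p := by
          intro g
          constructor
          · intro hg
            exact Nat.Coprime.coprime_dvd_left (Subgroup.orderOf_dvd_natCard K hg) hKcop
          · intro hg
            have h1 : ((g : G ⧸ K)) ^ (p ^ k) = 1 := by
              rw [← hKidx, Subgroup.index_eq_card]; exact pow_card_eq_one'
            have h2 : ((g : G ⧸ K)) ^ (orderOf g) = 1 := by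
              rw [← QuotientGroup.mk_pow, pow_orderOf_eq_one]; rfl
            have h3 := orderOf_dvd_of_pow_eq_one h1
            have h4 := orderOf_dvd_of_pow_eq_one h2
            have h5 : orderOf (g : G ⧸ K) = 1 :=
              Nat.eq_one_of_dvd_coprimes (Nat.Coprime.pow_right k hg) h4 h3
            rw [orderOf_eq_one_iff] at h5
            exact (QuotientGroup.eq_one_iff g).1 h5
        have hKφ : ∀ x ∈ K, φ x ∈ K := by
          intro x hx
          rw [hKchar] at hx ⊢
          rwa [MulEquiv.orderOf_eq]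
        have hKbot : K ≠ ⊥ := by
          intro h
          rw [h, Subgroup.index_bot] at hKidx
          exact hnil (IsPGroup.isNilpotent (IsPGroup.of_card hKidx))
        have hKtop : K ≠ ⊤ := by
          intro h
          rw [h, Subgroup.card_top] at hKcop
          exact hp.one_lt.ne' (Nat.Coprime.eq_one_of_dvd hKcop.symm hpdvd)
        exact ⟨K, hKn, hKφ, hKbot, I1 K hKφ hKtop⟩
  obtain ⟨N, hNn, hNφ, hNbot, hNnil⟩ := hN
  obtain ⟨V, ⟨hVn, hVφ, hVbot, hVN⟩, hVmin⟩ := Set.exists_min_image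
    {V : Subgroup G | V.Normal ∧ (∀ x ∈ V, φ x ∈ V) ∧ V ≠ ⊥ ∧ V ≤ N} (fun V => Nat.card V)
    (Set.toFinite _) ⟨N, hNn, hNφ, hNbot, le_rfl⟩
  haveI := hVn
  have hmin : ∀ V' : Subgroup G, V'.Normal → (∀ x ∈ V', φ x ∈ V') → V' ≤ V →
      V' = ⊥ ∨ V' = V := by
    intro V' h1 h2 h3
    by_cases h4 : V' = ⊥
    · exact Or.inl h4
    · right
      exact Subgroup.eq_of_le_of_card_ge h3 (hVmin V' ⟨h1, h2, h4, h3.trans hVN⟩)
  have hVmap : V.map φ.toMonoidHom = V := by
    apply Subgroup.eq_of_le_of_card_ge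
    · rintro _ ⟨x, hx, rfl⟩; exact hVφ x hx
    · rw [Subgroup.card_map_of_injective φ.injective]
  have hVnil : Group.IsNilpotent ↥V := by
    haveI := hNnil
    exact Group.nilpotent_of_mulEquiv (Subgroup.subgroupOfEquivOfLe hVN)
  have hVab : ∀ x ∈ V, ∀ y ∈ V, x * y = y * x := by
    have hcomm : ⁅V, V⁆ = ⊥ := by
      have hcn : (⁅V, V⁆).Normal := inferInstance
      have hcφ : ∀ x ∈ ⁅V, V⁆, φ x ∈ ⁅V, V⁆ := by
        intro x hx
        have h1 : (⁅V, V⁆).map φ.toMonoidHom = ⁅V, V⁆ := by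
          rw [Subgroup.map_commutator, hVmap]
        rw [← h1]; exact Subgroup.mem_map_of_mem _ hx
      rcases hmin _ hcn hcφ (Subgroup.commutator_le_right V V) with h | h
      · exact h
      · exfalso
        haveI := hVnil
        haveI : Nontrivial ↥V := (Subgroup.nontrivial_iff_ne_bot V).2 hVbot
        have h1 := Group.IsSolvable.commutator_lt_top_of_nontrivial ↥V
        have h2 : (commutator ↥V).map V.subtype = ⁅V, V⁆ := Subgroup.map_subtype_commutator V
        rw [h] at h2
        have h3 : commutator ↥V = ⊤ := by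
          apply Subgroup.map_injective V.subtype_injective
          rw [h2, ← MonoidHom.range_eq_map, Subgroup.range_subtype]
        exact h1.ne h3
    intro x hx y hy
    have := (Subgroup.commutator_eq_bot_iff_le_centralizer.1 hcomm) hx
    exact (Subgroup.mem_centralizer_iff.1 this y hy).symm
  have hVcard : 1 < Nat.card ↥V := (Subgroup.one_lt_card_iff_ne_bot V).2 hVbot
  obtain ⟨q, hq, hqV⟩ := Nat.exists_prime_and_dvd hVcard.ne'
  haveI : Fact q.Prime := ⟨hq⟩
  have hVq : ∀ x ∈ V, x ^ q = 1 := by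
    let Vq : Subgroup G :=
      { carrier := {x | x ∈ V ∧ x ^ q = 1}
        one_mem' := ⟨V.one_mem, one_pow q⟩
        mul_mem' := by
          rintro x y ⟨hx, hx'⟩ ⟨hy, hy'⟩
          refine ⟨V.mul_mem hx hy, ?_⟩
          have hc : Commute x y := hVab x hx y hy
          rw [hc.mul_pow, hx', hy', one_mul]
        inv_mem' := by
          rintro x ⟨hx, hx'⟩
          exact ⟨V.inv_mem hx, by rw [inv_pow, hx', inv_one]⟩ }
    have hVqn : Vq.Normal := ⟨fun x hx g =>
      ⟨hVn.conj_mem x hx.1 g, by rw [conj_pow, hx.2, mul_one, mul_inv_cancel]⟩⟩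
    have hVqφ : ∀ x ∈ Vq, φ x ∈ Vq := fun x hx =>
      ⟨hVφ x hx.1, by rw [← map_pow, hx.2, map_one]⟩
    have hVqle : Vq ≤ V := fun x hx => hx.1
    rcases hmin Vq hVqn hVqφ hVqle with h | h
    · exfalso
      obtain ⟨x, hx⟩ := exists_prime_orderOf_dvd_card' (G := ↥V) q hqV
      have hxm : (x : G) ∈ Vq := ⟨x.2, by
        have := pow_orderOf_eq_one x
        rw [hx] at this
        exact congrArg Subtype.val this⟩
      rw [h, Subgroup.mem_bot] at hxm
      have : x = 1 := Subtype.ext hxm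
      rw [this, orderOf_one] at hx
      exact hq.one_lt.ne hx
    · intro x hx
      have : x ∈ Vq := by rw [h]; exact hx
      exact this.2
  have hVpg : IsPGroup q ↥V := fun x => ⟨1, by rw [pow_one]; exact Subtype.ext (hVq x x.2)⟩
  obtain ⟨b, hb⟩ := hVpg.exists_card_eq
  -- invariant Sylow subgroups for other primes centralize `V`
  have hcent : ∀ (p : ℕ) [Fact p.Prime], p ≠ q →
      ∃ P : Sylow p G, ∀ a ∈ (P : Subgroup G), ∀ v ∈ V, a * v = v * a := by
    intro p _ hpq
    obtain ⟨P, hP⟩ := Cfsg.Agent.S0031.result φ hφ p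
    refine ⟨P, fpf_centralizes φ hφ r hr hφr V hVab hVφ (P : Subgroup G)
      (fun x hx => by rw [← hP]; exact Subgroup.mem_map_of_mem _ hx) ?_⟩
    obtain ⟨a, ha⟩ := P.isPGroup'.exists_card_eq
    rw [ha, hb]
    exact Nat.Coprime.pow _ _ ((Nat.coprime_primes Fact.out hq).2 hpq)
  obtain ⟨Q⟩ : Nonempty (Sylow q G) := inferInstance
  obtain ⟨v, hvV, hv1, hvQ⟩ := exists_fixed q (Q : Subgroup G) V Q.isPGroup' hVpg hVbot
  have hvc : v ∈ Subgroup.center G := by
    have hidx : (Subgroup.centralizer ({v} : Set G)).index = 1 := by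
      by_contra h
      obtain ⟨p, hp, hpdvd⟩ := Nat.exists_prime_and_dvd h
      haveI : Fact p.Prime := ⟨hp⟩
      have hex : ∃ P : Sylow p G, (P : Subgroup G) ≤ Subgroup.centralizer ({v} : Set G) := by
        by_cases hpq : p = q
        · subst hpq
          refine ⟨Q, fun x hx => ?_⟩
          rw [Subgroup.mem_centralizer_iff]
          intro y hy
          rw [Set.mem_singleton_iff] at hy
          rw [hy]; exact (hvQ x hx).symm
        · obtain ⟨P, hP⟩ := hcent p hpq
          refine ⟨P, fun x hx => ?_⟩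
          rw [Subgroup.mem_centralizer_iff]
          intro y hy
          rw [Set.mem_singleton_iff] at hy
          rw [hy]; exact (hP x hx v hvV).symm
      obtain ⟨P, hP⟩ := hex
      exact P.not_dvd_index (dvd_trans hpdvd (Subgroup.index_dvd_of_le hP))
    have htop := Subgroup.index_eq_one.1 hidx
    rw [Subgroup.mem_center_iff]
    intro g
    have hg : g ∈ Subgroup.centralizer ({v} : Set G) := by rw [htop]; trivial
    exact (Subgroup.mem_centralizer_iff.1 hg v rfl).symm
  have hVc : V ≤ Subgroup.center G := by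
    have hZn : (V ⊓ Subgroup.center G).Normal := inferInstance
    have hZφ : ∀ x ∈ V ⊓ Subgroup.center G, φ x ∈ V ⊓ Subgroup.center G := by
      intro x hx
      obtain ⟨hx1, hx2⟩ := Subgroup.mem_inf.1 hx
      refine Subgroup.mem_inf.2 ⟨hVφ x hx1, ?_⟩
      rw [Subgroup.mem_center_iff] at hx2 ⊢
      intro g
      obtain ⟨g', rfl⟩ := φ.surjective g
      rw [← map_mul, ← map_mul, hx2]
    rcases hmin _ hZn hZφ inf_le_left with h | h
    · exfalso
      have : v ∈ V ⊓ Subgroup.center G := ⟨hvV, hvc⟩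
      rw [h, Subgroup.mem_bot] at this
      exact hv1 this
    · rw [← h]; exact inf_le_right
  haveI := I2 V hVφ hVbot
  exact hnil (Subgroup.isNilpotent_of_ker_le_center (QuotientGroup.mk' V)
    (by rw [QuotientGroup.ker_mk']; exact hVc))

/-- **Thompson's theorem**: a finite group with a fixed-point-free automorphism `φ` such that
`φ^r = 1` for a prime `r` is nilpotent. -/
theorem thompson_nilpotent {G : Type u} [Group G] [Finite G] (φ : G ≃* G)
    (hφ : ∀ g : G, φ g = g → g = 1) (r : ℕ) (hr : r.Prime)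
    (hφr : ∀ g : G, (⇑φ)^[r] g = g) : Group.IsNilpotent G :=
  thompson_aux r hr (Nat.card G) G rfl φ hφ hφr

theorem mulAut_pow_apply {G : Type*} [Group G] (φ : G ≃* G) (k : ℕ) (g : G) :
    (φ ^ k) g = (⇑φ)^[k] g := by
  induction k generalizing g with
  | zero => rfl
  | succ k ih =>
    rw [pow_succ, Function.iterate_succ_apply, ← ih]; rfl

end Main

end Cfsg.Agent.Helper21
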