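import Mathlib
import Cfsg.Agent.Helper21.Thompson

/-!
Helper library (helper21): the Hughes–Thompson and Kegel theorems.
If `H ≠ ⊤` is a subgroup of the finite group `G` such that every element outside `H` has order
dividing the prime `p`, then `H` is nilpotent (`kegel_nilpotent`); if moreover `G` is not a
`p`-group, then `H` is normal of index `p` (`hughes_thompson`).
-/

set_option autoImplicit false

namespace Cfsg.Agent.Helper21

universe u

section Split

variable {G : Type*} [Group G] [Finite G]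

theorem restrictEquiv_iter (φ : G ≃* G) (L : Subgroup G) (hL : ∀ x ∈ L, φ x ∈ L) (k : ℕ)
    (x : ↥L) : (((⇑(restrictEquiv φ L hL))^[k] x : ↥L) : G) = (⇑φ)^[k] (x : G) := by
  induction k with
  | zero => rfl
  | succ k ih =>
    rw [Function.iterate_succ_apply', Function.iterate_succ_apply', ← ih]; rfl

theorem muF_restrict (φ : G ≃* G) (L : Subgroup G) (hL : ∀ x ∈ L, φ x ∈ L) (k : ℕ)
    (a : ↥L) : ((muF (restrictEquiv φ L hL) k a : ↥L) : G) = muF φ k (a : G) := by
  induction k with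
  | zero => rfl
  | succ k ih =>
    rw [muF_succ, muF_succ, ← ih]; rfl

/-- Variant of `fpf_centralizes` where `φ` is only assumed fixed-point-free on `A` and the
product identity on `V` is a hypothesis. -/
theorem centralizes_of_split (φ : G ≃* G) (r : ℕ) (hr : r.Prime)
    (V : Subgroup G) [hVn : V.Normal]
    (hVab : ∀ x ∈ V, ∀ y ∈ V, x * y = y * x) (hVφ : ∀ x ∈ V, φ x ∈ V)
    (A : Subgroup G) (hAφ : ∀ x ∈ A, φ x ∈ A) (hAfpf : ∀ a ∈ A, φ a = a → a = 1)
    (hAr : ∀ a ∈ A, (⇑φ)^[r] a = a) (hcop : (Nat.card A).Coprime (Nat.card V))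
    (hsplit : ∀ a ∈ A, ∀ v ∈ V, ((List.range r).map
      (fun k => muF φ k a * (⇑φ)^[k] v * (muF φ k a)⁻¹)).prod = 1) :
    ∀ a ∈ A, ∀ v ∈ V, a * v = v * a := by
  classical
  letI instV : CommGroup ↥V :=
    { (inferInstance : Group ↥V) with
      mul_comm := fun x y => Subtype.ext (hVab x x.2 y y.2) }
  haveI : Fintype ↥A := Fintype.ofFinite _
  let c : ↥A → ↥V → ↥V := fun b w => ⟨(b : G) * w * (b : G)⁻¹, hVn.conj_mem w w.2 b⟩
  let f : ↥V → ↥V := fun w => ⟨φ w, hVφ w w.2⟩
  let μ : ℕ → ↥A → ↥A := fun k b => ⟨muF φ k b, muF_mem φ A hAφ k b.2⟩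
  have hf_iter : ∀ (k : ℕ) (w : ↥V), ((f^[k] w : ↥V) : G) = (⇑φ)^[k] (w : G) := by
    intro k w
    induction k with
    | zero => rfl
    | succ k ih =>
      rw [Function.iterate_succ_apply', Function.iterate_succ_apply', ← ih]
  have hμbij : ∀ k, 0 < k → k < r → Function.Bijective (μ k) := by
    intro k hk0 hkr
    rw [← Finite.injective_iff_bijective]
    intro a b hab
    have h1 : muF φ k (a : G) = muF φ k (b : G) := congrArg Subtype.val hab
    rw [← muF_restrict φ A hAφ, ← muF_restrict φ A hAφ] at h1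
    refine muF_injective (restrictEquiv φ A hAφ) ?_ r hr ?_ k hk0 hkr (Subtype.ext h1)
    · intro g hg
      have h2 : φ (g : G) = g := congrArg Subtype.val hg
      exact Subtype.ext (hAfpf _ g.2 h2)
    · intro g
      apply Subtype.ext
      rw [restrictEquiv_iter]; exact hAr _ g.2
  have hprod : ∀ (b : ↥A) (w : ↥V), ∏ k ∈ Finset.range r, c (μ k b) (f^[k] w) = 1 := by
    intro b w
    have hlist : ∀ n, ((∏ k ∈ Finset.range n, c (μ k b) (f^[k] w) : ↥V) : G) =
        ((List.range n).map (fun k => muF φ k (b : G) * (⇑φ)^[k] (w : G) *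
          (muF φ k (b : G))⁻¹)).prod := by
      intro n
      induction n with
      | zero => simp
      | succ n ih =>
        rw [Finset.prod_range_succ, List.range_succ, List.map_append, List.prod_append]
        show ((∏ k ∈ Finset.range n, c (μ k b) (f^[k] w) : ↥V) : G) *
          ((c (μ n b) (f^[n] w) : ↥V) : G) = _
        rw [ih]
        congr 1
        show muF φ n (b : G) * ((f^[n] w : ↥V) : G) * (muF φ n (b : G))⁻¹ = _
        rw [hf_iter]; simp
    apply Subtype.ext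
    rw [hlist r]
    exact hsplit b b.2 w w.2
  have key := sum_trick c (fun a b w => Subtype.ext (by
      show ((a : G) * (b : G)) * (w : G) * ((a : G) * (b : G))⁻¹ =
        (a : G) * ((b : G) * (w : G) * (b : G)⁻¹) * (a : G)⁻¹
      group))
    (fun w => Subtype.ext (by
      show (1 : G) * (w : G) * (1 : G)⁻¹ = w
      group))
    (fun a w₁ w₂ => Subtype.ext (by
      show (a : G) * ((w₁ : G) * (w₂ : G)) * (a : G)⁻¹ =
        ((a : G) * (w₁ : G) * (a : G)⁻¹) * ((a : G) * (w₂ : G) * (a : G)⁻¹)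
      group))
    f μ r (fun a => Subtype.ext rfl) hμbij hr.pos hprod
  intro a ha v hv
  have h1 := key ⟨a, ha⟩ ⟨v, hv⟩
  have h2 : a * v ^ (Fintype.card ↥A) * a⁻¹ = v ^ (Fintype.card ↥A) :=
    congrArg Subtype.val h1
  set n := Fintype.card ↥A with hn
  have hw : a * v * a⁻¹ ∈ V := hVn.conj_mem v hv a
  have hu : (a * v * a⁻¹ * v⁻¹) ^ n = 1 := by
    have hc : Commute (a * v * a⁻¹) v⁻¹ := hVab _ hw _ (V.inv_mem hv)
    rw [hc.mul_pow, conj_pow, h2, inv_pow, mul_inv_cancel]
  have hu2 : (a * v * a⁻¹ * v⁻¹) ^ (Nat.card ↥V) = 1 := by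
    have hmem : a * v * a⁻¹ * v⁻¹ ∈ V := V.mul_mem hw (V.inv_mem hv)
    have := pow_card_eq_one' (G := ↥V) (x := ⟨_, hmem⟩)
    exact congrArg Subtype.val this
  have ho1 := orderOf_dvd_of_pow_eq_one hu
  have ho2 := orderOf_dvd_of_pow_eq_one hu2
  have hn' : n = Nat.card ↥A := by rw [hn, Nat.card_eq_fintype_card]
  rw [hn'] at ho1
  have ho3 : orderOf (a * v * a⁻¹ * v⁻¹) = 1 :=
    Nat.eq_one_of_dvd_coprimes hcop ho1 ho2
  rw [orderOf_eq_one_iff] at ho3
  have : a * v = (a * v * a⁻¹ * v⁻¹) * (v * a) := by group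
  rw [this, ho3, one_mul]

omit [Finite G] in
theorem conj_iter (y : G) (k : ℕ) (a : G) :
    (⇑(MulAut.conj y))^[k] a = y ^ k * a * (y ^ k)⁻¹ := by
  induction k with
  | zero => simp
  | succ k ih =>
    rw [Function.iterate_succ_apply', ih, MulAut.conj_apply, pow_succ']
    group

omit [Finite G] in
theorem prod_conj_pow (g v : G) (n : ℕ) :
    ((List.range n).map (fun k => g ^ k * v * (g ^ k)⁻¹)).prod = (v * g) ^ n * (g ^ n)⁻¹ := by
  induction n with
  | zero => simp
  | succ n ih =>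
    rw [List.range_succ, List.map_append, List.prod_append, ih]
    simp only [List.map_cons, List.map_nil, List.prod_cons, List.prod_nil, mul_one]
    rw [pow_succ (v * g), pow_succ g]
    group

omit [Finite G] in
/-- The split identity for conjugation by `y` twisted by `a`. -/
theorem split_conj (y a v : G) (r : ℕ) (h1 : (v * (a * y)) ^ r = 1) (h2 : (a * y) ^ r = 1) :
    ((List.range r).map (fun k => muF (MulAut.conj y) k a * (⇑(MulAut.conj y))^[k] v *
      (muF (MulAut.conj y) k a)⁻¹)).prod = 1 := by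
  have hfun : ∀ k, muF (MulAut.conj y) k a * (⇑(MulAut.conj y))^[k] v *
      (muF (MulAut.conj y) k a)⁻¹ = (a * y) ^ k * v * ((a * y) ^ k)⁻¹ := by
    intro k
    rw [← twist_iter, ← conj_iter]
    congr 1
    funext g
    simp [MulEquiv.trans_apply, MulAut.conj_apply, mul_assoc]
  simp only [hfun]
  rw [prod_conj_pow, h1, h2]; simp

end Split

section Norm

variable {A : Type*} [CommGroup A]

/-- The norm `v * γ v * ⋯ * γ^(p-1) v`. -/
def nm (p : ℕ) (γ : MulAut A) (v : A) : A := ∏ k ∈ Finset.range p, (γ ^ k) v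

theorem nm_mul (p : ℕ) (γ : MulAut A) (v w : A) : nm p γ (v * w) = nm p γ v * nm p γ w := by
  simp [nm, Finset.prod_mul_distrib]

theorem nm_inv (p : ℕ) (γ : MulAut A) (v : A) : nm p γ v⁻¹ = (nm p γ v)⁻¹ := by
  simp [nm, Finset.prod_inv_distrib]

theorem nm_apply_self (p : ℕ) (γ : MulAut A) (hγ : γ ^ p = 1) (v : A) :
    nm p γ (γ v) = nm p γ v := by
  unfold nm
  have h1 : ∀ k, (γ ^ k) (γ v) = (γ ^ (k + 1)) v := by
    intro k; rw [pow_succ]; rfl
  simp only [h1]
  have h2 := Finset.prod_range_succ' (fun k => (γ ^ k) v) p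
  have h3 := Finset.prod_range_succ (fun k => (γ ^ k) v) p
  rw [h3] at h2
  have h4 : (γ ^ p) v = (γ ^ 0) v := by rw [hγ, pow_zero]
  rw [h4] at h2
  exact (mul_right_cancel h2).symm

theorem prod_range_eq_list {M : Type*} [CommMonoid M] (f : ℕ → M) (n : ℕ) :
    ∏ k ∈ Finset.range n, f k = ((List.range n).map f).prod := by
  induction n with
  | zero => simp
  | succ n ih =>
    rw [Finset.prod_range_succ, ih, List.range_succ, List.map_append, List.prod_append]
    simp

theorem nm_eq_one_of_fpf [Finite A] (p : ℕ) (γ : MulAut A) (hfpf : ∀ v, γ v = v → v = 1)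
    (hγ : γ ^ p = 1) (v : A) : nm p γ v = 1 := by
  unfold nm
  rw [prod_range_eq_list]
  have hn : (⇑γ)^[p] = id := by
    funext g
    rw [← mulAut_pow_apply, hγ]; rfl
  have := MonoidHom.FixedPointFree.prod_pow_eq_one (φ := γ) hfpf hn v
  simp only [mulAut_pow_apply]
  exact this

theorem eq_one_of_nm [Finite A] (p : ℕ) (γ : MulAut A) (hγ : γ ^ p = 1)
    (h : ∀ v, nm p γ v = v ^ p) (hcop : (Nat.card A).Coprime p) : γ = 1 := by
  ext v
  have h1 : nm p γ (v⁻¹ * γ v) = 1 := by
    rw [nm_mul, nm_inv, nm_apply_self p γ hγ, inv_mul_cancel]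
  rw [h] at h1
  have h2 := orderOf_dvd_of_pow_eq_one h1
  have h3 := orderOf_dvd_natCard (v⁻¹ * γ v)
  have h4 : orderOf (v⁻¹ * γ v) = 1 := Nat.eq_one_of_dvd_coprimes hcop h3 h2
  rw [orderOf_eq_one_iff] at h4
  show γ v = v
  calc γ v = v * (v⁻¹ * γ v) := by group
    _ = v := by rw [h4, mul_one]

theorem pow_mod_of_pow_eq_one {M : Type*} [Monoid M] {z : M} {p : ℕ} (hz : z ^ p = 1) (n : ℕ) :
    z ^ n = z ^ (n % p) := by
  conv_lhs => rw [← Nat.div_add_mod n p, pow_add, pow_mul, hz, one_pow, one_mul]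

theorem nm_reindex (p : ℕ) (hp : p.Prime) (z : MulAut A) (hz : z ^ p = 1) (m : ℕ)
    (hm0 : 0 < m) (hmp : m < p) (v : A) :
    ∏ j ∈ Finset.range p, (z ^ (j * m)) v = ∏ l ∈ Finset.range p, (z ^ l) v := by
  have hcop : m.Coprime p := by
    rw [Nat.coprime_comm]
    exact (Nat.Prime.coprime_iff_not_dvd hp).2 (Nat.not_dvd_of_pos_of_lt hm0 hmp)
  obtain ⟨m', -, hm'⟩ := Nat.exists_mul_mod_eq_one_of_coprime hcop hp.one_lt
  have hmm : m * m' ≡ 1 [MOD p] := by
    show m * m' % p = 1 % p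
    rw [hm', Nat.mod_eq_of_lt hp.one_lt]
  refine Finset.prod_nbij' (fun j => (j * m) % p) (fun l => (l * m') % p) ?_ ?_ ?_ ?_ ?_
  · intro j _
    exact Finset.mem_range.2 (Nat.mod_lt _ hp.pos)
  · intro l _
    exact Finset.mem_range.2 (Nat.mod_lt _ hp.pos)
  · intro j hj
    have hj' := Finset.mem_range.1 hj
    have h1 : (j * m) % p * m' ≡ j [MOD p] := by
      calc (j * m) % p * m' ≡ j * m * m' [MOD p] := (Nat.mod_modEq _ _).mul_right _
        _ = j * (m * m') := by ring
        _ ≡ j * 1 [MOD p] := hmm.mul_left _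
        _ = j := by ring
    show (j * m) % p * m' % p = j
    rw [h1, Nat.mod_eq_of_lt hj']
  · intro l hl
    have hl' := Finset.mem_range.1 hl
    have h1 : (l * m') % p * m ≡ l [MOD p] := by
      calc (l * m') % p * m ≡ l * m' * m [MOD p] := (Nat.mod_modEq _ _).mul_right _
        _ = l * (m * m') := by ring
        _ ≡ l * 1 [MOD p] := hmm.mul_left _
        _ = l := by ring
    show (l * m') % p * m % p = l
    rw [h1, Nat.mod_eq_of_lt hl']
  · intro j _
    show (z ^ (j * m)) v = (z ^ ((j * m) % p)) v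
    rw [pow_mod_of_pow_eq_one hz (j * m)]

theorem main_identity (p : ℕ) (hp : p.Prime) (x z : MulAut A) (hxz : Commute x z)
    (hz : z ^ p = 1) (v : A) :
    (∏ j ∈ Finset.range p, nm p (x * z ^ j) v) * nm p z v = v ^ p * nm p x (nm p z v) := by
  have h1 : ∀ j k : ℕ, ((x * z ^ j) ^ k) v = (x ^ k) ((z ^ (j * k)) v) := by
    intro j k
    rw [(hxz.pow_right j).mul_pow, ← pow_mul]; rfl
  have h2 : ∏ j ∈ Finset.range p, nm p (x * z ^ j) v =
      ∏ k ∈ Finset.range p, ∏ j ∈ Finset.range p, (x ^ k) ((z ^ (j * k)) v) := by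
    unfold nm
    simp only [h1]
    exact Finset.prod_comm
  rw [h2]
  obtain ⟨p', rfl⟩ : ∃ p', p = p' + 1 := ⟨p - 1, by have := hp.pos; omega⟩
  rw [Finset.prod_range_succ' (fun k => ∏ j ∈ Finset.range (p' + 1), (x ^ k) ((z ^ (j * k)) v))]
  have h3 : ∏ j ∈ Finset.range (p' + 1), (x ^ 0) ((z ^ (j * 0)) v) = v ^ (p' + 1) := by
    simp
  have h4 : ∀ k ∈ Finset.range p', ∏ j ∈ Finset.range (p' + 1), (x ^ (k + 1)) ((z ^ (j * (k + 1))) v)
      = (x ^ (k + 1)) (nm (p' + 1) z v) := by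
    intro k hk
    have hk' := Finset.mem_range.1 hk
    rw [← map_prod]
    congr 1
    exact nm_reindex (p' + 1) hp z hz (k + 1) (by omega) (by omega) v
  rw [h3, Finset.prod_congr rfl h4]
  have h5 : nm (p' + 1) x (nm (p' + 1) z v) =
      (∏ k ∈ Finset.range p', (x ^ (k + 1)) (nm (p' + 1) z v)) * nm (p' + 1) z v := by
    conv_lhs => unfold nm
    rw [Finset.prod_range_succ' (fun k => (x ^ k) (∏ k ∈ Finset.range (p' + 1), (z ^ k) v))]
    rfl
  rw [h5, mul_comm (∏ k ∈ Finset.range p', (x ^ (k + 1)) (nm (p' + 1) z v)) (v ^ (p' + 1)),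
    mul_assoc]

end Norm

section PG

/-- A `p`-group `Γ` of automorphisms of a nontrivial abelian `p'`-group `A` in which every
element outside the subgroup `S'` is fixed-point-free of order dividing `p`: then `Γ` is
generated by any element `x ∈ Γ ∖ S'`, and `Γ ∩ S' = 1`. -/
theorem pg_abs {A : Type*} [CommGroup A] [Finite A] [Nontrivial A] (p : ℕ) (hp : p.Prime)
    (hcop : (Nat.card A).Coprime p) (Γ S' : Subgroup (MulAut A)) (hΓ : IsPGroup p Γ)
    (hprop : ∀ γ ∈ Γ, γ ∉ S' → (∀ v, γ v = v → v = 1) ∧ γ ^ p = 1)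
    (x : MulAut A) (hxΓ : x ∈ Γ) (hxS : x ∉ S') :
    (∀ y ∈ Γ, ∃ j : ℕ, y = x ^ j) ∧ (∀ y ∈ Γ, y ∈ S' → y = 1) := by
  haveI : Fact p.Prime := ⟨hp⟩
  obtain ⟨hxfpf, hxp⟩ := hprop x hxΓ hxS
  have hx1 : x ≠ 1 := by
    intro h
    obtain ⟨v, hv⟩ := exists_ne (1 : A)
    exact hv (hxfpf v (by rw [h]; rfl))
  haveI : Nontrivial ↥Γ := ⟨⟨⟨x, hxΓ⟩, 1, fun h => hx1 (congrArg Subtype.val h)⟩⟩
  -- a central element of order `p`
  obtain ⟨z, hzΓ, hz1, hzp, hzc⟩ : ∃ z ∈ Γ, z ≠ 1 ∧ z ^ p = 1 ∧ ∀ γ ∈ Γ, γ * z = z * γ := by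
    have hcn : Nontrivial (Subgroup.center ↥Γ) := hΓ.center_nontrivial
    have hcp : IsPGroup p (Subgroup.center ↥Γ) := hΓ.to_subgroup _
    obtain ⟨k, hk⟩ := hcp.exists_card_eq
    have hk0 : k ≠ 0 := by
      rintro rfl
      rw [pow_zero] at hk
      have := (Subgroup.card_eq_one (H := Subgroup.center ↥Γ)).1 hk
      have h2 : Subsingleton (Subgroup.center ↥Γ) := by
        rw [this]; infer_instance
      exact not_subsingleton _ h2
    have hdvd : p ∣ Nat.card (Subgroup.center ↥Γ) := by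
      rw [hk]; exact dvd_pow_self p hk0
    obtain ⟨z', hz'⟩ := exists_prime_orderOf_dvd_card' p hdvd
    refine ⟨((z' : ↥Γ) : MulAut A), (z' : ↥Γ).2, ?_, ?_, ?_⟩
    · intro h
      have h2 : z' = 1 := Subtype.ext (Subtype.ext h)
      rw [h2, orderOf_one] at hz'
      exact hp.one_lt.ne hz'
    · have := pow_orderOf_eq_one z'
      rw [hz'] at this
      exact congrArg (fun w : Subgroup.center ↥Γ => ((w : ↥Γ) : MulAut A)) this
    · intro γ hγ
      have := Subgroup.mem_center_iff.1 z'.2 ⟨γ, hγ⟩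
      exact congrArg Subtype.val this
  have step : ∀ x₁ ∈ Γ, x₁ ∉ S' → ∃ j₀, 0 < j₀ ∧ j₀ < p ∧ x₁ * z ^ j₀ = 1 := by
    intro x₁ hx₁Γ hx₁S
    obtain ⟨hfpf₁, hx₁p⟩ := hprop x₁ hx₁Γ hx₁S
    have hcomm : Commute x₁ z := hzc x₁ hx₁Γ
    have hxzp : ∀ j, (x₁ * z ^ j) ^ p = 1 := by
      intro j
      rw [(hcomm.pow_right j).mul_pow, hx₁p, ← pow_mul, mul_comm, pow_mul, hzp, one_pow, one_mul]
    have hxzΓ : ∀ j, x₁ * z ^ j ∈ Γ := fun j => Γ.mul_mem hx₁Γ (Γ.pow_mem hzΓ j)
    by_cases hall : ∀ j < p, x₁ * z ^ j ∉ S'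
    · exfalso
      have h1 : ∀ v, nm p z v = v ^ p := by
        intro v
        have hid := main_identity p hp x₁ z hcomm hzp v
        rw [Finset.prod_eq_one (fun j hj => nm_eq_one_of_fpf p _
            (hprop _ (hxzΓ j) (hall j (Finset.mem_range.1 hj))).1 (hxzp j) v), one_mul,
          nm_eq_one_of_fpf p x₁ hfpf₁ hx₁p, mul_one] at hid
        exact hid
      exact hz1 (eq_one_of_nm p z hzp h1 hcop)
    · push Not at hall
      obtain ⟨j₀, hj₀p, hj₀S⟩ := hall
      have hj₀0 : 0 < j₀ := by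
        rcases Nat.eq_zero_or_pos j₀ with h | h
        · subst h
          rw [pow_zero, mul_one] at hj₀S
          exact absurd hj₀S hx₁S
        · exact h
      refine ⟨j₀, hj₀0, hj₀p, ?_⟩
      have hzS : ∀ d, 0 < d → d < p → z ^ d ∉ S' := by
        intro d hd0 hdp hmem
        have hcopd : d.Coprime p := by
          rw [Nat.coprime_comm]
          exact (Nat.Prime.coprime_iff_not_dvd hp).2 (Nat.not_dvd_of_pos_of_lt hd0 hdp)
        obtain ⟨m, -, hm⟩ := Nat.exists_mul_mod_eq_one_of_coprime hcopd hp.one_lt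
        have hz' : z = (z ^ d) ^ m := by
          rw [← pow_mul, pow_mod_of_pow_eq_one hzp (d * m), hm, pow_one]
        have hzmem : z ∈ S' := by rw [hz']; exact S'.pow_mem hmem m
        apply hx₁S
        have := S'.mul_mem hj₀S (S'.inv_mem (S'.pow_mem hzmem j₀))
        rwa [mul_inv_cancel_right] at this
      have hothers : ∀ j < p, j ≠ j₀ → x₁ * z ^ j ∉ S' := by
        intro j hjp hne hmem
        rcases Nat.lt_or_gt_of_ne hne with h | h
        · obtain ⟨d, hd⟩ : ∃ d, j₀ = j + d := ⟨j₀ - j, by omega⟩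
          have h1 := S'.mul_mem (S'.inv_mem hmem) hj₀S
          have h2 : (x₁ * z ^ j)⁻¹ * (x₁ * z ^ j₀) = z ^ d := by
            rw [hd, pow_add]; group
          rw [h2] at h1
          exact hzS d (by omega) (by omega) h1
        · obtain ⟨d, hd⟩ : ∃ d, j = j₀ + d := ⟨j - j₀, by omega⟩
          have h1 := S'.mul_mem (S'.inv_mem hj₀S) hmem
          have h2 : (x₁ * z ^ j₀)⁻¹ * (x₁ * z ^ j) = z ^ d := by
            rw [hd, pow_add]; group
          rw [h2] at h1
          exact hzS d (by omega) (by omega) h1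
      have hzmemS : z ∉ S' := by
        have := hzS 1 Nat.one_pos hp.one_lt
        rwa [pow_one] at this
      have h1 : ∀ v, nm p (x₁ * z ^ j₀) v = v ^ p := by
        intro v
        have hid := main_identity p hp x₁ z hcomm hzp v
        have hnz : ∀ w, nm p z w = 1 := fun w =>
          nm_eq_one_of_fpf p z (hprop z hzΓ hzmemS).1 hzp w
        rw [Finset.prod_eq_single j₀ (fun j hj hne => nm_eq_one_of_fpf p _
            (hprop _ (hxzΓ j) (hothers j (Finset.mem_range.1 hj) hne)).1 (hxzp j) v)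
            (fun h => absurd (Finset.mem_range.2 hj₀p) h), hnz, mul_one,
          nm_eq_one_of_fpf p x₁ hfpf₁ hx₁p, mul_one] at hid
        exact hid
      exact eq_one_of_nm p _ (hxzp j₀) h1 hcop
  -- `z` is a power of `x`
  have hxinv : x⁻¹ = x ^ (p - 1) := by
    rw [inv_eq_iff_mul_eq_one, ← pow_succ']
    have : p - 1 + 1 = p := by have := hp.pos; omega
    rw [this, hxp]
  obtain ⟨e, he⟩ : ∃ e : ℕ, z = x ^ e := by
    obtain ⟨j₀, hj₀0, hj₀p, hj₀⟩ := step x hxΓ hxS
    have h1 : z ^ j₀ = x ^ (p - 1) := by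
      rw [← hxinv]; exact (inv_eq_of_mul_eq_one_right hj₀).symm
    have hcopd : j₀.Coprime p := by
      rw [Nat.coprime_comm]
      exact (Nat.Prime.coprime_iff_not_dvd hp).2 (Nat.not_dvd_of_pos_of_lt hj₀0 hj₀p)
    obtain ⟨m, -, hm⟩ := Nat.exists_mul_mod_eq_one_of_coprime hcopd hp.one_lt
    refine ⟨(p - 1) * m, ?_⟩
    rw [pow_mul, ← h1, ← pow_mul, pow_mod_of_pow_eq_one hzp (j₀ * m), hm, pow_one]
  have ha : ∀ y ∈ Γ, ∃ j : ℕ, y = x ^ j := by
    have ha' : ∀ y ∈ Γ, y ∉ S' → ∃ j : ℕ, y = x ^ j := by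
      intro y hyΓ hyS
      obtain ⟨j₀, -, -, hj₀⟩ := step y hyΓ hyS
      have hyp := (hprop y hyΓ hyS).2
      -- y = (z^j₀)⁻¹, and y⁻¹ = y^(p-1)
      have h1 : y⁻¹ = z ^ j₀ := inv_eq_of_mul_eq_one_right hj₀
      have h2 : y = (z ^ j₀) ^ (p - 1) := by
        rw [← h1, inv_pow, eq_inv_iff_mul_eq_one, ← pow_succ']
        have : p - 1 + 1 = p := by have := hp.pos; omega
        rw [this, hyp]
      refine ⟨e * j₀ * (p - 1), ?_⟩
      rw [h2, he, ← pow_mul, ← pow_mul, mul_assoc]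
    intro y hyΓ
    by_cases hyS : y ∈ S'
    · have hxy : x * y ∉ S' := fun h => hxS (by
        have := S'.mul_mem h (S'.inv_mem hyS)
        rwa [mul_inv_cancel_right] at this)
      obtain ⟨n, hn⟩ := ha' (x * y) (Γ.mul_mem hxΓ hyΓ) hxy
      refine ⟨p - 1 + n, ?_⟩
      rw [pow_add, ← hxinv, ← hn, inv_mul_cancel_left]
    · exact ha' y hyΓ hyS
  refine ⟨ha, ?_⟩
  intro y hyΓ hyS
  obtain ⟨j, hj⟩ := ha y hyΓ
  by_contra hy1
  have hjp : ¬ p ∣ j := by
    rintro ⟨c, rfl⟩
    rw [pow_mul, hxp, one_pow] at hj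
    exact hy1 hj
  have hcopd : j.Coprime p := by
    rw [Nat.coprime_comm]
    exact (Nat.Prime.coprime_iff_not_dvd hp).2 hjp
  obtain ⟨m, -, hm⟩ := Nat.exists_mul_mod_eq_one_of_coprime hcopd hp.one_lt
  apply hxS
  have : x = y ^ m := by
    rw [hj, ← pow_mul, pow_mod_of_pow_eq_one hxp (j * m), hm, pow_one]
  rw [this]; exact S'.pow_mem hyS m

end PG

section HT

/-- Local form of the Hughes–Thompson theorem. -/
theorem ht_local {X : Type*} [Group X] [Finite X] (p : ℕ) (hp : p.Prime) (K : Subgroup X)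
    [K.Normal] (hK : K ≠ ⊤) (hout : ∀ g : X, g ∉ K → g ^ p = 1)
    (A : Subgroup X) [hAn : A.Normal] (hAab : ∀ a ∈ A, ∀ b ∈ A, a * b = b * a) (hAK : A ≤ K)
    (hA1 : A ≠ ⊥) (hcop : (Nat.card A).Coprime p) : K.index = p := by
  haveI : Fact p.Prime := ⟨hp⟩
  letI instA : CommGroup ↥A :=
    { (inferInstance : Group ↥A) with
      mul_comm := fun x y => Subtype.ext (hAab x x.2 y y.2) }
  haveI : Nontrivial ↥A := (Subgroup.nontrivial_iff_ne_bot A).2 hA1
  let ρ : X →* MulAut ↥A := MulAut.conjNormal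
  have hρ : ∀ (g : X) (a : ↥A), ((ρ g a : ↥A) : X) = g * a * g⁻¹ := fun g a => rfl
  have hfpf : ∀ g : X, g ∉ K → ∀ a : ↥A, ρ g a = a → a = 1 := by
    intro g hg a ha
    have h1 : g * a * g⁻¹ = a := by
      have := congrArg Subtype.val ha
      rwa [hρ] at this
    have hc : Commute g (a : X) := by
      show g * a = a * g
      calc g * (a : X) = (g * a * g⁻¹) * g := by group
        _ = a * g := by rw [h1]
    have hga : g * (a : X) ∉ K := fun h => hg (by
      have := K.mul_mem h (K.inv_mem (hAK a.2))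
      rwa [mul_inv_cancel_right] at this)
    have h2 := hout _ hga
    rw [hc.mul_pow, hout g hg, one_mul] at h2
    have h3 : orderOf a ∣ p := orderOf_dvd_of_pow_eq_one (Subtype.ext h2)
    have h4 : orderOf a ∣ Nat.card ↥A := orderOf_dvd_natCard a
    exact orderOf_eq_one_iff.1 (Nat.eq_one_of_dvd_coprimes hcop h4 h3)
  have hker : ∀ g : X, ρ g = 1 → g ∈ K := by
    intro g hg
    by_contra hgK
    obtain ⟨a, ha⟩ := exists_ne (1 : ↥A)
    exact ha (hfpf g hgK a (by rw [hg]; rfl))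
  obtain ⟨T⟩ : Nonempty (Sylow p X) := inferInstance
  have hq : IsPGroup p (X ⧸ K) := by
    intro y
    induction y using QuotientGroup.induction_on with
    | H g =>
      refine ⟨1, ?_⟩
      rw [pow_one, ← QuotientGroup.mk_pow]
      by_cases hg : g ∈ K
      · exact (QuotientGroup.eq_one_iff _).2 (K.pow_mem hg p)
      · rw [hout g hg]; rfl
  obtain ⟨m, hm⟩ := hq.exists_card_eq
  have hm' : K.index = p ^ m := by rw [Subgroup.index_eq_card]; exact hm
  have hTK : (T : Subgroup X) ⊔ K = ⊤ := by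
    rw [← Subgroup.index_eq_one]
    have h1 : ((T : Subgroup X) ⊔ K).index ∣ (T : Subgroup X).index :=
      Subgroup.index_dvd_of_le le_sup_left
    have h2 : ((T : Subgroup X) ⊔ K).index ∣ K.index := Subgroup.index_dvd_of_le le_sup_right
    rw [hm'] at h2
    have h3 : (((T : Subgroup X) ⊔ K).index).Coprime p :=
      Nat.Coprime.coprime_dvd_left h1 ((Nat.Prime.coprime_iff_not_dvd hp).2 T.not_dvd_index).symm
    exact Nat.Coprime.eq_one_of_dvd (h3.pow_right m) h2
  obtain ⟨x, hxT, hxK⟩ : ∃ x ∈ (T : Subgroup X), x ∉ K := by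
    by_contra h
    push Not at h
    apply hK
    rw [← hTK]
    exact (sup_eq_right.2 h).symm
  have hprop : ∀ γ ∈ (T : Subgroup X).map ρ, γ ∉ ((T : Subgroup X) ⊓ K).map ρ →
      (∀ v, γ v = v → v = 1) ∧ γ ^ p = 1 := by
    rintro γ ⟨t, ht, rfl⟩ hγ
    have htK : t ∉ K := fun h => hγ (Subgroup.mem_map_of_mem ρ ⟨ht, h⟩)
    exact ⟨hfpf t htK, by rw [← map_pow, hout t htK, map_one]⟩
  have hxS : ρ x ∉ ((T : Subgroup X) ⊓ K).map ρ := by
    rintro ⟨s, hs, hsx⟩
    have h1 : ρ (x * s⁻¹) = 1 := by rw [map_mul, map_inv, hsx, mul_inv_cancel]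
    have h2 := hker _ h1
    apply hxK
    have := K.mul_mem h2 hs.2
    rwa [inv_mul_cancel_right] at this
  obtain ⟨ha, -⟩ := pg_abs p hp hcop ((T : Subgroup X).map ρ) (((T : Subgroup X) ⊓ K).map ρ)
    (T.isPGroup'.map ρ) hprop (ρ x) (Subgroup.mem_map_of_mem ρ hxT) hxS
  have hgen : ∀ y : X ⧸ K, y ∈ Subgroup.zpowers ((x : X) : X ⧸ K) := by
    intro y
    induction y using QuotientGroup.induction_on with
    | H g =>
      have hg : g ∈ (T : Subgroup X) ⊔ K := by rw [hTK]; trivial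
      obtain ⟨t, ht, k, hk, rfl⟩ := Subgroup.mem_sup_of_normal_right.1 hg
      obtain ⟨j, hj⟩ := ha (ρ t) (Subgroup.mem_map_of_mem ρ ht)
      have h1 : (x ^ j)⁻¹ * t ∈ K := hker _ (by rw [map_mul, map_inv, map_pow, hj, inv_mul_cancel])
      have h2 : (((t * k : X)) : X ⧸ K) = ((x ^ j : X) : X ⧸ K) := by
        rw [eq_comm, QuotientGroup.eq]
        have := K.mul_mem h1 hk
        rwa [mul_assoc] at this
      rw [h2, QuotientGroup.mk_pow]
      exact Subgroup.pow_mem _ (Subgroup.mem_zpowers _) j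
  have htop : Subgroup.zpowers ((x : X) : X ⧸ K) = ⊤ := eq_top_iff.2 (fun y _ => hgen y)
  have hcard : Nat.card (X ⧸ K) = orderOf ((x : X) : X ⧸ K) := by
    rw [← Nat.card_zpowers, htop, Subgroup.card_top]
  have hdvd : orderOf ((x : X) : X ⧸ K) ∣ p := by
    apply orderOf_dvd_of_pow_eq_one
    rw [← QuotientGroup.mk_pow, hout x hxK]; rfl
  rw [Subgroup.index_eq_card, hcard]
  rcases (Nat.dvd_prime hp).1 hdvd with h | h
  · exfalso
    rw [orderOf_eq_one_iff, QuotientGroup.eq_one_iff] at h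
    exact hxK h
  · exact h

/-- **Hughes–Thompson.** If `G` is not a `p`-group and every element outside the proper
subgroup `H` has order dividing `p`, then `H` is normal of index `p`. -/
theorem hughes_thompson {G : Type*} [Group G] [Finite G] (p : ℕ) (hp : p.Prime)
    (hG : ¬ IsPGroup p G) (H : Subgroup G) (hH : H ≠ ⊤) (hout : ∀ g : G, g ∉ H → g ^ p = 1) :
    H.Normal ∧ H.index = p := by
  haveI : Fact p.Prime := ⟨hp⟩
  -- the core statement for normal subgroups
  have core : ∀ H : Subgroup G, H.Normal → H ≠ ⊤ → (∀ g : G, g ∉ H → g ^ p = 1) →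
      H.index = p := by
    intro H hHn hH hout
    haveI := hHn
    obtain ⟨q, hq, hqdvd, hqp⟩ : ∃ q, q.Prime ∧ q ∣ Nat.card G ∧ q ≠ p := by
      by_contra h
      push Not at h
      exact hG (IsPGroup.of_card (Nat.eq_prime_pow_of_unique_prime_dvd (Nat.card_pos (α := G)).ne'
        (fun {d} hd hdvd => h d hd hdvd)))
    haveI : Fact q.Prime := ⟨hq⟩
    obtain ⟨Q⟩ : Nonempty (Sylow q G) := inferInstance
    have hpq : (q).Coprime p := (Nat.coprime_primes hq hp).2 hqp
    have hQH : (Q : Subgroup G) ≤ H := by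
      intro u hu
      by_contra huH
      have h1 := hout u huH
      obtain ⟨k, hk⟩ := Q.isPGroup' ⟨u, hu⟩
      have h2 : u ^ (q ^ k) = 1 := congrArg Subtype.val hk
      have h3 : orderOf u = 1 := Nat.eq_one_of_dvd_coprimes (Nat.Coprime.pow_left k hpq)
        (orderOf_dvd_of_pow_eq_one h2) (orderOf_dvd_of_pow_eq_one h1)
      rw [orderOf_eq_one_iff] at h3
      exact huH (h3 ▸ H.one_mem)
    have hQ1 : (Q : Subgroup G) ≠ ⊥ := by
      intro h
      have h1 := Q.card_eq_multiplicity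
      rw [h, Subgroup.card_bot] at h1
      have hpos : 0 < (Nat.card G).factorization q :=
        hq.factorization_pos_of_dvd (Nat.card_pos (α := G)).ne' hqdvd
      rcases Nat.pow_eq_one.1 h1.symm with h4 | h4
      · exact hq.one_lt.ne' h4
      · omega
    have hfrat : Subgroup.normalizer ((Q : Subgroup G) : Set G) ⊔ H = ⊤ :=
      Sylow.normalizer_sup_eq_top' Q hQH
    set N := Subgroup.normalizer ((Q : Subgroup G) : Set G) with hN
    have hKtop : H.subgroupOf N ≠ ⊤ := by
      intro h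
      rw [Subgroup.subgroupOf_eq_top] at h
      apply hH
      rw [← hfrat]
      exact (sup_eq_right.2 h).symm
    have hKout : ∀ g : ↥N, g ∉ H.subgroupOf N → g ^ p = 1 := fun g hg =>
      Subtype.ext (hout g (fun h => hg (Subgroup.mem_subgroupOf.2 h)))
    set Z := (Q : Subgroup G) ⊓ Subgroup.centralizer ((Q : Subgroup G) : Set G) with hZ
    have hZn : (Z.subgroupOf N).Normal := by
      refine ⟨fun a ha g => ?_⟩
      rw [Subgroup.mem_subgroupOf] at ha ⊢
      have hg := g.2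
      obtain ⟨ha1, ha2⟩ := Subgroup.mem_inf.1 ha
      refine Subgroup.mem_inf.2 ⟨(Subgroup.mem_normalizer_iff.1 hg _).1 ha1, ?_⟩
      rw [Subgroup.mem_centralizer_iff]
      intro u hu
      have hu' : (g : G)⁻¹ * u * g ∈ (Q : Subgroup G) := by
        apply (Subgroup.mem_normalizer_iff.1 hg ((g : G)⁻¹ * u * g)).2
        have : (g : G) * ((g : G)⁻¹ * u * g) * (g : G)⁻¹ = u := by group
        rw [this]; exact hu
      have hc := Subgroup.mem_centralizer_iff.1 ha2 _ hu'
      show u * ((g : G) * (a : G) * (g : G)⁻¹) = (g : G) * (a : G) * (g : G)⁻¹ * u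
      calc u * ((g : G) * (a : G) * (g : G)⁻¹)
          = (g : G) * (((g : G)⁻¹ * u * g) * (a : G)) * (g : G)⁻¹ := by group
        _ = (g : G) * ((a : G) * ((g : G)⁻¹ * u * g)) * (g : G)⁻¹ := by rw [hc]
        _ = (g : G) * (a : G) * (g : G)⁻¹ * u := by group
    have hZab : ∀ a ∈ Z.subgroupOf N, ∀ b ∈ Z.subgroupOf N, a * b = b * a := by
      intro a ha b hb
      rw [Subgroup.mem_subgroupOf] at ha hb
      apply Subtype.ext
      have := Subgroup.mem_centralizer_iff.1 (Subgroup.mem_inf.1 hb).2 _ (Subgroup.mem_inf.1 ha).1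
      exact this
    have hZK : Z.subgroupOf N ≤ H.subgroupOf N := by
      intro a ha
      rw [Subgroup.mem_subgroupOf] at ha ⊢
      exact hQH (Subgroup.mem_inf.1 ha).1
    have hQN : (Q : Subgroup G) ≤ N := Subgroup.le_normalizer
    have hZ1 : Z.subgroupOf N ≠ ⊥ := by
      haveI : Nontrivial ↥(Q : Subgroup G) := (Subgroup.nontrivial_iff_ne_bot _).2 hQ1
      have hcn : Nontrivial (Subgroup.center ↥(Q : Subgroup G)) := Q.isPGroup'.center_nontrivial
      obtain ⟨z, hz⟩ := exists_ne (1 : Subgroup.center ↥(Q : Subgroup G))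
      intro hbot
      have hzZ : ((z : ↥(Q : Subgroup G)) : G) ∈ Z := by
        refine Subgroup.mem_inf.2 ⟨(z : ↥(Q : Subgroup G)).2, ?_⟩
        rw [Subgroup.mem_centralizer_iff]
        intro u hu
        have := Subgroup.mem_center_iff.1 z.2 ⟨u, hu⟩
        exact congrArg Subtype.val this
      have hmem : (⟨((z : ↥(Q : Subgroup G)) : G), hQN (z : ↥(Q : Subgroup G)).2⟩ : ↥N) ∈
          Z.subgroupOf N := Subgroup.mem_subgroupOf.2 hzZ
      rw [hbot, Subgroup.mem_bot] at hmem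
      have h1 : ((z : ↥(Q : Subgroup G)) : G) = 1 := congrArg Subtype.val hmem
      exact hz (Subtype.ext (Subtype.ext h1))
    have hZcop : (Nat.card ↥(Z.subgroupOf N)).Coprime p := by
      have hpg : IsPGroup q ↥(Z.subgroupOf N) := by
        intro g
        have hg : ((g : ↥N) : G) ∈ (Q : Subgroup G) :=
          (Subgroup.mem_inf.1 (Subgroup.mem_subgroupOf.1 g.2)).1
        obtain ⟨k, hk⟩ := Q.isPGroup' ⟨_, hg⟩
        have h2 : (((g : ↥N) : G)) ^ (q ^ k) = 1 := congrArg Subtype.val hk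
        exact ⟨k, Subtype.ext (Subtype.ext h2)⟩
      obtain ⟨j, hj⟩ := hpg.exists_card_eq
      rw [hj]
      exact Nat.Coprime.pow_left j hpq
    haveI := hZn
    have hidx := ht_local p hp (H.subgroupOf N) hKtop hKout (Z.subgroupOf N) hZab hZK hZ1 hZcop
    have h1 : H.relIndex N = H.index := by
      rw [← Subgroup.relIndex_sup_right N H, hfrat, Subgroup.relIndex_top_right]
    rw [← h1]
    exact hidx
  -- the general case
  have hS : ∀ g : G, ∀ s ∈ {g : G | g ^ p ≠ 1}, g * s * g⁻¹ ∈ {g : G | g ^ p ≠ 1} := by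
    intro g s hs
    show (g * s * g⁻¹) ^ p ≠ 1
    rw [conj_pow]
    intro h
    apply hs
    have : s ^ p = g⁻¹ * (g * s ^ p * g⁻¹) * g := by group
    rw [this, h]; group
  have hH₀H : Subgroup.closure {g : G | g ^ p ≠ 1} ≤ H :=
    (Subgroup.closure_le H).2 (fun g hg => by
      by_contra h
      exact hg (hout g h))
  have hH₀n : (Subgroup.closure {g : G | g ^ p ≠ 1}).Normal := by
    refine ⟨fun n hn g => ?_⟩
    have h1 : (Subgroup.closure {g : G | g ^ p ≠ 1}).map (MulAut.conj g).toMonoidHom ≤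
        Subgroup.closure {g : G | g ^ p ≠ 1} := by
      rw [MonoidHom.map_closure]
      apply Subgroup.closure_mono
      rintro _ ⟨s, hs, rfl⟩
      exact hS g s hs
    exact h1 ⟨n, hn, rfl⟩
  have hH₀top : Subgroup.closure {g : G | g ^ p ≠ 1} ≠ ⊤ := fun h =>
    hH (top_le_iff.1 (h ▸ hH₀H))
  have hout₀ : ∀ g : G, g ∉ Subgroup.closure {g : G | g ^ p ≠ 1} → g ^ p = 1 := by
    intro g hg
    by_contra h
    exact hg (Subgroup.subset_closure h)
  have hidx₀ := core _ hH₀n hH₀top hout₀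
  have hdvd : H.index ∣ (Subgroup.closure {g : G | g ^ p ≠ 1}).index :=
    Subgroup.index_dvd_of_le hH₀H
  rw [hidx₀] at hdvd
  have hidx : H.index = p := ((Nat.dvd_prime hp).1 hdvd).resolve_left
    (fun h => hH (Subgroup.index_eq_one.1 h))
  have hEq : Subgroup.closure {g : G | g ^ p ≠ 1} = H := by
    apply Subgroup.eq_of_le_of_card_ge hH₀H
    have h1 := H.card_mul_index
    have h2 := (Subgroup.closure {g : G | g ^ p ≠ 1}).card_mul_index
    rw [hidx] at h1
    rw [hidx₀] at h2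
    have := Nat.eq_of_mul_eq_mul_right hp.pos (h1.trans h2.symm)
    exact this.le
  exact ⟨hEq ▸ hH₀n, hidx⟩

end HT

section Kegel

theorem mem_of_coprime {G : Type*} [Group G] (p : ℕ) (H : Subgroup G)
    (hout : ∀ g : G, g ∉ H → g ^ p = 1) (g : G) (n : ℕ) (hn : n.Coprime p) (hg : g ^ n = 1) :
    g ∈ H := by
  by_contra h
  have h1 := hout g h
  have h3 : orderOf g = 1 := Nat.eq_one_of_dvd_coprimes hn (orderOf_dvd_of_pow_eq_one hg)
    (orderOf_dvd_of_pow_eq_one h1)
  rw [orderOf_eq_one_iff] at h3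
  exact h (h3 ▸ H.one_mem)

/-- An element outside `H` has no nontrivial fixed points of order coprime to `p` in `H`. -/
theorem fpf_of_out {G : Type*} [Group G] (p : ℕ) (H : Subgroup G)
    (hout : ∀ g : G, g ∉ H → g ^ p = 1) (y : G) (hy : y ∉ H) (a : G) (ha : a ∈ H) (n : ℕ)
    (hn : n.Coprime p) (han : a ^ n = 1) (hfix : y * a * y⁻¹ = a) : a = 1 := by
  have hc : Commute y a := by
    show y * a = a * y
    calc y * a = (y * a * y⁻¹) * y := by group
      _ = a * y := by rw [hfix]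
  have hya : y * a ∉ H := fun h => hy (by
    have := H.mul_mem h (H.inv_mem ha)
    rwa [mul_inv_cancel_right] at this)
  have h2 := hout _ hya
  rw [hc.mul_pow, hout y hy, one_mul] at h2
  have h3 : orderOf a = 1 := Nat.eq_one_of_dvd_coprimes hn (orderOf_dvd_of_pow_eq_one han)
    (orderOf_dvd_of_pow_eq_one h2)
  exact orderOf_eq_one_iff.1 h3

theorem sylow_le_of_ne {G : Type*} [Group G] [Finite G] (p : ℕ) (hp : p.Prime) (H : Subgroup G)
    (hout : ∀ g : G, g ∉ H → g ^ p = 1) (r : ℕ) [Fact r.Prime] (hrp : r ≠ p) (R : Sylow r G) :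
    (R : Subgroup G) ≤ H := by
  intro u hu
  obtain ⟨k, hk⟩ := R.isPGroup' ⟨u, hu⟩
  have h2 : u ^ (r ^ k) = 1 := congrArg Subtype.val hk
  exact mem_of_coprime p H hout u (r ^ k)
    (Nat.Coprime.pow_left k ((Nat.coprime_primes Fact.out hp).2 hrp)) h2

/-- A group which is nilpotent-by-(exponent `p` outside) is `p`-locally `p`-closed. -/
theorem localP_of_hughes {X : Type*} [Group X] [Finite X] (p : ℕ) [Fact p.Prime]
    (K : Subgroup X) [hKn : K.Normal] (hnil : Group.IsNilpotent ↥K)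
    (hout : ∀ g : X, g ∉ K → g ^ p = 1) : Cfsg.Agent.Helper1.LocalP p X := by
  intro R hR g hgN hgo
  have hgK : g ∈ K := mem_of_coprime p K hout g (orderOf g) hgo (pow_orderOf_eq_one g)
  rw [Subgroup.mem_centralizer_iff]
  intro r hr
  have hcR : r * (g * r⁻¹ * g⁻¹) ∈ R :=
    R.mul_mem hr ((Subgroup.mem_normalizer_iff.1 hgN _).1 (R.inv_mem hr))
  have hcK : r * g * r⁻¹ * g⁻¹ ∈ K := K.mul_mem (hKn.conj_mem g hgK r) (K.inv_mem hgK)
  obtain ⟨n, hn⟩ := hnil.nilpotent'
  obtain ⟨k, hk⟩ := hR ⟨_, hcR⟩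
  have hck : (r * (g * r⁻¹ * g⁻¹)) ^ (p ^ k) = 1 := congrArg Subtype.val hk
  have hck' : (r * g * r⁻¹ * g⁻¹) ^ (p ^ k) = 1 := by
    rw [← hck]; congr 1; group
  have hcop : (p ^ k).Coprime (orderOf g) := Nat.Coprime.pow_left k hgo.symm
  have hcomm := Cfsg.Agent.Helper14.commute_of_mem_ucs n (⟨r * g * r⁻¹ * g⁻¹, hcK⟩ : ↥K)
    (⟨g, hgK⟩ : ↥K) (p ^ k) (orderOf g) hcop (Subtype.ext hck')
    (Subtype.ext (pow_orderOf_eq_one g)) (by rw [hn]; trivial)
  have hcomm' : g * (r * g * r⁻¹ * g⁻¹) = (r * g * r⁻¹ * g⁻¹) * g := congrArg Subtype.val hcomm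
  have h1 : (r * g * r⁻¹) ^ orderOf g = 1 := by
    rw [conj_pow, pow_orderOf_eq_one, mul_one, mul_inv_cancel]
  have h2 : r * g * r⁻¹ = (r * g * r⁻¹ * g⁻¹) * g := by group
  have hc : Commute (r * g * r⁻¹ * g⁻¹) g := hcomm'.symm
  rw [h2, hc.mul_pow, pow_orderOf_eq_one, mul_one] at h1
  have h3 : orderOf (r * g * r⁻¹ * g⁻¹) = 1 := Nat.eq_one_of_dvd_coprimes hcop
    (orderOf_dvd_of_pow_eq_one hck') (orderOf_dvd_of_pow_eq_one h1)
  rw [orderOf_eq_one_iff] at h3
  have : r * g = (r * g * r⁻¹ * g⁻¹) * (g * r) := by group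
  rw [this, h3, one_mul]

/-- Sylow `r`-subgroups for `r ∉ {p, q}` centralize the `q`-group `V`. -/
theorem sylow_centralizes {G : Type*} [Group G] [Finite G] (p : ℕ) (hp : p.Prime)
    (H : Subgroup G) [H.Normal] (hH : H ≠ ⊤)
    (hout : ∀ g : G, g ∉ H → g ^ p = 1) (V : Subgroup G) [hVn : V.Normal] (hVH : V ≤ H)
    (hVab : ∀ x ∈ V, ∀ y ∈ V, x * y = y * x) (q b : ℕ) (hq : q.Prime) (hb : Nat.card V = q ^ b)
    (r : ℕ) [Fact r.Prime] (hrp : r ≠ p) (hrq : r ≠ q) (R : Sylow r G) :
    ∀ a ∈ (R : Subgroup G), ∀ v ∈ V, a * v = v * a := by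
  have hr : r.Prime := Fact.out
  have hRH : (R : Subgroup G) ≤ H := sylow_le_of_ne p hp H hout r hrp R
  have hfrat : Subgroup.normalizer ((R : Subgroup G) : Set G) ⊔ H = ⊤ :=
    Sylow.normalizer_sup_eq_top' R hRH
  obtain ⟨y, hyN, hyH⟩ : ∃ y ∈ Subgroup.normalizer ((R : Subgroup G) : Set G), y ∉ H := by
    by_contra h
    push Not at h
    apply hH
    rw [← hfrat]
    exact (sup_eq_right.2 h).symm
  have hcopr : ∀ a ∈ (R : Subgroup G), ∃ n : ℕ, n.Coprime p ∧ a ^ n = 1 := by
    intro a ha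
    obtain ⟨k, hk⟩ := R.isPGroup' ⟨a, ha⟩
    exact ⟨r ^ k, Nat.Coprime.pow_left k ((Nat.coprime_primes hr hp).2 hrp),
      congrArg Subtype.val hk⟩
  refine centralizes_of_split (MulAut.conj y) p hp V hVab ?_ (R : Subgroup G) ?_ ?_ ?_ ?_ ?_
  · intro x hx
    rw [MulAut.conj_apply]
    exact hVn.conj_mem x hx y
  · intro x hx
    rw [MulAut.conj_apply]
    exact (Subgroup.mem_normalizer_iff.1 hyN x).1 hx
  · intro a ha hfix
    rw [MulAut.conj_apply] at hfix
    obtain ⟨n, hn, han⟩ := hcopr a ha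
    exact fpf_of_out p H hout y hyH a (hRH ha) n hn han hfix
  · intro a ha
    rw [conj_iter, hout y hyH]; simp
  · obtain ⟨k, hk⟩ := R.isPGroup'.exists_card_eq
    rw [hk, hb]
    exact Nat.Coprime.pow _ _ ((Nat.coprime_primes hr hq).2 hrq)
  · intro a ha v hv
    have hay : a * y ∉ H := fun h => hyH (by
      have := H.mul_mem (H.inv_mem (hRH ha)) h
      rwa [inv_mul_cancel_left] at this)
    have hvay : v * (a * y) ∉ H := fun h => hay (by
      have := H.mul_mem (H.inv_mem (hVH hv)) h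
      rwa [inv_mul_cancel_left] at this)
    exact split_conj y a v p (hout _ hvay) (hout _ hay)

/-- If the `p`-group `P` is not contained in `H`, then `P ⊓ H` centralizes the normal abelian
`p'`-subgroup `V ≤ H`. -/
theorem sylow_p_centralizes {G : Type*} [Group G] [Finite G] (p : ℕ) (hp : p.Prime)
    (H : Subgroup G) (hout : ∀ g : G, g ∉ H → g ^ p = 1) (V : Subgroup G) [hVn : V.Normal]
    (hVH : V ≤ H) (hV1 : V ≠ ⊥) (hVab : ∀ x ∈ V, ∀ y ∈ V, x * y = y * x)
    (hcop : (Nat.card V).Coprime p) (P : Subgroup G) (hP : IsPGroup p P) (hPH : ¬ P ≤ H) :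
    ∀ a ∈ P ⊓ H, ∀ v ∈ V, a * v = v * a := by
  haveI : Fact p.Prime := ⟨hp⟩
  letI instV : CommGroup ↥V :=
    { (inferInstance : Group ↥V) with
      mul_comm := fun x y => Subtype.ext (hVab x x.2 y y.2) }
  haveI : Nontrivial ↥V := (Subgroup.nontrivial_iff_ne_bot V).2 hV1
  let ρ : G →* MulAut ↥V := MulAut.conjNormal
  have hρ : ∀ (g : G) (a : ↥V), ((ρ g a : ↥V) : G) = g * a * g⁻¹ := fun g a => rfl
  have hfpf : ∀ g : G, g ∉ H → ∀ a : ↥V, ρ g a = a → a = 1 := by
    intro g hg a ha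
    have h1 : g * a * g⁻¹ = a := by
      have := congrArg Subtype.val ha
      rwa [hρ] at this
    have h2 : (a : G) ^ Nat.card ↥V = 1 := by
      have := pow_card_eq_one' (G := ↥V) (x := a)
      exact congrArg Subtype.val this
    exact Subtype.ext (fpf_of_out p H hout g hg a (hVH a.2) _ hcop h2 h1)
  have hker : ∀ g : G, ρ g = 1 → g ∈ H := by
    intro g hg
    by_contra hgH
    obtain ⟨a, ha⟩ := exists_ne (1 : ↥V)
    exact ha (hfpf g hgH a (by rw [hg]; rfl))
  obtain ⟨x, hxP, hxH⟩ : ∃ x ∈ P, x ∉ H := by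
    by_contra h
    push Not at h
    exact hPH h
  have hprop : ∀ γ ∈ P.map ρ, γ ∉ (P ⊓ H).map ρ → (∀ v, γ v = v → v = 1) ∧ γ ^ p = 1 := by
    rintro γ ⟨t, ht, rfl⟩ hγ
    have htH : t ∉ H := fun h => hγ (Subgroup.mem_map_of_mem ρ ⟨ht, h⟩)
    exact ⟨hfpf t htH, by rw [← map_pow, hout t htH, map_one]⟩
  have hxS : ρ x ∉ (P ⊓ H).map ρ := by
    rintro ⟨s, hs, hsx⟩
    have h1 : ρ (x * s⁻¹) = 1 := by rw [map_mul, map_inv, hsx, mul_inv_cancel]
    have h2 := hker _ h1
    apply hxH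
    have := H.mul_mem h2 hs.2
    rwa [inv_mul_cancel_right] at this
  obtain ⟨-, hb⟩ := pg_abs p hp hcop (P.map ρ) ((P ⊓ H).map ρ) (hP.map ρ) hprop (ρ x)
    (Subgroup.mem_map_of_mem ρ hxP) hxS
  intro a ha v hv
  have h1 := hb (ρ a) (Subgroup.mem_map_of_mem ρ ha.1) (Subgroup.mem_map_of_mem ρ ha)
  have h2 : ρ a ⟨v, hv⟩ = ⟨v, hv⟩ := by rw [h1]; rfl
  have h3 : a * v * a⁻¹ = v := by
    have := congrArg Subtype.val h2
    rwa [hρ] at this
  calc a * v = (a * v * a⁻¹) * a := by group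
    _ = v * a := by rw [h3]

/-- The minimal normal subgroup `V` is centralized by `H`. -/
theorem kegel_central {G : Type*} [Group G] [Finite G] (p : ℕ) (hp : p.Prime) (H : Subgroup G)
    [hHn : H.Normal] (hH : H ≠ ⊤) (hout : ∀ g : G, g ∉ H → g ^ p = 1) (V : Subgroup G)
    [hVn : V.Normal] (hVH : V ≤ H) (hV1 : V ≠ ⊥)
    (hVab : ∀ x ∈ V, ∀ y ∈ V, x * y = y * x) (q b : ℕ) (hq : q.Prime)
    (hb : Nat.card V = q ^ b)
    (hmin : ∀ V' : Subgroup G, V'.Normal → V' ≤ V → V' = ⊥ ∨ V' = V) :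
    ∀ h ∈ H, ∀ v ∈ V, h * v = v * h := by
  haveI : Fact p.Prime := ⟨hp⟩
  haveI : Fact q.Prime := ⟨hq⟩
  have hVpg : IsPGroup q ↥V := IsPGroup.of_card hb
  obtain ⟨Q⟩ : Nonempty (Sylow q G) := inferInstance
  obtain ⟨v, hvV, hv1, hvQ⟩ := exists_fixed q (Q : Subgroup G) V Q.isPGroup' hVpg hV1
  obtain ⟨P⟩ : Nonempty (Sylow p G) := inferInstance
  have hPH : ¬ (P : Subgroup G) ≤ H := by
    intro hle
    have hq' : IsPGroup p (G ⧸ H) := by
      intro y
      induction y using QuotientGroup.induction_on with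
      | H g =>
        refine ⟨1, ?_⟩
        rw [pow_one, ← QuotientGroup.mk_pow]
        by_cases hg : g ∈ H
        · exact (QuotientGroup.eq_one_iff _).2 (H.pow_mem hg p)
        · rw [hout g hg]; rfl
    obtain ⟨m, hm⟩ := hq'.exists_card_eq
    have hm' : H.index = p ^ m := by rw [Subgroup.index_eq_card]; exact hm
    have hm0 : m ≠ 0 := by
      rintro rfl
      rw [pow_zero] at hm'
      exact hH (Subgroup.index_eq_one.1 hm')
    have h1 : p ∣ H.index := by rw [hm']; exact dvd_pow_self p hm0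
    exact P.not_dvd_index (dvd_trans h1 (Subgroup.index_dvd_of_le hle))
  have hHv : H ≤ Subgroup.centralizer ({v} : Set G) := by
    rw [← Subgroup.relIndex_eq_one]
    by_contra h
    obtain ⟨r, hr, hrdvd⟩ := Nat.exists_prime_and_dvd h
    haveI : Fact r.Prime := ⟨hr⟩
    have hmem : ∀ x : G, x * v = v * x → x ∈ Subgroup.centralizer ({v} : Set G) := by
      intro x hx
      rw [Subgroup.mem_centralizer_iff]
      intro y hy
      rw [Set.mem_singleton_iff] at hy
      rw [hy]; exact hx.symm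
    have hnorm : (Subgroup.centralizer ({v} : Set G)).relIndex H ∣
        (Subgroup.centralizer ({v} : Set G)).index :=
      Cfsg.Agent.Helper23.relIndex_dvd_index_of_normal_right _ H
    by_cases hrq : r = q
    · subst hrq
      have hQc : (Q : Subgroup G) ≤ Subgroup.centralizer ({v} : Set G) :=
        fun x hx => hmem x (hvQ x hx)
      exact Q.not_dvd_index (dvd_trans hrdvd (dvd_trans hnorm (Subgroup.index_dvd_of_le hQc)))
    · by_cases hrp : r = p
      · subst hrp
        have hcopV : (Nat.card ↥V).Coprime r := by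
          rw [hb]; exact Nat.Coprime.pow_left b ((Nat.coprime_primes hq hr).2 (Ne.symm hrq))
        have hc := sylow_p_centralizes r hr H hout V hVH hV1 hVab hcopV (P : Subgroup G)
          P.isPGroup' hPH
        have hPc : (P : Subgroup G) ⊓ H ≤ Subgroup.centralizer ({v} : Set G) :=
          fun x hx => hmem x (hc x hx v hvV)
        have h1 : (Subgroup.centralizer ({v} : Set G)).relIndex H ∣
            ((P : Subgroup G) ⊓ H).relIndex H := Subgroup.relIndex_dvd_of_le_left H hPc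
        rw [Subgroup.inf_relIndex_right] at h1
        have h2 : (P : Subgroup G).relIndex H ∣ (P : Subgroup G).index :=
          Cfsg.Agent.Helper23.relIndex_dvd_index_of_normal_right _ H
        exact P.not_dvd_index (dvd_trans hrdvd (dvd_trans h1 h2))
      · obtain ⟨R⟩ : Nonempty (Sylow r G) := inferInstance
        have hc := sylow_centralizes p hp H hH hout V hVH hVab q b hq hb r hrp hrq R
        have hRc : (R : Subgroup G) ≤ Subgroup.centralizer ({v} : Set G) :=
          fun x hx => hmem x (hc x hx v hvV)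
        exact R.not_dvd_index (dvd_trans hrdvd (dvd_trans hnorm (Subgroup.index_dvd_of_le hRc)))
  have hZn : (V ⊓ Subgroup.centralizer (H : Set G)).Normal := inferInstance
  rcases hmin _ hZn inf_le_left with h | h
  · exfalso
    have : v ∈ V ⊓ Subgroup.centralizer (H : Set G) := by
      refine Subgroup.mem_inf.2 ⟨hvV, ?_⟩
      rw [Subgroup.mem_centralizer_iff]
      intro h' hh'
      exact (Subgroup.mem_centralizer_iff.1 (hHv hh') v rfl).symm
    rw [h, Subgroup.mem_bot] at this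
    exact hv1 this
  · intro h' hh' w hw
    have hw' : w ∈ V ⊓ Subgroup.centralizer (H : Set G) := by rw [h]; exact hw
    exact Subgroup.mem_centralizer_iff.1 hw'.2 h' hh'

/-- Existence of a nontrivial nilpotent normal subgroup inside `H` (odd `p`). -/
theorem kegel_exists_normal {G : Type u} [Group G] [Finite G] (p : ℕ) (hp : p.Prime)
    (hp2 : p ≠ 2) (hG : ¬ IsPGroup p G) (H : Subgroup G) [hHn : H.Normal] (hidx : H.index = p)
    (hout : ∀ g : G, g ∉ H → g ^ p = 1)
    (ih : ∀ L : Subgroup G, L ≠ ⊤ → ∀ K : Subgroup ↥L, K ≠ ⊤ →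
      (∀ g : ↥L, g ∉ K → g ^ p = 1) → Group.IsNilpotent ↥K) :
    ∃ N : Subgroup G, N.Normal ∧ N ≤ H ∧ N ≠ ⊥ ∧ Group.IsNilpotent ↥N := by
  haveI : Fact p.Prime := ⟨hp⟩
  obtain ⟨P⟩ : Nonempty (Sylow p G) := inferInstance
  have hPH : ¬ (P : Subgroup G) ≤ H := by
    intro hle
    have h1 : p ∣ H.index := by rw [hidx]
    exact P.not_dvd_index (dvd_trans h1 (Subgroup.index_dvd_of_le hle))
  have hPbot : (P : Subgroup G) ≠ ⊥ := by
    intro h
    exact hPH (h ▸ bot_le)
  have hWP : Cfsg.Agent.Helper23.zjSub p true (P : Subgroup G) ≤ P :=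
    Cfsg.Agent.Helper23.zjSub_le p true _
  have hWbot : Cfsg.Agent.Helper23.zjSub p true (P : Subgroup G) ≠ ⊥ := by
    intro h
    have h1 := inducedFunctor_zjW p true (P : Subgroup G)
    rw [h] at h1
    have h2 : zjW p true ↥(P : Subgroup G) = ⊥ :=
      (Subgroup.map_eq_bot_iff_of_injective _ (Subgroup.subtype_injective _)).1 h1
    haveI : Nontrivial ↥(P : Subgroup G) := (Subgroup.nontrivial_iff_ne_bot _).2 hPbot
    exact (zjW_char p true).1 ↥(P : Subgroup G) P.isPGroup' inferInstance h2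
  by_cases hL : Subgroup.normalizer
      (Cfsg.Agent.Helper23.zjSub p true (P : Subgroup G) : Set G) = ⊤
  · have hWn : (Cfsg.Agent.Helper23.zjSub p true (P : Subgroup G)).Normal :=
      Subgroup.normalizer_eq_top_iff.1 hL
    by_cases hWH : Cfsg.Agent.Helper23.zjSub p true (P : Subgroup G) ⊓ H = ⊥
    · exfalso
      obtain ⟨⟨w, hwW⟩, hw1'⟩ := (Subgroup.ne_bot_iff_exists_ne_one).1 hWbot
      have hw1 : w ≠ 1 := fun h => hw1' (Subtype.ext h)
      have hwH : w ∉ H := fun h => hw1 (by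
        have : w ∈ Cfsg.Agent.Helper23.zjSub p true (P : Subgroup G) ⊓ H :=
          Subgroup.mem_inf.2 ⟨hwW, h⟩
        rwa [hWH, Subgroup.mem_bot] at this)
      have hcomm : ∀ h ∈ H, Commute w h := by
        intro h hh
        have h1 : w * h * w⁻¹ * h⁻¹ ∈
            Cfsg.Agent.Helper23.zjSub p true (P : Subgroup G) ⊓ H := by
          refine Subgroup.mem_inf.2 ⟨?_, ?_⟩
          · have : w * h * w⁻¹ * h⁻¹ = w * (h * w⁻¹ * h⁻¹) := by group
            rw [this]
            exact Subgroup.mul_mem _ hwW (hWn.conj_mem _ (Subgroup.inv_mem _ hwW) h)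
          · exact H.mul_mem (hHn.conj_mem h hh w) (H.inv_mem hh)
        rw [hWH, Subgroup.mem_bot] at h1
        show w * h = h * w
        calc w * h = (w * h * w⁻¹ * h⁻¹) * (h * w) := by group
          _ = h * w := by rw [h1, one_mul]
      apply hG
      intro g
      refine ⟨1, ?_⟩
      rw [pow_one]
      by_cases hg : g ∈ H
      · have hwg : w * g ∉ H := fun h => hwH (by
          have := H.mul_mem h (H.inv_mem hg)
          rwa [mul_inv_cancel_right] at this)
        have h2 := hout _ hwg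
        rwa [(hcomm g hg).mul_pow, hout w hwH, one_mul] at h2
      · exact hout g hg
    · haveI := hWn
      refine ⟨Cfsg.Agent.Helper23.zjSub p true (P : Subgroup G) ⊓ H, inferInstance, inf_le_right,
        hWH, ?_⟩
      exact IsPGroup.isNilpotent (P.isPGroup'.to_le (inf_le_left.trans hWP))
  · have hPL : (P : Subgroup G) ≤ Subgroup.normalizer
        (Cfsg.Agent.Helper23.zjSub p true (P : Subgroup G) : Set G) := by
      intro x hx
      rw [Subgroup.mem_normalizer_iff]
      intro w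
      constructor
      · intro hw
        exact Cfsg.Agent.Helper23.zjSub_conj_mem (Subgroup.le_normalizer hx) hw
      · intro hw
        have := Cfsg.Agent.Helper23.zjSub_conj_mem (p := p) (e := true)
          (Subgroup.le_normalizer ((P : Subgroup G).inv_mem hx)) hw
        have h2 : x⁻¹ * (x * w * x⁻¹) * x⁻¹⁻¹ = w := by group
        rwa [h2] at this
    have hKtop : H.subgroupOf (Subgroup.normalizer
        (Cfsg.Agent.Helper23.zjSub p true (P : Subgroup G) : Set G)) ≠ ⊤ := by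
      intro h
      rw [Subgroup.subgroupOf_eq_top] at h
      exact hPH (hPL.trans h)
    have hKout : ∀ g : ↥(Subgroup.normalizer
        (Cfsg.Agent.Helper23.zjSub p true (P : Subgroup G) : Set G)),
        g ∉ H.subgroupOf (Subgroup.normalizer
        (Cfsg.Agent.Helper23.zjSub p true (P : Subgroup G) : Set G)) → g ^ p = 1 := fun g hg =>
      Subtype.ext (hout g (fun h => hg (Subgroup.mem_subgroupOf.2 h)))
    have hKnil := ih _ hL _ hKtop hKout
    have hloc := localP_of_hughes p (H.subgroupOf (Subgroup.normalizer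
        (Cfsg.Agent.Helper23.zjSub p true (P : Subgroup G) : Set G))) hKnil hKout
    have hnpcL := Cfsg.Agent.Helper1.npc_of_local hloc
    have hnpc := npc_of_zj hp2 true P hnpcL
    obtain ⟨K, k, hKn, hKcop, hKidx⟩ := Cfsg.Agent.Helper16.npc_exists hnpc
    haveI := hKn
    have hKH : K ≤ H := by
      intro g hg
      exact mem_of_coprime p H hout g (Nat.card K) hKcop (by
        have := pow_card_eq_one' (G := ↥K) (x := ⟨g, hg⟩)
        exact congrArg Subtype.val this)
    have hKbot : K ≠ ⊥ := by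
      intro h
      rw [h, Subgroup.index_bot] at hKidx
      exact hG (IsPGroup.of_card hKidx)
    obtain ⟨x, hxP, hxH⟩ : ∃ x ∈ (P : Subgroup G), x ∉ H := by
      by_contra h
      push Not at h
      exact hPH h
    have hKnil' : Group.IsNilpotent ↥K := by
      refine thompson_nilpotent (MulAut.conjNormal (H := K) x) ?_ p hp ?_
      · intro a ha
        have h1 : x * (a : G) * x⁻¹ = a := congrArg Subtype.val ha
        have h2 : (a : G) ^ Nat.card ↥K = 1 := by
          have := pow_card_eq_one' (G := ↥K) (x := a)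
          exact congrArg Subtype.val this
        exact Subtype.ext (fpf_of_out p H hout x hxH a (hKH a.2) _ hKcop h2 h1)
      · intro a
        rw [← mulAut_pow_apply, ← map_pow, hout x hxH, map_one]; rfl
    exact ⟨K, hKn, hKH, hKbot, hKnil'⟩

/-- **Kegel**: if every element outside the proper subgroup `H` has order dividing `p`,
then `H` is nilpotent. -/
theorem kegel_aux (p : ℕ) (hp : p.Prime) : ∀ (n : ℕ) (G : Type u) [Group G] [Finite G],
    Nat.card G = n → ∀ H : Subgroup G, H ≠ ⊤ → (∀ g : G, g ∉ H → g ^ p = 1) →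
    Group.IsNilpotent ↥H := by
  intro n
  induction n using Nat.strong_induction_on with
  | _ n ih =>
  intro G _ _ hn H hH hout
  haveI : Fact p.Prime := ⟨hp⟩
  by_cases hG : IsPGroup p G
  · exact IsPGroup.isNilpotent (hG.to_subgroup H)
  obtain ⟨hHn, hidx⟩ := hughes_thompson p hp hG H hH hout
  haveI := hHn
  obtain ⟨x, hxH⟩ : ∃ x : G, x ∉ H := by
    by_contra h
    push Not at h
    exact hH (eq_top_iff.2 (fun g _ => h g))
  by_cases hp2 : p = 2
  · subst hp2
    have hinv : ∀ h ∈ H, x * h * x⁻¹ = h⁻¹ := by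
      intro h hh
      have hxh : x * h ∉ H := fun h' => hxH (by
        have := H.mul_mem h' (H.inv_mem hh)
        rwa [mul_inv_cancel_right] at this)
      have h1 := hout _ hxh
      have h2 := hout x hxH
      have h3 : x⁻¹ = x := by rw [inv_eq_iff_mul_eq_one, ← sq, h2]
      rw [h3]
      rw [sq] at h1
      calc x * h * x = (x * h * (x * h)) * h⁻¹ := by group
        _ = h⁻¹ := by rw [h1, one_mul]
    have hab : ∀ a b : ↥H, a * b = b * a := by
      intro a b
      apply Subtype.ext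
      have h1 := hinv (a * b) (H.mul_mem a.2 b.2)
      have h2 := hinv a a.2
      have h3 := hinv b b.2
      have h4 : x * ((a : G) * b) * x⁻¹ = (x * a * x⁻¹) * (x * b * x⁻¹) := by group
      rw [h4, h2, h3, mul_inv_rev] at h1
      have h6 : ((a : G) * b) = ((b : G)⁻¹ * (a : G)⁻¹)⁻¹ := by group
      have h7 : ((b : G) * a) = ((a : G)⁻¹ * (b : G)⁻¹)⁻¹ := by group
      show (a : G) * b = b * a
      rw [h6, h7, h1]
    letI : CommGroup ↥H := { (inferInstance : Group ↥H) with mul_comm := hab }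
    exact CommGroup.isNilpotent
  have ihL : ∀ L : Subgroup G, L ≠ ⊤ → ∀ K : Subgroup ↥L, K ≠ ⊤ →
      (∀ g : ↥L, g ∉ K → g ^ p = 1) → Group.IsNilpotent ↥K := by
    intro L hL K hK hKout
    have hcard : Nat.card ↥L < n := by
      rw [← hn]; exact Cfsg.Agent.Helper10.card_lt_of_ne_top hL
    exact ih _ hcard ↥L rfl K hK hKout
  obtain ⟨N, hNn, hNH, hNbot, hNnil⟩ := kegel_exists_normal p hp hp2 hG H hidx hout ihL
  obtain ⟨V, ⟨hVn, hVbot, hVN⟩, hVmin⟩ := Set.exists_min_image
    {V : Subgroup G | V.Normal ∧ V ≠ ⊥ ∧ V ≤ N} (fun V => Nat.card V)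
    (Set.toFinite _) ⟨N, hNn, hNbot, le_rfl⟩
  haveI := hVn
  have hmin : ∀ V' : Subgroup G, V'.Normal → V' ≤ V → V' = ⊥ ∨ V' = V := by
    intro V' h1 h3
    by_cases h4 : V' = ⊥
    · exact Or.inl h4
    · right
      exact Subgroup.eq_of_le_of_card_ge h3 (hVmin V' ⟨h1, h4, h3.trans hVN⟩)
  have hVnil : Group.IsNilpotent ↥V := by
    haveI := hNnil
    exact Group.nilpotent_of_mulEquiv (Subgroup.subgroupOfEquivOfLe hVN)
  have hVab : ∀ x ∈ V, ∀ y ∈ V, x * y = y * x := by
    have hcomm : ⁅V, V⁆ = ⊥ := by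
      have hcn : (⁅V, V⁆).Normal := inferInstance
      rcases hmin _ hcn (Subgroup.commutator_le_right V V) with h | h
      · exact h
      · exfalso
        haveI := hVnil
        haveI : Nontrivial ↥V := (Subgroup.nontrivial_iff_ne_bot V).2 hVbot
        have h1 := Group.IsSolvable.commutator_lt_top_of_nontrivial ↥V
        have h2 : (commutator ↥V).map V.subtype = ⁅V, V⁆ := Subgroup.map_subtype_commutator V
        rw [h] at h2
        have h3 : commutator ↥V = ⊤ := by
          apply Subgroup.map_injective V.subtype_injective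
          rw [h2, ← MonoidHom.range_eq_map, Subgroup.range_subtype]
        exact h1.ne h3
    intro x hx y hy
    have := (Subgroup.commutator_eq_bot_iff_le_centralizer.1 hcomm) hx
    exact (Subgroup.mem_centralizer_iff.1 this y hy).symm
  have hVcard : 1 < Nat.card ↥V := (Subgroup.one_lt_card_iff_ne_bot V).2 hVbot
  obtain ⟨q, hq, hqV⟩ := Nat.exists_prime_and_dvd hVcard.ne'
  haveI : Fact q.Prime := ⟨hq⟩
  have hVq : ∀ x ∈ V, x ^ q = 1 := by
    let Vq : Subgroup G :=
      { carrier := {x | x ∈ V ∧ x ^ q = 1}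
        one_mem' := ⟨V.one_mem, one_pow q⟩
        mul_mem' := by
          rintro x y ⟨hx, hx'⟩ ⟨hy, hy'⟩
          refine ⟨V.mul_mem hx hy, ?_⟩
          have hc : Commute x y := hVab x hx y hy
          rw [hc.mul_pow, hx', hy', one_mul]
        inv_mem' := by
          rintro x ⟨hx, hx'⟩
          exact ⟨V.inv_mem hx, by rw [inv_pow, hx', inv_one]⟩ }
    have hVqn : Vq.Normal := ⟨fun x hx g =>
      ⟨hVn.conj_mem x hx.1 g, by rw [conj_pow, hx.2, mul_one, mul_inv_cancel]⟩⟩
    have hVqle : Vq ≤ V := fun x hx => hx.1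
    rcases hmin Vq hVqn hVqle with h | h
    · exfalso
      obtain ⟨x, hx⟩ := exists_prime_orderOf_dvd_card' (G := ↥V) q hqV
      have hxm : (x : G) ∈ Vq := ⟨x.2, by
        have := pow_orderOf_eq_one x
        rw [hx] at this
        exact congrArg Subtype.val this⟩
      rw [h, Subgroup.mem_bot] at hxm
      have : x = 1 := Subtype.ext hxm
      rw [this, orderOf_one] at hx
      exact hq.one_lt.ne hx
    · intro x hx
      have : x ∈ Vq := by rw [h]; exact hx
      exact this.2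
  have hVpg : IsPGroup q ↥V := fun x => ⟨1, by rw [pow_one]; exact Subtype.ext (hVq x x.2)⟩
  obtain ⟨b, hb⟩ := hVpg.exists_card_eq
  have hVH : V ≤ H := hVN.trans hNH
  have hcentral := kegel_central p hp H hH hout V hVH hVbot hVab q b hq hb hmin
  have hcardq : Nat.card (G ⧸ V) < n := by
    rw [← hn]; exact Cfsg.Agent.Helper10.card_quot_lt_of_ne_bot hVbot
  have hHq : H.map (QuotientGroup.mk' V) ≠ ⊤ := by
    intro h
    apply hH
    rw [eq_top_iff]
    intro g _
    have hg : (QuotientGroup.mk' V g) ∈ H.map (QuotientGroup.mk' V) := by rw [h]; trivial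
    obtain ⟨h', hh', he⟩ := hg
    have h1 : h'⁻¹ * g ∈ V := QuotientGroup.eq.1 he
    have := H.mul_mem hh' (hVH h1)
    rwa [mul_inv_cancel_left] at this
  have hqout : ∀ y : G ⧸ V, y ∉ H.map (QuotientGroup.mk' V) → y ^ p = 1 := by
    intro y hy
    induction y using QuotientGroup.induction_on with
    | H g =>
      have hg : g ∉ H := fun h => hy (Subgroup.mem_map_of_mem _ h)
      rw [← QuotientGroup.mk_pow, hout g hg]; rfl
  have hqnil : Group.IsNilpotent ↥(H.map (QuotientGroup.mk' V)) :=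
    ih _ hcardq (G ⧸ V) rfl _ hHq hqout
  haveI := hqnil
  refine Subgroup.isNilpotent_of_ker_le_center ((QuotientGroup.mk' V).subgroupMap H) ?_
  intro h hh
  rw [MonoidHom.mem_ker] at hh
  have h1 : (h : G) ∈ V := by
    have h2 : QuotientGroup.mk' V (h : G) = 1 := congrArg Subtype.val hh
    exact (QuotientGroup.eq_one_iff _).1 h2
  rw [Subgroup.mem_center_iff]
  intro g
  apply Subtype.ext
  exact hcentral g g.2 h h1

/-- **Kegel's theorem** (generalised Hughes subgroup): if every element outside the proper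
subgroup `H` of the finite group `G` satisfies `g ^ p = 1`, then `H` is nilpotent. -/
theorem kegel_nilpotent {G : Type u} [Group G] [Finite G] (p : ℕ) (hp : p.Prime)
    (H : Subgroup G) (hH : H ≠ ⊤) (hout : ∀ g : G, g ∉ H → g ^ p = 1) :
    Group.IsNilpotent ↥H :=
  kegel_aux p hp (Nat.card G) G rfl H hH hout

end Kegel

end Cfsg.Agent.Helper21
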