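-- helper21: transitivity theorem for signalizer functors, with an extra acting abelian p-group E ≥ A
import Mathlib
import Cfsg.Agent.Helper9.Transitivity
import Cfsg.Agent.S1302

set_option autoImplicit false

namespace Cfsg.Agent.Helper21.TransE

open Cfsg Cfsg.Agent.Helper9.Trans

variable {G : Type*} [Group G]

/-- `Q` is maximal among the `E`-invariant `q`-subgroups of the weak family. -/
def IsMaxE (p q : ℕ) (A E : Subgroup G) (θ : G → Subgroup G) (Q : Subgroup G) : Prop :=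
  (WF p A θ Q ∧ E ≤ Subgroup.normalizer (Q : Set G) ∧ IsPGroup q ↥Q) ∧
    ∀ R : Subgroup G, WF p A θ R → E ≤ Subgroup.normalizer (R : Set G) → IsPGroup q ↥R →
      Q ≤ R → R = Q

theorem exists_maxE [Finite G] (p q : ℕ) (A E : Subgroup G) (θ : G → Subgroup G) :
    ∀ n : ℕ, ∀ Q : Subgroup G, WF p A θ Q → E ≤ Subgroup.normalizer (Q : Set G) →
      IsPGroup q ↥Q →
      Nat.card G - Nat.card ↥Q = n → ∃ Q' : Subgroup G, Q ≤ Q' ∧ IsMaxE p q A E θ Q' := by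
  intro n
  induction n using Nat.strong_induction_on with
  | _ n ih =>
    intro Q hQ hQE hQq hn
    by_cases h : ∃ R : Subgroup G, WF p A θ R ∧ E ≤ Subgroup.normalizer (R : Set G) ∧
        IsPGroup q ↥R ∧ Q ≤ R ∧ R ≠ Q
    · obtain ⟨R, hR, hRE, hRq, hQR, hne⟩ := h
      have hc : Nat.card ↥Q < Nat.card ↥R := by
        by_contra hcon
        exact hne (Subgroup.eq_of_le_of_card_ge hQR (not_lt.mp hcon)).symm
      have hRG : Nat.card ↥R ≤ Nat.card G :=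
        Nat.le_of_dvd Nat.card_pos (Subgroup.card_subgroup_dvd_card R)
      obtain ⟨Q', hRQ', hmax⟩ := ih (Nat.card G - Nat.card ↥R) (by omega) R hR hRE hRq rfl
      exact ⟨Q', hQR.trans hRQ', hmax⟩
    · refine ⟨Q, le_rfl, ⟨hQ, hQE, hQq⟩, fun R hR hRE hRq hQR => ?_⟩
      by_contra hne
      exact h ⟨R, hR, hRE, hRq, hQR, hne⟩

theorem norm_conj [Finite G] (E Q : Subgroup G) (c : G)
    (hc : c ∈ Subgroup.centralizer (E : Set G)) (h : E ≤ Subgroup.normalizer (Q : Set G)) :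
    E ≤ Subgroup.normalizer ((Q.map (MulAut.conj c).toMonoidHom : Subgroup G) : Set G) := by
  intro e he
  apply Cfsg.Agent.Helper9.mem_normalizer_of_conj_le
  intro u hu
  rw [Cfsg.Agent.Helper14.mem_map_conj] at hu ⊢
  have hce : e * c = c * e := Subgroup.mem_centralizer_iff.mp hc e he
  have h1 : e * (c⁻¹ * u * c) * e⁻¹ ∈ Q := (Subgroup.mem_normalizer_iff.mp (h he) _).mp hu
  have h2 : c⁻¹ * e = e * c⁻¹ := by
    calc c⁻¹ * e = c⁻¹ * (e * c) * c⁻¹ := by group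
      _ = c⁻¹ * (c * e) * c⁻¹ := by rw [hce]
      _ = e * c⁻¹ := by group
  have h3 : e⁻¹ * c = c * e⁻¹ := by
    calc e⁻¹ * c = e⁻¹ * (c * e) * e⁻¹ := by group
      _ = e⁻¹ * (e * c) * e⁻¹ := by rw [hce]
      _ = c * e⁻¹ := by group
  have e1 : c⁻¹ * (e * u * e⁻¹) * c = e * (c⁻¹ * u * c) * e⁻¹ := by
    calc c⁻¹ * (e * u * e⁻¹) * c = (c⁻¹ * e) * u * (e⁻¹ * c) := by group
      _ = (e * c⁻¹) * u * (c * e⁻¹) := by rw [h2, h3]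
      _ = e * (c⁻¹ * u * c) * e⁻¹ := by group
  rw [e1]; exact h1

theorem maxE_conj [Finite G] {p q : ℕ} [Fact q.Prime] {A E : Subgroup G} {θ : G → Subgroup G}
    (hθ : Cfsg.IsSignalizerFunctor p A θ) {Q : Subgroup G} (h : IsMaxE p q A E θ Q) (c : G)
    (hc : c ∈ Cfsg.signalizerInf A θ) (hcE : c ∈ Subgroup.centralizer (E : Set G)) :
    IsMaxE p q A E θ (Q.map (MulAut.conj c).toMonoidHom) := by
  obtain ⟨⟨hQ, hQE, hQq⟩, hmax⟩ := h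
  have hq' : IsPGroup q ↥(Q.map (MulAut.conj c).toMonoidHom) := hQq.map _
  refine ⟨⟨wf_conj hθ hQ c hc, norm_conj E Q c hcE hQE, hq'⟩, ?_⟩
  intro R hR hRE hRq hle
  have hc' : c⁻¹ ∈ Cfsg.signalizerInf A θ := inv_mem hc
  have hcE' : c⁻¹ ∈ Subgroup.centralizer (E : Set G) := inv_mem hcE
  have hR'q : IsPGroup q ↥(R.map (MulAut.conj c⁻¹).toMonoidHom) := hRq.map _
  have hR' := wf_conj hθ hR c⁻¹ hc'
  have hle' : Q ≤ R.map (MulAut.conj c⁻¹).toMonoidHom := by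
    intro x hx
    rw [Cfsg.Agent.Helper14.mem_map_conj]
    apply hle
    rw [Cfsg.Agent.Helper14.mem_map_conj]
    have e : c⁻¹ * (c⁻¹⁻¹ * x * c⁻¹) * c = x := by group
    rw [e]; exact hx
  have h1 := hmax _ hR' (norm_conj E R c⁻¹ hcE' hRE) hR'q hle'
  ext x
  rw [Cfsg.Agent.Helper14.mem_map_conj, ← h1, Cfsg.Agent.Helper14.mem_map_conj]
  have e : c⁻¹⁻¹ * (c⁻¹ * x * c) * c⁻¹ = x := by group
  rw [e]

theorem stepE [Finite G] (p : ℕ) [Fact p.Prime] (A E : Subgroup G)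
    (hA : Cfsg.IsElementaryAbelian p A) (hA3 : p ^ 3 ≤ Nat.card ↥A) (hEp : IsPGroup p ↥E)
    (hAE : A ≤ E) (θ : G → Subgroup G)
    (hθ : Cfsg.IsSignalizerFunctor p A θ)
    (hθE : ∀ a ∈ A, a ≠ 1 → E ≤ Subgroup.normalizer (θ a : Set G))
    (q : ℕ) [Fact q.Prime] (Q₁ Q₂ : Subgroup G)
    (h₁ : IsMaxE p q A E θ Q₁) (h₂ : IsMaxE p q A E θ Q₂) (hne : Q₁ ≠ Q₂) :
    ∃ c ∈ Cfsg.signalizerInf A θ ⊓ Subgroup.centralizer (E : Set G), ∃ Q₃ : Subgroup G,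
      IsMaxE p q A E θ Q₃ ∧
      Nat.card ↥(Q₁ ⊓ Q₂) < Nat.card ↥(Q₁ ⊓ Q₃) ∧
      Nat.card ↥(Q₁ ⊓ Q₂) < Nat.card ↥(Q₃.map (MulAut.conj c).toMonoidHom ⊓ Q₂) := by
  classical
  have hp : p.Prime := Fact.out
  obtain ⟨⟨hw₁, hE₁, hQ₁q⟩, hmax₁⟩ := h₁
  obtain ⟨⟨hw₂, hE₂, hQ₂q⟩, hmax₂⟩ := h₂
  obtain ⟨D, hD⟩ : ∃ D : Subgroup G, D = Q₁ ⊓ Q₂ := ⟨_, rfl⟩
  rw [← hD]
  have hD₁ : D ≤ Q₁ := by rw [hD]; exact inf_le_left
  have hD₂ : D ≤ Q₂ := by rw [hD]; exact inf_le_right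
  have hDinv : ∀ b ∈ A, ∀ u ∈ D, b * u * b⁻¹ ∈ D := by
    intro b hb u hu
    rw [hD] at hu ⊢
    exact Subgroup.mem_inf.mpr ⟨hw₁.2.1 b hb u hu.1, hw₂.2.1 b hb u hu.2⟩
  have hDE : E ≤ Subgroup.normalizer (D : Set G) := by
    intro e he
    rw [hD]
    exact Cfsg.Agent.Helper14.mem_normalizer_inf _ _ e (hE₁ he) (hE₂ he)
  have hDw : WF p A θ D := wf_sub hw₁ hD₁ hDinv
  have hDne₁ : D ≠ Q₁ := by
    intro h
    have h1 : Q₁ ≤ Q₂ := by rw [← h]; exact hD₂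
    exact hne (hmax₁ Q₂ hw₂ hE₂ hQ₂q h1).symm
  have hDne₂ : D ≠ Q₂ := by
    intro h
    have h1 : Q₂ ≤ Q₁ := by rw [← h]; exact hD₁
    exact hne (hmax₂ Q₁ hw₁ hE₁ hQ₁q h1)
  have hAD : A ≤ Subgroup.normalizer (D : Set G) := fun b hb => hDE (hAE hb)
  have hpp : p ^ 2 ≤ Nat.card ↥A := le_trans (Nat.pow_le_pow_right hp.pos (by norm_num)) hA3
  have hN : ∀ Q : Subgroup G, WF p A θ Q → ∀ y ∈ Q, y ∈ Subgroup.normalizer (D : Set G) →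
      y ∉ D → ∃ B : Subgroup G, B ≤ A ∧ B.relIndex A ≤ p ∧
        ∃ x ∈ Q ⊓ Subgroup.normalizer (D : Set G), x ∈ Subgroup.centralizer (B : Set G) ∧
          x ∉ D := by
    intro Q hw y hyQ hyN hyD
    apply exists_hyp p A hA hpp (Q ⊓ Subgroup.normalizer (D : Set G)) D
    · exact fun hd => hw.1 (hd.trans (Subgroup.card_dvd_of_le inf_le_left))
    · intro b hb
      apply Cfsg.Agent.Helper9.mem_normalizer_of_conj_le
      intro u hu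
      obtain ⟨hu1, hu2⟩ := Subgroup.mem_inf.mp hu
      exact Subgroup.mem_inf.mpr ⟨hw.2.1 b hb u hu1,
        mul_mem (mul_mem (hAD hb) hu2) (inv_mem (hAD hb))⟩
    · intro hle
      exact hyD (hle (Subgroup.mem_inf.mpr ⟨hyQ, hyN⟩))
  obtain ⟨y₁, hy₁Q, hy₁N, hy₁D⟩ := exists_normalizer_not_mem Q₁ D hQ₁q hD₁ hDne₁
  obtain ⟨y₂, hy₂Q, hy₂N, hy₂D⟩ := exists_normalizer_not_mem Q₂ D hQ₂q hD₂ hDne₂
  obtain ⟨B₁, hB₁A, hB₁i, x₁, hx₁N, hx₁C, hx₁D⟩ := hN Q₁ hw₁ y₁ hy₁Q hy₁N hy₁D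
  obtain ⟨B₂, hB₂A, hB₂i, x₂, hx₂N, hx₂C, hx₂D⟩ := hN Q₂ hw₂ y₂ hy₂Q hy₂N hy₂D
  have hBB : B₁ ⊓ B₂ ≠ ⊥ := by
    intro h
    have h1 := Subgroup.relIndex_inf_le (H := B₁) (K := B₂) (L := A)
    rw [h, Subgroup.relIndex_bot_left] at h1
    have h2 : B₁.relIndex A * B₂.relIndex A ≤ p * p := Nat.mul_le_mul hB₁i hB₂i
    have h3 : p * p < p ^ 3 := by
      have h4 : p ^ 2 < p ^ 3 := Nat.pow_lt_pow_right hp.one_lt (by norm_num)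
      rw [sq] at h4
      exact h4
    omega
  obtain ⟨a, haB, ha1⟩ : ∃ a ∈ B₁ ⊓ B₂, a ≠ 1 := by
    by_contra hcon
    push_neg at hcon
    exact hBB ((Subgroup.eq_bot_iff_forall _).mpr hcon)
  have haA : a ∈ A := hB₁A (Subgroup.mem_inf.mp haB).1
  have hxθ : ∀ (Q B : Subgroup G) (x : G), WF p A θ Q → x ∈ Q → a ∈ B →
      x ∈ Subgroup.centralizer (B : Set G) → x ∈ θ a := by
    intro Q B x hw hxQ haB' hxC
    apply hw.2.2 a haA ha1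
    refine Subgroup.mem_inf.mpr ⟨hxQ, ?_⟩
    rw [Subgroup.mem_centralizer_iff]
    intro z hz
    rw [Set.mem_singleton_iff] at hz
    rw [hz]
    exact Subgroup.mem_centralizer_iff.mp hxC a haB'
  have hHw := wf_sup hA hθ D hDw a haA ha1
  obtain ⟨Hh, hHh⟩ : ∃ Hh : Subgroup G,
      Hh = D ⊔ (θ a ⊓ Subgroup.normalizer (D : Set G)) := ⟨_, rfl⟩
  rw [← hHh] at hHw
  have hDH : D ≤ Hh := by rw [hHh]; exact le_sup_left
  have hx₁Q : x₁ ∈ Q₁ := (Subgroup.mem_inf.mp hx₁N).1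
  have hx₂Q : x₂ ∈ Q₂ := (Subgroup.mem_inf.mp hx₂N).1
  have hx₁H : x₁ ∈ Hh := by
    rw [hHh]
    exact Subgroup.mem_sup_right (Subgroup.mem_inf.mpr
      ⟨hxθ Q₁ B₁ x₁ hw₁ hx₁Q (Subgroup.mem_inf.mp haB).1 hx₁C, (Subgroup.mem_inf.mp hx₁N).2⟩)
  have hx₂H : x₂ ∈ Hh := by
    rw [hHh]
    exact Subgroup.mem_sup_right (Subgroup.mem_inf.mpr
      ⟨hxθ Q₂ B₂ x₂ hw₂ hx₂Q (Subgroup.mem_inf.mp haB).2 hx₂C, (Subgroup.mem_inf.mp hx₂N).2⟩)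
  have hEH : E ≤ Subgroup.normalizer (Hh : Set G) := by
    intro e he
    rw [hHh]
    apply Cfsg.Agent.S1302.mem_normalizer_sup _ _ e (hDE he)
    apply Cfsg.Agent.Helper14.mem_normalizer_inf _ _ e (hθE a haA ha1 he)
    exact Subgroup.le_normalizer (hDE he)
  have hU : ∀ (Q : Subgroup G), E ≤ Subgroup.normalizer (Q : Set G) →
      E ≤ Subgroup.normalizer ((Q ⊓ Hh : Subgroup G) : Set G) :=
    fun Q hQE e he => Cfsg.Agent.Helper14.mem_normalizer_inf _ _ e (hQE he) (hEH he)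
  have hEsol : Group.IsSolvable ↥E := by
    haveI : Group.IsNilpotent ↥E := hEp.isNilpotent
    exact inferInstance
  have hcop : (Nat.card ↥E).Coprime (Nat.card ↥Hh) := by
    obtain ⟨m, hm⟩ := IsPGroup.iff_card.1 hEp
    rw [hm]
    exact Nat.Coprime.pow_left m ((Nat.Prime.coprime_iff_not_dvd hp).2 hHw.1)
  obtain ⟨P₁, hUP₁, hAP₁⟩ := Cfsg.Agent.S0025.result E Hh hEH hcop (Or.inl hEsol) q
    (Q₁ ⊓ Hh) inf_le_right (hQ₁q.to_le inf_le_left) (hU Q₁ hE₁)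
  obtain ⟨P₂, hUP₂, hAP₂⟩ := Cfsg.Agent.S0025.result E Hh hEH hcop (Or.inl hEsol) q
    (Q₂ ⊓ Hh) inf_le_right (hQ₂q.to_le inf_le_left) (hU Q₂ hE₂)
  obtain ⟨c, hcE, hcP⟩ := Cfsg.Agent.S0024.result E Hh hEH hcop (Or.inl hEsol) q P₁ P₂ hAP₁ hAP₂
  have hcA : (c : G) ∈ Subgroup.centralizer (A : Set G) :=
    Subgroup.centralizer_le hAE hcE
  have hcI : (c : G) ∈ Cfsg.signalizerInf A θ := wf_cent_le hHw (c : G) c.2 hcA
  obtain ⟨R₁, hR₁⟩ : ∃ R₁ : Subgroup G, R₁ = (P₁ : Subgroup ↥Hh).map Hh.subtype := ⟨_, rfl⟩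
  rw [← hR₁] at hUP₁ hAP₁
  have hR₁H : R₁ ≤ Hh := by rw [hR₁]; rintro _ ⟨x, -, rfl⟩; exact x.2
  have hR₁q : IsPGroup q ↥R₁ := by rw [hR₁]; exact P₁.isPGroup'.map _
  have hR₁inv : ∀ b ∈ A, ∀ u ∈ R₁, b * u * b⁻¹ ∈ R₁ := fun b hb u hu =>
    (Subgroup.mem_normalizer_iff.mp (hAP₁ (hAE hb)) u).mp hu
  have hR₁w : WF p A θ R₁ := wf_sub hHw hR₁H hR₁inv
  obtain ⟨Q₃, hRQ₃, hQ₃⟩ := exists_maxE p q A E θ _ R₁ hR₁w hAP₁ hR₁q rfl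
  refine ⟨(c : G), Subgroup.mem_inf.mpr ⟨hcI, hcE⟩, Q₃, hQ₃, ?_, ?_⟩
  · apply card_lt_of_mem D (Q₁ ⊓ Q₃) x₁
    · exact le_inf hD₁ (fun d hd => hRQ₃ (hUP₁ (Subgroup.mem_inf.mpr ⟨hD₁ hd, hDH hd⟩)))
    · exact Subgroup.mem_inf.mpr ⟨hx₁Q, hRQ₃ (hUP₁ (Subgroup.mem_inf.mpr ⟨hx₁Q, hx₁H⟩))⟩
    · exact hx₁D
  · have hR₂ : ∀ u ∈ (P₂ : Subgroup ↥Hh).map Hh.subtype,
        u ∈ Q₃.map (MulAut.conj (c : G)).toMonoidHom := by
      rintro _ ⟨v, hv, rfl⟩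
      rw [Cfsg.Agent.Helper14.mem_map_conj]
      apply hRQ₃
      rw [hR₁]
      have hv' : v ∈ ((MulAut.conj c • P₁ : Sylow q ↥Hh) : Subgroup ↥Hh) := by
        rw [hcP]; exact hv
      rw [Sylow.pointwise_smul_def, Subgroup.mem_pointwise_smul_iff_inv_smul_mem,
        MulAut.smul_def, MulAut.conj_inv_apply] at hv'
      exact ⟨c⁻¹ * v * c, hv', rfl⟩
    apply card_lt_of_mem D (Q₃.map (MulAut.conj (c : G)).toMonoidHom ⊓ Q₂) x₂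
    · exact le_inf (fun d hd => hR₂ d (hUP₂ (Subgroup.mem_inf.mpr ⟨hD₂ hd, hDH hd⟩))) hD₂
    · exact Subgroup.mem_inf.mpr ⟨hR₂ x₂ (hUP₂ (Subgroup.mem_inf.mpr ⟨hx₂Q, hx₂H⟩)), hx₂Q⟩
    · exact hx₂D

theorem trans_auxE [Finite G] (p : ℕ) [Fact p.Prime] (A E : Subgroup G)
    (hA : Cfsg.IsElementaryAbelian p A) (hA3 : p ^ 3 ≤ Nat.card ↥A) (hEp : IsPGroup p ↥E)
    (hAE : A ≤ E) (θ : G → Subgroup G)
    (hθ : Cfsg.IsSignalizerFunctor p A θ)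
    (hθE : ∀ a ∈ A, a ≠ 1 → E ≤ Subgroup.normalizer (θ a : Set G))
    (q : ℕ) [Fact q.Prime] :
    ∀ n : ℕ, ∀ Q₁ Q₂ : Subgroup G, IsMaxE p q A E θ Q₁ → IsMaxE p q A E θ Q₂ →
      Nat.card G - Nat.card ↥(Q₁ ⊓ Q₂) = n →
      ∃ c ∈ Cfsg.signalizerInf A θ ⊓ Subgroup.centralizer (E : Set G),
        Q₁.map (MulAut.conj c).toMonoidHom = Q₂ := by
  intro n
  induction n using Nat.strong_induction_on with
  | _ n ih =>
    intro Q₁ Q₂ h₁ h₂ hn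
    by_cases hne : Q₁ = Q₂
    · refine ⟨1, one_mem _, ?_⟩
      rw [hne]
      ext x
      rw [Cfsg.Agent.Helper14.mem_map_conj]
      simp
    · obtain ⟨c, hc, Q₃, h₃, hlt1, hlt2⟩ := stepE p A E hA hA3 hEp hAE θ hθ hθE q Q₁ Q₂ h₁ h₂ hne
      have hb1 : Nat.card ↥(Q₁ ⊓ Q₃) ≤ Nat.card G :=
        Nat.le_of_dvd Nat.card_pos (Subgroup.card_subgroup_dvd_card _)
      have hb2 : Nat.card ↥(Q₃.map (MulAut.conj c).toMonoidHom ⊓ Q₂) ≤ Nat.card G :=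
        Nat.le_of_dvd Nat.card_pos (Subgroup.card_subgroup_dvd_card _)
      obtain ⟨c₁, hc₁, e₁⟩ := ih (Nat.card G - Nat.card ↥(Q₁ ⊓ Q₃)) (by omega) Q₁ Q₃ h₁ h₃ rfl
      have h₃' : IsMaxE p q A E θ (Q₃.map (MulAut.conj c).toMonoidHom) :=
        maxE_conj hθ h₃ c (Subgroup.mem_inf.mp hc).1 (Subgroup.mem_inf.mp hc).2
      obtain ⟨c₂, hc₂, e₂⟩ :=
        ih (Nat.card G - Nat.card ↥(Q₃.map (MulAut.conj c).toMonoidHom ⊓ Q₂)) (by omega) _ Q₂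
          h₃' h₂ rfl
      refine ⟨c₂ * c * c₁, mul_mem (mul_mem hc₂ hc) hc₁, ?_⟩
      rw [← e₂, ← e₁]
      ext x
      simp only [Cfsg.Agent.Helper14.mem_map_conj]
      have e : (c₂ * c * c₁)⁻¹ * x * (c₂ * c * c₁)
          = c₁⁻¹ * (c⁻¹ * (c₂⁻¹ * x * c₂) * c) * c₁ := by group
      rw [e]

/-- Transitivity with an extra acting group: `θ(C_G(A)) ∩ C_G(E)` is transitive on the maximal
`E`-invariant `q`-subgroups of the (weak) family. -/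
theorem transitivityE [Finite G] (p : ℕ) [Fact p.Prime] (A E : Subgroup G)
    (hA : Cfsg.IsElementaryAbelian p A) (hA3 : p ^ 3 ≤ Nat.card ↥A) (hEp : IsPGroup p ↥E)
    (hAE : A ≤ E) (θ : G → Subgroup G)
    (hθ : Cfsg.IsSignalizerFunctor p A θ)
    (hθE : ∀ a ∈ A, a ≠ 1 → E ≤ Subgroup.normalizer (θ a : Set G))
    (q : ℕ) [Fact q.Prime] (Q₁ Q₂ : Subgroup G)
    (h₁ : IsMaxE p q A E θ Q₁) (h₂ : IsMaxE p q A E θ Q₂) :
    ∃ c ∈ Cfsg.signalizerInf A θ ⊓ Subgroup.centralizer (E : Set G),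
      Q₁.map (MulAut.conj c).toMonoidHom = Q₂ :=
  trans_auxE p A E hA hA3 hEp hAE θ hθ hθE q _ Q₁ Q₂ h₁ h₂ rfl

end Cfsg.Agent.Helper21.TransE
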