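-- helper21: transitivity theorems under the transitivity hypothesis (minimal simple groups of odd order)
import Mathlib
import Cfsg.Prelude.Def_OddOrderLocal
import Cfsg.Prelude.Def_OddOrder
import Cfsg.Agent.Helper21.TransE
import Cfsg.Agent.Helper10.PiCore

set_option autoImplicit false

namespace Cfsg.Agent.Helper21.TransHyp

open Cfsg

variable {G : Type*} [Group G]

theorem pco_le (π : Set ℕ) (X : Subgroup G) : Cfsg.piCoreOf π X ≤ X := by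
  rintro _ ⟨y, -, rfl⟩
  exact y.2

theorem pco_conj (π : Set ℕ) (X : Subgroup G) (x : G) (hx : x ∈ X) :
    ∀ y ∈ Cfsg.piCoreOf π X, x * y * x⁻¹ ∈ Cfsg.piCoreOf π X := by
  rintro _ ⟨y, hy, rfl⟩
  have hn : (Cfsg.piCore π ↥X).Normal := Cfsg.piCore_normal π ↥X
  exact ⟨⟨x, hx⟩ * y * ⟨x, hx⟩⁻¹, hn.conj_mem y hy ⟨x, hx⟩, rfl⟩

theorem pco_norm (π : Set ℕ) (X : Subgroup G) (x : G) (hx : x ∈ X) :
    x ∈ Subgroup.normalizer (Cfsg.piCoreOf π X : Set G) := by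
  apply Cfsg.Agent.Helper14.mem_normalizer_of_forall _ x (pco_conj π X x hx)
  intro y hy
  have := pco_conj π X x⁻¹ (inv_mem hx) y hy
  rwa [inv_inv] at this

theorem pco_isPi [Finite G] (π : Set ℕ) (X : Subgroup G) :
    ∀ r : ℕ, r.Prime → r ∣ Nat.card ↥(Cfsg.piCoreOf π X) → r ∈ π := by
  intro r hr hd
  unfold Cfsg.piCoreOf at hd
  rw [Subgroup.card_map_of_injective (Subgroup.subtype_injective _)] at hd
  exact Cfsg.Agent.Helper10.piCore_isPi π r hr hd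

theorem le_pco (π : Set ℕ) (X N : Subgroup G) (hNX : N ≤ X)
    (hnorm : ∀ x ∈ X, ∀ n ∈ N, x * n * x⁻¹ ∈ N)
    (hπ : ∀ r : ℕ, r.Prime → r ∣ Nat.card ↥N → r ∈ π) : N ≤ Cfsg.piCoreOf π X := by
  have hnormal : (N.subgroupOf X).Normal := by
    refine ⟨fun w hw c => ?_⟩
    rw [Subgroup.mem_subgroupOf] at hw ⊢
    exact hnorm c c.2 _ hw
  have hπ' : ∀ r : ℕ, r.Prime → r ∣ Nat.card ↥(N.subgroupOf X) → r ∈ π := by
    intro r hr hd
    rw [Nat.card_congr (Subgroup.subgroupOfEquivOfLe hNX).toEquiv] at hd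
    exact hπ r hr hd
  have hle : N.subgroupOf X ≤ Cfsg.piCore π ↥X := le_sSup ⟨hnormal, hπ'⟩
  intro n hn
  exact ⟨⟨n, hNX hn⟩, hle (Subgroup.mem_subgroupOf.mpr hn), rfl⟩

theorem pco_coprime [Finite G] (A X : Subgroup G) :
    (Nat.card ↥A).Coprime (Nat.card ↥(Cfsg.piCoreOf (Cfsg.primesNotDvd (Nat.card ↥A)) X)) := by
  by_contra hcon
  obtain ⟨r, hr, h1, h2⟩ := Nat.Prime.not_coprime_iff_dvd.mp hcon
  exact (pco_isPi _ X r hr h2).2 h1

theorem qpi (A : Subgroup G) (q : ℕ) (hq : q.Prime) (hqA : ¬ q ∣ Nat.card ↥A) (Y : Subgroup G)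
    (hY : IsPGroup q ↥Y) [Finite G] :
    ∀ r : ℕ, r.Prime → r ∣ Nat.card ↥Y → r ∈ Cfsg.primesNotDvd (Nat.card ↥A) := by
  intro r hr hd
  haveI : Fact q.Prime := ⟨hq⟩
  obtain ⟨k, hk⟩ := IsPGroup.iff_card.1 hY
  rw [hk] at hd
  have : r = q := (Nat.prime_dvd_prime_iff_eq hr hq).mp (hr.dvd_of_dvd_pow hd)
  rw [this]
  exact ⟨hq, hqA⟩

theorem inv_le {A : Subgroup G} (hA : Cfsg.TransitivityHypothesis A) (X : Subgroup G)
    (hX : X ≠ ⊤) (hAX : A ≤ X) (Y : Subgroup G) (hYX : Y ≤ X)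
    (hYπ : ∀ r : ℕ, r.Prime → r ∣ Nat.card ↥Y → r ∈ Cfsg.primesNotDvd (Nat.card ↥A))
    (hAY : A ≤ Subgroup.normalizer (Y : Set G)) :
    Y ≤ Cfsg.piCoreOf (Cfsg.primesNotDvd (Nat.card ↥A)) X := by
  rw [← hA.2.2 X hX hAX]
  exact le_sSup ⟨hYX, hYπ, hAY⟩

theorem normalizer_ne_top [Finite G] (hG : Cfsg.IsMinSimpleOddOrder G) (D : Subgroup G)
    (hD1 : D ≠ ⊥) (hD2 : D ≠ ⊤) : Subgroup.normalizer (D : Set G) ≠ ⊤ := by
  intro h
  haveI := hG.2.1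
  have hn : D.Normal := Subgroup.normalizer_eq_top_iff.mp h
  rcases hn.eq_bot_or_eq_top with h1 | h1
  · exact hD1 h1
  · exact hD2 h1

theorem cent_le_K [Finite G] (hG : Cfsg.IsMinSimpleOddOrder G) {A : Subgroup G}
    (hA : Cfsg.TransitivityHypothesis A) (X : Subgroup G) (hX : X ≠ ⊤) (hAX : A ≤ X) :
    Cfsg.piCoreOf (Cfsg.primesNotDvd (Nat.card ↥A)) X ⊓ Subgroup.centralizer (A : Set G) ≤
      Cfsg.piCoreOf (Cfsg.primesNotDvd (Nat.card ↥A)) (Subgroup.centralizer (A : Set G)) := by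
  have hN := normalizer_ne_top hG A hA.1 hA.2.1
  have hCN : Subgroup.centralizer (A : Set G) ≤ Subgroup.normalizer (A : Set G) :=
    Subgroup.centralizer_le_normalizer _
  have h1 : Cfsg.piCoreOf (Cfsg.primesNotDvd (Nat.card ↥A)) X ⊓ Subgroup.centralizer (A : Set G) ≤
      Cfsg.piCoreOf (Cfsg.primesNotDvd (Nat.card ↥A)) (Subgroup.normalizer (A : Set G)) := by
    apply inv_le hA _ hN Subgroup.le_normalizer _ (inf_le_right.trans hCN)
    · intro r hr hd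
      exact pco_isPi _ X r hr (hd.trans (Subgroup.card_dvd_of_le inf_le_left))
    · intro a ha
      apply Cfsg.Agent.Helper9.mem_normalizer_of_conj_le
      intro y hy
      have hya : a * y = y * a := Subgroup.mem_centralizer_iff.mp (Subgroup.mem_inf.mp hy).2 a ha
      have e : a * y * a⁻¹ = y := by rw [hya]; group
      rw [e]; exact hy
  have h2 : Cfsg.piCoreOf (Cfsg.primesNotDvd (Nat.card ↥A)) (Subgroup.normalizer (A : Set G)) ⊓ Subgroup.centralizer (A : Set G) ≤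
      Cfsg.piCoreOf (Cfsg.primesNotDvd (Nat.card ↥A)) (Subgroup.centralizer (A : Set G)) := by
    apply le_pco _ _ _ inf_le_right
    · intro x hx n hn
      refine Subgroup.mem_inf.mpr ⟨pco_conj _ _ x (hCN hx) n (Subgroup.mem_inf.mp hn).1, ?_⟩
      exact mul_mem (mul_mem hx (Subgroup.mem_inf.mp hn).2) (inv_mem hx)
    · intro r hr hd
      exact pco_isPi _ _ r hr (hd.trans (Subgroup.card_dvd_of_le inf_le_left))
  exact (le_inf h1 inf_le_right).trans h2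

theorem sylow_step [Finite G] {A : Subgroup G} (hA : Cfsg.TransitivityHypothesis A)
    (hAsol : Group.IsSolvable ↥A) (X : Subgroup G) (hX : X ≠ ⊤) (hAX : A ≤ X)
    (q : ℕ) [Fact q.Prime] (hqA : ¬ q ∣ Nat.card ↥A) (R₁ R₂ : Subgroup G)
    (hR₁X : R₁ ≤ X) (hR₂X : R₂ ≤ X) (hR₁q : IsPGroup q ↥R₁) (hR₂q : IsPGroup q ↥R₂)
    (hAR₁ : A ≤ Subgroup.normalizer (R₁ : Set G)) (hAR₂ : A ≤ Subgroup.normalizer (R₂ : Set G)) :
    ∃ S : Subgroup G, IsPGroup q ↥S ∧ A ≤ Subgroup.normalizer (S : Set G) ∧ R₁ ≤ S ∧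
      ∃ c ∈ Cfsg.piCoreOf (Cfsg.primesNotDvd (Nat.card ↥A)) X ⊓ Subgroup.centralizer (A : Set G),
        R₂ ≤ S.map (MulAut.conj c).toMonoidHom := by
  have hq : q.Prime := Fact.out
  obtain ⟨L, hL⟩ : ∃ L : Subgroup G, L = Cfsg.piCoreOf (Cfsg.primesNotDvd (Nat.card ↥A)) X :=
    ⟨_, rfl⟩
  rw [← hL]
  have hAL : A ≤ Subgroup.normalizer (L : Set G) := by
    intro a ha; rw [hL]; exact pco_norm _ X a (hAX ha)
  have hcop : (Nat.card ↥A).Coprime (Nat.card ↥L) := by rw [hL]; exact pco_coprime A X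
  have hR₁L : R₁ ≤ L := by
    rw [hL]; exact inv_le hA X hX hAX R₁ hR₁X (qpi A q hq hqA R₁ hR₁q) hAR₁
  have hR₂L : R₂ ≤ L := by
    rw [hL]; exact inv_le hA X hX hAX R₂ hR₂X (qpi A q hq hqA R₂ hR₂q) hAR₂
  obtain ⟨P₁, hUP₁, hAP₁⟩ := Cfsg.Agent.S0025.result A L hAL hcop (Or.inl hAsol) q R₁ hR₁L hR₁q hAR₁
  obtain ⟨P₂, hUP₂, hAP₂⟩ := Cfsg.Agent.S0025.result A L hAL hcop (Or.inl hAsol) q R₂ hR₂L hR₂q hAR₂
  obtain ⟨c, hcA, hcP⟩ := Cfsg.Agent.S0024.result A L hAL hcop (Or.inl hAsol) q P₁ P₂ hAP₁ hAP₂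
  refine ⟨(P₁ : Subgroup ↥L).map L.subtype, P₁.isPGroup'.map _, hAP₁, hUP₁, (c : G),
    Subgroup.mem_inf.mpr ⟨c.2, hcA⟩, ?_⟩
  intro u hu
  obtain ⟨v, hv, rfl⟩ := hUP₂ hu
  rw [Cfsg.Agent.Helper14.mem_map_conj]
  have hv' : v ∈ ((MulAut.conj c • P₁ : Sylow q ↥L) : Subgroup ↥L) := by
    rw [hcP]; exact hv
  rw [Sylow.pointwise_smul_def, Subgroup.mem_pointwise_smul_iff_inv_smul_mem,
    MulAut.smul_def, MulAut.conj_inv_apply] at hv'
  exact ⟨c⁻¹ * v * c, hv', rfl⟩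

theorem max_conj [Finite G] {A : Subgroup G} {q : ℕ} {Q : Subgroup G}
    (h : Q ∈ Cfsg.maxInvSubgroups ⊤ A {q}) (k : G) (hk : k ∈ Subgroup.centralizer (A : Set G)) :
    Q.map (MulAut.conj k).toMonoidHom ∈ Cfsg.maxInvSubgroups ⊤ A {q} := by
  obtain ⟨⟨-, hQπ, hQA⟩, hmax⟩ := h
  refine ⟨⟨le_top, ?_, Cfsg.Agent.Helper21.TransE.norm_conj A Q k hk hQA⟩, ?_⟩
  · intro r hr hd
    rw [Subgroup.card_map_of_injective (MulAut.conj k).injective] at hd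
    exact hQπ r hr hd
  · rintro R ⟨-, hRπ, hRA⟩ hle
    have hk' : k⁻¹ ∈ Subgroup.centralizer (A : Set G) := inv_mem hk
    have hR' : R.map (MulAut.conj k⁻¹).toMonoidHom ∈ Cfsg.invSubgroups ⊤ A {q} := by
      refine ⟨le_top, ?_, Cfsg.Agent.Helper21.TransE.norm_conj A R k⁻¹ hk' hRA⟩
      intro r hr hd
      rw [Subgroup.card_map_of_injective (MulAut.conj k⁻¹).injective] at hd
      exact hRπ r hr hd
    have hle' : Q ≤ R.map (MulAut.conj k⁻¹).toMonoidHom := by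
      intro x hx
      rw [Cfsg.Agent.Helper14.mem_map_conj]
      apply hle
      rw [Cfsg.Agent.Helper14.mem_map_conj]
      have e : k⁻¹ * (k⁻¹⁻¹ * x * k⁻¹) * k = x := by group
      rw [e]; exact hx
    have h1 := hmax _ hR' hle'
    ext x
    rw [Cfsg.Agent.Helper14.mem_map_conj, ← h1, Cfsg.Agent.Helper14.mem_map_conj]
    have e : k⁻¹⁻¹ * (k⁻¹ * x * k) * k⁻¹ = x := by group
    rw [e]

theorem exists_max [Finite G] (A : Subgroup G) (q : ℕ) (R : Subgroup G)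
    (hR : R ∈ Cfsg.invSubgroups ⊤ A {q}) :
    ∃ Q ∈ Cfsg.maxInvSubgroups ⊤ A {q}, R ≤ Q := by
  obtain ⟨Q, hRQ, hQ⟩ := (Set.toFinite (Cfsg.invSubgroups ⊤ A {q})).exists_le_maximal hR
  refine ⟨Q, ⟨hQ.1, fun R' hR' hQR' => le_antisymm (hQ.2 hR' hQR') hQR'⟩, hRQ⟩

theorem inv_isPGroup [Finite G] {A : Subgroup G} {q : ℕ} {Q : Subgroup G}
    (h : Q ∈ Cfsg.invSubgroups ⊤ A {q}) : IsPGroup q ↥Q := by
  have hne : Nat.card ↥Q ≠ 0 := Nat.card_pos.ne'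
  have := Nat.eq_prime_pow_of_unique_prime_dvd hne
    (fun {d} hd hdvd => Set.mem_singleton_iff.mp (h.2.1 d hd hdvd))
  exact IsPGroup.of_card this

theorem inv_of_isPGroup [Finite G] {A : Subgroup G} {q : ℕ} (hq : q.Prime) {Q : Subgroup G}
    (hQq : IsPGroup q ↥Q) (hAQ : A ≤ Subgroup.normalizer (Q : Set G)) :
    Q ∈ Cfsg.invSubgroups ⊤ A {q} := by
  refine ⟨le_top, ?_, hAQ⟩
  intro r hr hrd
  haveI : Fact q.Prime := ⟨hq⟩
  obtain ⟨k, hk⟩ := IsPGroup.iff_card.1 hQq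
  rw [hk] at hrd
  exact Set.mem_singleton_iff.mpr ((Nat.prime_dvd_prime_iff_eq hr hq).mp (hr.dvd_of_dvd_pow hrd))

theorem conj3 (Q : Subgroup G) (k₁ c k₂ : G) :
    ((Q.map (MulAut.conj k₁).toMonoidHom).map (MulAut.conj c).toMonoidHom).map
      (MulAut.conj k₂).toMonoidHom = Q.map (MulAut.conj (k₂ * c * k₁)).toMonoidHom := by
  ext x
  simp only [Cfsg.Agent.Helper14.mem_map_conj]
  have e : (k₂ * c * k₁)⁻¹ * x * (k₂ * c * k₁)
      = k₁⁻¹ * (c⁻¹ * (k₂⁻¹ * x * k₂) * c) * k₁ := by group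
  rw [e]

/-- Two maximal `A`-invariant `q`-subgroups with nontrivial intersection are conjugate under
`O_{π(A)'}(C_G(A))`. -/
theorem claim [Finite G] (hG : Cfsg.IsMinSimpleOddOrder G) {A : Subgroup G}
    (hA : Cfsg.TransitivityHypothesis A) (q : ℕ) [Fact q.Prime] (hqA : ¬ q ∣ Nat.card ↥A) :
    ∀ n : ℕ, ∀ Q Q' : Subgroup G, Q ∈ Cfsg.maxInvSubgroups ⊤ A {q} →
      Q' ∈ Cfsg.maxInvSubgroups ⊤ A {q} → Q ⊓ Q' ≠ ⊥ → Nat.card G - Nat.card ↥(Q ⊓ Q') = n →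
      ∃ k ∈ Cfsg.piCoreOf (Cfsg.primesNotDvd (Nat.card ↥A)) (Subgroup.centralizer (A : Set G)),
        Q' = Q.map (MulAut.conj k).toMonoidHom := by
  have hq : q.Prime := Fact.out
  have hAsol : Group.IsSolvable ↥A := hG.2.2.2 A hA.2.1
  intro n
  induction n using Nat.strong_induction_on with
  | _ n ih =>
    intro Q Q' hQ hQ' hne hn
    by_cases heq : Q = Q'
    · refine ⟨1, one_mem _, ?_⟩
      rw [← heq]
      ext x
      rw [Cfsg.Agent.Helper14.mem_map_conj]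
      simp
    · obtain ⟨D, hD⟩ : ∃ D : Subgroup G, D = Q ⊓ Q' := ⟨_, rfl⟩
      rw [← hD] at hne hn
      have hD₁ : D ≤ Q := by rw [hD]; exact inf_le_left
      have hD₂ : D ≤ Q' := by rw [hD]; exact inf_le_right
      have hQq := inv_isPGroup hQ.1
      have hQ'q := inv_isPGroup hQ'.1
      have hDne₁ : D ≠ Q := by
        intro h
        have h1 : Q ≤ Q' := by rw [← h]; exact hD₂
        exact heq (hQ.2 Q' hQ'.1 h1).symm
      have hDne₂ : D ≠ Q' := by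
        intro h
        have h1 : Q' ≤ Q := by rw [← h]; exact hD₁
        exact heq (hQ'.2 Q hQ.1 h1)
      have hAD : A ≤ Subgroup.normalizer (D : Set G) := by
        intro a ha
        rw [hD]
        exact Cfsg.Agent.Helper14.mem_normalizer_inf _ _ a (hQ.1.2.2 ha) (hQ'.1.2.2 ha)
      have hDtop : D ≠ ⊤ := by
        intro h
        have hAQ : A ≤ Q := by
          intro a _
          exact hD₁ (h ▸ Subgroup.mem_top a)
        have hAq : IsPGroup q ↥A := hQq.to_le hAQ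
        obtain ⟨k, hk⟩ := IsPGroup.iff_card.1 hAq
        rcases Nat.eq_zero_or_pos k with h0 | h0
        · rw [h0, pow_zero] at hk
          exact hA.1 (Subgroup.card_eq_one.mp hk)
        · exact hqA (hk ▸ dvd_pow_self q h0.ne')
      obtain ⟨N, hN⟩ : ∃ N : Subgroup G, N = Subgroup.normalizer (D : Set G) := ⟨_, rfl⟩
      have hNtop : N ≠ ⊤ := by rw [hN]; exact normalizer_ne_top hG D hne hDtop
      have hAN : A ≤ N := by rw [hN]; exact hAD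
      obtain ⟨y, hyQ, hyN, hyD⟩ :=
        Cfsg.Agent.Helper9.Trans.exists_normalizer_not_mem Q D hQq hD₁ hDne₁
      obtain ⟨y', hy'Q, hy'N, hy'D⟩ :=
        Cfsg.Agent.Helper9.Trans.exists_normalizer_not_mem Q' D hQ'q hD₂ hDne₂
      have hinvN : ∀ Q₀ : Subgroup G, A ≤ Subgroup.normalizer (Q₀ : Set G) →
          A ≤ Subgroup.normalizer ((Q₀ ⊓ N : Subgroup G) : Set G) := fun Q₀ h a ha =>
        Cfsg.Agent.Helper14.mem_normalizer_inf _ _ a (h ha) (Subgroup.le_normalizer (hAN ha))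
      obtain ⟨S, hSq, hAS, hRS, c, hc, hR'S⟩ := sylow_step hA hAsol N hNtop hAN q hqA
        (Q ⊓ N) (Q' ⊓ N) inf_le_right inf_le_right (hQq.to_le inf_le_left)
        (hQ'q.to_le inf_le_left) (hinvN Q hQ.1.2.2) (hinvN Q' hQ'.1.2.2)
      obtain ⟨Qs, hQs, hSQs⟩ := exists_max A q S (inv_of_isPGroup hq hSq hAS)
      have hDN : D ≤ N := by rw [hN]; exact Subgroup.le_normalizer
      have hcK := cent_le_K hG hA N hNtop hAN hc
      have hcC : c ∈ Subgroup.centralizer (A : Set G) := (Subgroup.mem_inf.mp hc).2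
      -- first conjugation
      have hlt1 : Nat.card ↥D < Nat.card ↥(Q ⊓ Qs) := by
        apply Cfsg.Agent.Helper9.Trans.card_lt_of_mem D (Q ⊓ Qs) y
        · exact le_inf hD₁ (fun d hd => hSQs (hRS (Subgroup.mem_inf.mpr ⟨hD₁ hd, hDN hd⟩)))
        · exact Subgroup.mem_inf.mpr ⟨hyQ, hSQs (hRS (Subgroup.mem_inf.mpr ⟨hyQ, hN ▸ hyN⟩))⟩
        · exact hyD
      have hne1 : Q ⊓ Qs ≠ ⊥ := by
        intro h
        rw [h, Subgroup.card_bot] at hlt1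
        have : 0 < Nat.card ↥D := Nat.card_pos
        omega
      have hb1 : Nat.card ↥(Q ⊓ Qs) ≤ Nat.card G :=
        Nat.le_of_dvd Nat.card_pos (Subgroup.card_subgroup_dvd_card _)
      obtain ⟨k₁, hk₁, e₁⟩ := ih (Nat.card G - Nat.card ↥(Q ⊓ Qs)) (by omega) Q Qs hQ hQs hne1 rfl
      -- second conjugation
      have hQc := max_conj hQs c hcC
      have hR' : Q' ⊓ N ≤ Qs.map (MulAut.conj c).toMonoidHom := by
        intro u hu
        have h1 := hR'S hu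
        rw [Cfsg.Agent.Helper14.mem_map_conj] at h1 ⊢
        exact hSQs h1
      have hlt2 : Nat.card ↥D < Nat.card ↥(Qs.map (MulAut.conj c).toMonoidHom ⊓ Q') := by
        apply Cfsg.Agent.Helper9.Trans.card_lt_of_mem D _ y'
        · exact le_inf (fun d hd => hR' (Subgroup.mem_inf.mpr ⟨hD₂ hd, hDN hd⟩)) hD₂
        · exact Subgroup.mem_inf.mpr ⟨hR' (Subgroup.mem_inf.mpr ⟨hy'Q, hN ▸ hy'N⟩), hy'Q⟩
        · exact hy'D
      have hne2 : Qs.map (MulAut.conj c).toMonoidHom ⊓ Q' ≠ ⊥ := by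
        intro h
        rw [h, Subgroup.card_bot] at hlt2
        have : 0 < Nat.card ↥D := Nat.card_pos
        omega
      have hb2 : Nat.card ↥(Qs.map (MulAut.conj c).toMonoidHom ⊓ Q') ≤ Nat.card G :=
        Nat.le_of_dvd Nat.card_pos (Subgroup.card_subgroup_dvd_card _)
      obtain ⟨k₂, hk₂, e₂⟩ :=
        ih (Nat.card G - Nat.card ↥(Qs.map (MulAut.conj c).toMonoidHom ⊓ Q')) (by omega) _ Q'
          hQc hQ' hne2 rfl
      refine ⟨k₂ * c * k₁, mul_mem (mul_mem hk₂ hcK) hk₁, ?_⟩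
      rw [e₂, e₁, conj3]

/-- BG-type transitivity: two maximal `A`-invariant `q`-subgroups meeting a common proper
subgroup `H ≥ A` nontrivially are conjugate under `O_{π(A)'}(C_G(A))`. -/
theorem main1 [Finite G] (hG : Cfsg.IsMinSimpleOddOrder G)
    (A : Subgroup G) (hA : Cfsg.TransitivityHypothesis A) (q : ℕ) (hq : q.Prime)
    (hqA : ¬ q ∣ Nat.card A)
    (Q₁ Q₂ : Subgroup G) (h₁ : Q₁ ∈ Cfsg.maxInvSubgroups ⊤ A {q})
    (h₂ : Q₂ ∈ Cfsg.maxInvSubgroups ⊤ A {q})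
    (H : Subgroup G) (hH : H ≠ ⊤) (hAH : A ≤ H) (hH₁ : H ⊓ Q₁ ≠ ⊥) (hH₂ : H ⊓ Q₂ ≠ ⊥) :
    ∃ k ∈ Cfsg.piCoreOf (Cfsg.primesNotDvd (Nat.card A)) (Subgroup.centralizer (A : Set G)),
      Q₂ = Q₁.map (MulAut.conj k).toMonoidHom := by
  haveI : Fact q.Prime := ⟨hq⟩
  have hAsol : Group.IsSolvable ↥A := hG.2.2.2 A hA.2.1
  have hQ₁q := inv_isPGroup h₁.1
  have hQ₂q := inv_isPGroup h₂.1
  have hinvH : ∀ Q₀ : Subgroup G, A ≤ Subgroup.normalizer (Q₀ : Set G) →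
      A ≤ Subgroup.normalizer ((H ⊓ Q₀ : Subgroup G) : Set G) := fun Q₀ h a ha =>
    Cfsg.Agent.Helper14.mem_normalizer_inf _ _ a (Subgroup.le_normalizer (hAH ha)) (h ha)
  obtain ⟨S, hSq, hAS, hRS, c, hc, hR'S⟩ := sylow_step hA hAsol H hH hAH q hqA
    (H ⊓ Q₁) (H ⊓ Q₂) inf_le_left inf_le_left (hQ₁q.to_le inf_le_right)
    (hQ₂q.to_le inf_le_right) (hinvH Q₁ h₁.1.2.2) (hinvH Q₂ h₂.1.2.2)
  obtain ⟨Qs, hQs, hSQs⟩ := exists_max A q S (inv_of_isPGroup hq hSq hAS)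
  have hcK := cent_le_K hG hA H hH hAH hc
  have hcC : c ∈ Subgroup.centralizer (A : Set G) := (Subgroup.mem_inf.mp hc).2
  have hne1 : Q₁ ⊓ Qs ≠ ⊥ := by
    intro h
    apply hH₁
    rw [eq_bot_iff, ← h]
    exact le_inf inf_le_right (hRS.trans hSQs)
  obtain ⟨k₁, hk₁, e₁⟩ := claim hG hA q hqA _ Q₁ Qs h₁ hQs hne1 rfl
  have hQc := max_conj hQs c hcC
  have hR' : H ⊓ Q₂ ≤ Qs.map (MulAut.conj c).toMonoidHom := by
    intro u hu
    have h1 := hR'S hu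
    rw [Cfsg.Agent.Helper14.mem_map_conj] at h1 ⊢
    exact hSQs h1
  have hne2 : Qs.map (MulAut.conj c).toMonoidHom ⊓ Q₂ ≠ ⊥ := by
    intro h
    apply hH₂
    rw [eq_bot_iff, ← h]
    exact le_inf hR' inf_le_right
  obtain ⟨k₂, hk₂, e₂⟩ := claim hG hA q hqA _ _ Q₂ hQc h₂ hne2 rfl
  refine ⟨k₂ * c * k₁, mul_mem (mul_mem hk₂ hcK) hk₁, ?_⟩
  rw [e₂, e₁, conj3]

theorem cent_ne_top [Finite G] (hG : Cfsg.IsMinSimpleOddOrder G) (b : G) (hb : b ≠ 1) :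
    Subgroup.centralizer ({b} : Set G) ≠ ⊤ := by
  intro h
  haveI := hG.2.1
  have hbc : b ∈ Subgroup.center G := by
    rw [Subgroup.mem_center_iff]
    intro g
    have hg : g ∈ Subgroup.centralizer ({b} : Set G) := h ▸ Subgroup.mem_top g
    exact (Subgroup.mem_centralizer_iff.mp hg b (Set.mem_singleton b)).symm
  rcases (inferInstance : (Subgroup.center G).Normal).eq_bot_or_eq_top with h1 | h1
  · rw [h1, Subgroup.mem_bot] at hbc
    exact hb hbc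
  · apply hG.2.2.1
    refine ⟨⟨fun x y => ?_⟩⟩
    have hy : y ∈ Subgroup.center G := h1 ▸ Subgroup.mem_top y
    exact Subgroup.mem_center_iff.mp hy x

theorem elem_of_rank [Finite G] (A : Subgroup G) (k : ℕ)
    (hZ : ¬ Cfsg.RankLE k ↥(A ⊓ Subgroup.centralizer (A : Set G))) :
    ∃ p : ℕ, p.Prime ∧ ∃ B : Subgroup G, B ≤ A ∧ B ≤ Subgroup.centralizer (A : Set G) ∧
      Cfsg.IsElementaryAbelian p B ∧ p ^ (k + 1) ≤ Nat.card ↥B := by
  unfold Cfsg.RankLE Cfsg.PRankLE at hZ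
  push_neg at hZ
  obtain ⟨p, hp, B', hB'c, hB'e, hB'card⟩ := hZ
  haveI : Fact p.Prime := ⟨hp⟩
  refine ⟨p, hp, B'.map (A ⊓ Subgroup.centralizer (A : Set G)).subtype, ?_, ?_, ?_, ?_⟩
  · rintro _ ⟨x, -, rfl⟩
    exact (Subgroup.mem_inf.mp x.2).1
  · rintro _ ⟨x, -, rfl⟩
    exact (Subgroup.mem_inf.mp x.2).2
  · have hB : Cfsg.IsElementaryAbelian p
        (B'.map (A ⊓ Subgroup.centralizer (A : Set G)).subtype) := by
      refine ⟨IsMulCommutative.of_setLike_mul_comm ?_, ?_⟩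
      · rintro _ ⟨x, hx, rfl⟩ _ ⟨y, hy, rfl⟩
        haveI := hB'c
        have h1 : x * y = y * x := setLike_mul_comm (s := B') hx hy
        have h2 := congrArg Subtype.val h1
        simpa using h2
      · rintro _ ⟨x, hx, rfl⟩
        have h := hB'e x hx
        show ((x : ↥(A ⊓ Subgroup.centralizer (A : Set G))) : G) ^ p = 1
        rw [← Subgroup.coe_pow, h, Subgroup.coe_one]
    exact hB
  · have hB : Cfsg.IsElementaryAbelian p
        (B'.map (A ⊓ Subgroup.centralizer (A : Set G)).subtype) := by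
      refine ⟨IsMulCommutative.of_setLike_mul_comm ?_, ?_⟩
      · rintro _ ⟨x, hx, rfl⟩ _ ⟨y, hy, rfl⟩
        haveI := hB'c
        have h1 : x * y = y * x := setLike_mul_comm (s := B') hx hy
        have h2 := congrArg Subtype.val h1
        simpa using h2
      · rintro _ ⟨x, hx, rfl⟩
        have h := hB'e x hx
        show ((x : ↥(A ⊓ Subgroup.centralizer (A : Set G))) : G) ^ p = 1
        rw [← Subgroup.coe_pow, h, Subgroup.coe_one]
    have hBp := Cfsg.Agent.Helper3.elemAb_isPGroup hB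
    obtain ⟨j, hj⟩ := IsPGroup.iff_card.1 hBp
    rw [Subgroup.card_map_of_injective (Subgroup.subtype_injective _)] at hj ⊢
    rw [hj] at hB'card ⊢
    have h3 : k < j := by
      by_contra hcon
      have : p ^ j ≤ p ^ k := Nat.pow_le_pow_right hp.pos (by omega)
      omega
    exact Nat.pow_le_pow_right hp.pos (by omega)

/-- Rank at least 3 in the centre. -/
theorem main2 [Finite G] (hG : Cfsg.IsMinSimpleOddOrder G)
    (A : Subgroup G) (hA : Cfsg.TransitivityHypothesis A)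
    (hZ : ¬ Cfsg.RankLE 2 ↥(A ⊓ Subgroup.centralizer (A : Set G)))
    (q : ℕ) (hq : q.Prime) (hqA : ¬ q ∣ Nat.card A) :
    ∀ Q₁ ∈ Cfsg.maxInvSubgroups ⊤ A {q}, ∀ Q₂ ∈ Cfsg.maxInvSubgroups ⊤ A {q},
      ∃ k ∈ Cfsg.piCoreOf (Cfsg.primesNotDvd (Nat.card A)) (Subgroup.centralizer (A : Set G)),
        Q₂ = Q₁.map (MulAut.conj k).toMonoidHom := by
  classical
  intro Q₁ h₁ Q₂ h₂
  haveI : Fact q.Prime := ⟨hq⟩
  obtain ⟨p, hp, B, hBA, hBC, hB, hB3'⟩ := elem_of_rank A 2 hZ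
  have hB3 : p ^ 3 ≤ Nat.card ↥B := hB3'
  clear hB3'
  haveI : Fact p.Prime := ⟨hp⟩
  have triv : ∀ Q Q' : Subgroup G, Q = Q' →
      ∃ k ∈ Cfsg.piCoreOf (Cfsg.primesNotDvd (Nat.card A)) (Subgroup.centralizer (A : Set G)),
        Q' = Q.map (MulAut.conj k).toMonoidHom := by
    intro Q Q' h
    refine ⟨1, one_mem _, ?_⟩
    rw [h]
    ext x
    rw [Cfsg.Agent.Helper14.mem_map_conj]
    simp
  by_cases hb1 : Q₁ = ⊥
  · exact triv _ _ (h₁.2 Q₂ h₂.1 (hb1 ▸ bot_le)).symm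
  by_cases hb2 : Q₂ = ⊥
  · exact triv _ _ (h₂.2 Q₁ h₁.1 (hb2 ▸ bot_le))
  have hBp := Cfsg.Agent.Helper3.elemAb_isPGroup hB
  have hpA : p ∣ Nat.card ↥A := by
    obtain ⟨j, hj⟩ := IsPGroup.iff_card.1 hBp
    have hj0 : j ≠ 0 := by
      intro h0
      rw [h0, pow_zero] at hj
      rw [hj] at hB3
      have : 1 < p ^ 3 := Nat.one_lt_pow (by norm_num) hp.one_lt
      omega
    exact (hj ▸ dvd_pow_self p hj0 : p ∣ Nat.card ↥B).trans (Subgroup.card_dvd_of_le hBA)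
  have hpQ : ∀ Q ∈ Cfsg.maxInvSubgroups ⊤ A {q}, ¬ p ∣ Nat.card ↥Q := by
    intro Q hQ hd
    obtain ⟨j, hj⟩ := IsPGroup.iff_card.1 (inv_isPGroup hQ.1)
    rw [hj] at hd
    have : p = q := (Nat.prime_dvd_prime_iff_eq hp hq).mp (hp.dvd_of_dvd_pow hd)
    exact hqA (this ▸ hpA)
  have hpp : p ^ 2 ≤ Nat.card ↥B := le_trans (Nat.pow_le_pow_right hp.pos (by norm_num)) hB3
  obtain ⟨B₁, hB₁A, hB₁i, x₁, hx₁Q, hx₁C, hx₁D⟩ :=
    Cfsg.Agent.Helper9.Trans.exists_hyp p B hB hpp Q₁ ⊥ (hpQ Q₁ h₁) (hBA.trans h₁.1.2.2)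
      (fun h => hb1 (le_bot_iff.mp h))
  obtain ⟨B₂, hB₂A, hB₂i, x₂, hx₂Q, hx₂C, hx₂D⟩ :=
    Cfsg.Agent.Helper9.Trans.exists_hyp p B hB hpp Q₂ ⊥ (hpQ Q₂ h₂) (hBA.trans h₂.1.2.2)
      (fun h => hb2 (le_bot_iff.mp h))
  have hBB : B₁ ⊓ B₂ ≠ ⊥ := by
    intro h
    have h1 := Subgroup.relIndex_inf_le (H := B₁) (K := B₂) (L := B)
    rw [h, Subgroup.relIndex_bot_left] at h1
    have h2 : B₁.relIndex B * B₂.relIndex B ≤ p * p := Nat.mul_le_mul hB₁i hB₂i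
    have h3 : p * p < p ^ 3 := by
      have h4 : p ^ 2 < p ^ 3 := Nat.pow_lt_pow_right hp.one_lt (by norm_num)
      rw [sq] at h4
      exact h4
    omega
  obtain ⟨b, hbB, hb1'⟩ : ∃ b ∈ B₁ ⊓ B₂, b ≠ 1 := by
    by_contra hcon
    push_neg at hcon
    exact hBB ((Subgroup.eq_bot_iff_forall _).mpr hcon)
  have hbC : b ∈ Subgroup.centralizer (A : Set G) := hBC (hB₁A (Subgroup.mem_inf.mp hbB).1)
  have hAH : A ≤ Subgroup.centralizer ({b} : Set G) := by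
    intro a ha
    rw [Subgroup.mem_centralizer_iff]
    intro y hy
    rw [Set.mem_singleton_iff] at hy
    rw [hy]
    exact (Subgroup.mem_centralizer_iff.mp hbC a ha).symm
  have hxH : ∀ (B₀ : Subgroup G) (x : G), b ∈ B₀ → x ∈ Subgroup.centralizer (B₀ : Set G) →
      x ∈ Subgroup.centralizer ({b} : Set G) := by
    intro B₀ x hb hx
    rw [Subgroup.mem_centralizer_iff]
    intro y hy
    rw [Set.mem_singleton_iff] at hy
    rw [hy]
    exact Subgroup.mem_centralizer_iff.mp hx b hb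
  apply main1 hG A hA q hq hqA Q₁ Q₂ h₁ h₂ _ (cent_ne_top hG b hb1') hAH
  · intro h
    apply hx₁D
    rw [← h]
    exact Subgroup.mem_inf.mpr ⟨hxH B₁ x₁ (Subgroup.mem_inf.mp hbB).1 hx₁C, hx₁Q⟩
  · intro h
    apply hx₂D
    rw [← h]
    exact Subgroup.mem_inf.mpr ⟨hxH B₂ x₂ (Subgroup.mem_inf.mp hbB).2 hx₂C, hx₂Q⟩

/-- Rank at least 2 in the centre and `q` dividing `|C_G(A)|`. -/
theorem main3 [Finite G] (hG : Cfsg.IsMinSimpleOddOrder G)
    (A : Subgroup G) (hA : Cfsg.TransitivityHypothesis A)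
    (hZ : ¬ Cfsg.RankLE 1 ↥(A ⊓ Subgroup.centralizer (A : Set G)))
    (q : ℕ) (hq : q.Prime) (hqA : ¬ q ∣ Nat.card A)
    (hqC : q ∣ Nat.card (Subgroup.centralizer (A : Set G))) :
    ∀ Q₁ ∈ Cfsg.maxInvSubgroups ⊤ A {q}, ∀ Q₂ ∈ Cfsg.maxInvSubgroups ⊤ A {q},
      ∃ k ∈ Cfsg.piCoreOf (Cfsg.primesNotDvd (Nat.card A)) (Subgroup.centralizer (A : Set G)),
        Q₂ = Q₁.map (MulAut.conj k).toMonoidHom := by
  classical
  haveI : Fact q.Prime := ⟨hq⟩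
  obtain ⟨p, hp, B, hBA, hBC, hB, hB2⟩ := elem_of_rank A 1 hZ
  haveI : Fact p.Prime := ⟨hp⟩
  have hBp := Cfsg.Agent.Helper3.elemAb_isPGroup hB
  have hpA : p ∣ Nat.card ↥A := by
    obtain ⟨j, hj⟩ := IsPGroup.iff_card.1 hBp
    have hj0 : j ≠ 0 := by
      intro h0
      rw [h0, pow_zero] at hj
      rw [hj] at hB2
      have : 1 < p ^ (1 + 1) := Nat.one_lt_pow (by norm_num) hp.one_lt
      omega
    exact (hj ▸ dvd_pow_self p hj0 : p ∣ Nat.card ↥B).trans (Subgroup.card_dvd_of_le hBA)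
  have hpQ : ∀ Q ∈ Cfsg.maxInvSubgroups ⊤ A {q}, ¬ p ∣ Nat.card ↥Q := by
    intro Q hQ hd
    obtain ⟨j, hj⟩ := IsPGroup.iff_card.1 (inv_isPGroup hQ.1)
    rw [hj] at hd
    have : p = q := (Nat.prime_dvd_prime_iff_eq hp hq).mp (hp.dvd_of_dvd_pow hd)
    exact hqA (this ▸ hpA)
  -- a Sylow q-subgroup of C_G(A)
  obtain ⟨P⟩ : Nonempty (Sylow q ↥(Subgroup.centralizer (A : Set G))) := inferInstance
  obtain ⟨Q₀, hQ₀⟩ : ∃ Q₀ : Subgroup G,
      Q₀ = (P : Subgroup ↥(Subgroup.centralizer (A : Set G))).map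
        (Subgroup.centralizer (A : Set G)).subtype := ⟨_, rfl⟩
  have hQ₀C : Q₀ ≤ Subgroup.centralizer (A : Set G) := by
    rw [hQ₀]; rintro _ ⟨x, -, rfl⟩; exact x.2
  have hQ₀q : IsPGroup q ↥Q₀ := by rw [hQ₀]; exact P.isPGroup'.map _
  have hQ₀1 : Q₀ ≠ ⊥ := by
    intro h
    have hP : (P : Subgroup ↥(Subgroup.centralizer (A : Set G))) ≠ ⊥ := P.ne_bot_of_dvd_card hqC
    apply hP
    rw [hQ₀] at h
    exact (Subgroup.map_eq_bot_iff_of_injective _ (Subgroup.subtype_injective _)).mp h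
  have hAQ₀ : A ≤ Subgroup.normalizer (Q₀ : Set G) := by
    intro a ha
    apply Cfsg.Agent.Helper9.mem_normalizer_of_conj_le
    intro y hy
    have hya : a * y = y * a := Subgroup.mem_centralizer_iff.mp (hQ₀C hy) a ha
    have e : a * y * a⁻¹ = y := by rw [hya]; group
    rw [e]; exact hy
  obtain ⟨Qs, hQs, hQ₀Qs⟩ := exists_max A q Q₀ (inv_of_isPGroup hq hQ₀q hAQ₀)
  have key : ∀ Q ∈ Cfsg.maxInvSubgroups ⊤ A {q},
      ∃ k ∈ Cfsg.piCoreOf (Cfsg.primesNotDvd (Nat.card A)) (Subgroup.centralizer (A : Set G)),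
        Qs = Q.map (MulAut.conj k).toMonoidHom := by
    intro Q hQ
    have hQ1 : Q ≠ ⊥ := by
      intro h
      have := hQ.2 Q₀ (inv_of_isPGroup hq hQ₀q hAQ₀) (h ▸ bot_le)
      exact hQ₀1 (this.trans h)
    have hpp : p ^ 2 ≤ Nat.card ↥B := hB2
    obtain ⟨B₁, hB₁A, hB₁i, x₁, hx₁Q, hx₁C, hx₁D⟩ :=
      Cfsg.Agent.Helper9.Trans.exists_hyp p B hB hpp Q ⊥ (hpQ Q hQ) (hBA.trans hQ.1.2.2)
        (fun h => hQ1 (le_bot_iff.mp h))
    have hB₁ : B₁ ≠ ⊥ := by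
      intro h
      rw [h, Subgroup.relIndex_bot_left] at hB₁i
      have : p < p ^ 2 := by
        have := Nat.pow_lt_pow_right hp.one_lt (show 1 < 2 by norm_num)
        rwa [pow_one] at this
      omega
    obtain ⟨b, hbB, hb1'⟩ : ∃ b ∈ B₁, b ≠ 1 := by
      by_contra hcon
      push_neg at hcon
      exact hB₁ ((Subgroup.eq_bot_iff_forall _).mpr hcon)
    have hbC : b ∈ Subgroup.centralizer (A : Set G) := hBC (hB₁A hbB)
    have hbA : b ∈ A := hBA (hB₁A hbB)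
    have hAH : A ≤ Subgroup.centralizer ({b} : Set G) := by
      intro a ha
      rw [Subgroup.mem_centralizer_iff]
      intro y hy
      rw [Set.mem_singleton_iff] at hy
      rw [hy]
      exact (Subgroup.mem_centralizer_iff.mp hbC a ha).symm
    have hx₁H : x₁ ∈ Subgroup.centralizer ({b} : Set G) := by
      rw [Subgroup.mem_centralizer_iff]
      intro y hy
      rw [Set.mem_singleton_iff] at hy
      rw [hy]
      exact Subgroup.mem_centralizer_iff.mp hx₁C b hbB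
    apply main1 hG A hA q hq hqA Q Qs hQ hQs _ (cent_ne_top hG b hb1') hAH
    · intro h
      apply hx₁D
      rw [← h]
      exact Subgroup.mem_inf.mpr ⟨hx₁H, hx₁Q⟩
    · intro h
      apply hQ₀1
      rw [eq_bot_iff, ← h]
      refine le_inf (hQ₀C.trans ?_) hQ₀Qs
      exact Subgroup.centralizer_le (Set.singleton_subset_iff.mpr hbA)
  intro Q₁ h₁ Q₂ h₂
  obtain ⟨k₁, hk₁, e₁⟩ := key Q₁ h₁
  obtain ⟨k₂, hk₂, e₂⟩ := key Q₂ h₂
  refine ⟨k₂⁻¹ * k₁, mul_mem (inv_mem hk₂) hk₁, ?_⟩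
  ext x
  rw [Cfsg.Agent.Helper14.mem_map_conj]
  have h3 : k₂ * x * k₂⁻¹ ∈ Qs ↔ x ∈ Q₂ := by
    rw [e₂, Cfsg.Agent.Helper14.mem_map_conj]
    have e : k₂⁻¹ * (k₂ * x * k₂⁻¹) * k₂ = x := by group
    rw [e]
  rw [← h3, e₁, Cfsg.Agent.Helper14.mem_map_conj]
  have e : k₁⁻¹ * (k₂ * x * k₂⁻¹) * k₁ = (k₂⁻¹ * k₁)⁻¹ * x * (k₂⁻¹ * k₁) := by group
  rw [e]

end Cfsg.Agent.Helper21.TransHyp
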