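-- helper21: the transitivity hypothesis passes to subnormal overgroups (via Glauberman's lemma)
import Mathlib
import Cfsg.Agent.Helper3.HallInv
import Cfsg.Agent.Helper21.TransHyp

set_option autoImplicit false

namespace Cfsg.Agent.Helper21.SubnTrans

open Cfsg Cfsg.Agent.S0001 Cfsg.Agent.Lead Cfsg.Agent.Helper21.TransHyp
open scoped commutatorElement

universe u

/-- Two `A`-invariant subgroups conjugate under `G` are conjugate under `C_G(A)`. -/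
theorem conj_fixed {X : Type u} [Group X] [Finite X] (A G : Subgroup X)
    (hAG : A ≤ Subgroup.normalizer (G : Set X)) (hcop : (Nat.card A).Coprime (Nat.card G))
    (hsolv : Group.IsSolvable G) (H₁ H₂ : Subgroup X)
    (hA1 : A ≤ Subgroup.normalizer (H₁ : Set X))
    (hA2 : A ≤ Subgroup.normalizer (H₂ : Set X)) (k : X) (hkG : k ∈ G)
    (hSS' : ConjTo k H₁ H₂) :
    ∃ c ∈ G ⊓ Subgroup.centralizer (A : Set X), H₂ = H₁.map (MulAut.conj c).toMonoidHom := by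
  obtain ⟨T, hT⟩ : ∃ T : Subgroup X, T = Subgroup.normalizer (H₁ : Set X) := ⟨_, rfl⟩
  have hN'K : T ⊓ G ≤ G := inf_le_right
  have hN'T : T ⊓ G ≤ T := inf_le_left
  obtain ⟨B, hB⟩ : ∃ B : Subgroup X, B = A.map (MulAut.conj k⁻¹).toMonoidHom := ⟨_, rfl⟩
  have hAB : ConjTo k⁻¹ A B := by rw [hB]; exact conjTo_map _ A
  have hAB' : ∀ z, z ∈ B ↔ k * z * k⁻¹ ∈ A := fun z => by simpa using hAB z
  have hP : A ≤ T := by rw [hT]; exact hA1
  have hBT : B ≤ T := by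
    intro z hz
    have ha := (hAB' z).1 hz
    have h3 := (conjTo_normalizer hSS' _).1 (hA2 ha)
    rw [hT]
    simpa [mul_assoc] using h3
  have hAN' : A ≤ Subgroup.normalizer ((T ⊓ G : Subgroup X) : Set X) := by
    intro a ha
    rw [Subgroup.mem_normalizer_iff]
    intro h
    have haT : a ∈ T := hP ha
    have h2 := (Subgroup.mem_normalizer_iff.1 (hAG ha)) h
    constructor
    · rintro ⟨h1, hK⟩
      exact ⟨T.mul_mem (T.mul_mem haT h1) (T.inv_mem haT), h2.1 hK⟩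
    · rintro ⟨h1, hK⟩
      refine ⟨?_, h2.2 hK⟩
      have h5 : a⁻¹ * (a * h * a⁻¹) * a ∈ T := T.mul_mem (T.mul_mem (T.inv_mem haT) h1) haT
      simpa [mul_assoc] using h5
  have hBsup : B ⊔ (T ⊓ G) = A ⊔ (T ⊓ G) := by
    apply le_antisymm
    · apply sup_le _ le_sup_right
      intro z hz
      have ha := (hAB' z).1 hz
      have e : z = (k * z * k⁻¹) * ((k * z * k⁻¹)⁻¹ * z) := by group
      rw [e]
      refine Subgroup.mul_mem_sup ha ⟨T.mul_mem (T.inv_mem (hP ha)) (hBT hz), ?_⟩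
      have h3 : (k * z * k⁻¹)⁻¹ * k⁻¹ * (k * z * k⁻¹)⁻¹⁻¹ ∈ G :=
        ((Subgroup.mem_normalizer_iff.1 (hAG (A.inv_mem ha))) _).1 (G.inv_mem hkG)
      have h4 := G.mul_mem h3 hkG
      have e2 : (k * z * k⁻¹)⁻¹ * z =
          (k * z * k⁻¹)⁻¹ * k⁻¹ * (k * z * k⁻¹)⁻¹⁻¹ * k := by group
      rw [e2]; exact h4
    · apply sup_le _ le_sup_right
      intro a ha
      have hb : k⁻¹ * a * k ∈ B := by rw [hAB']; simpa [mul_assoc] using ha
      have e : a = (k⁻¹ * a * k) * ((k⁻¹ * a * k)⁻¹ * a) := by group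
      rw [e]
      refine Subgroup.mul_mem_sup hb ⟨T.mul_mem (T.inv_mem (hBT hb)) (hP ha), ?_⟩
      have h3 : a⁻¹ * k * a⁻¹⁻¹ ∈ G :=
        ((Subgroup.mem_normalizer_iff.1 (hAG (A.inv_mem ha))) _).1 hkG
      have h4 := G.mul_mem (G.inv_mem hkG) h3
      have e2 : (k⁻¹ * a * k)⁻¹ * a = k⁻¹ * (a⁻¹ * k * a⁻¹⁻¹) := by group
      rw [e2]; exact h4
  have hcN : (Nat.card A).Coprime (Nat.card (T ⊓ G : Subgroup X)) :=
    coprime_of_le le_rfl hN'K hcop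
  have hcB : (Nat.card B).Coprime (Nat.card (T ⊓ G : Subgroup X)) := by
    have hBA : Nat.card B = Nat.card A := by
      rw [hB]; exact Subgroup.card_map_of_injective (MulAut.conj k⁻¹).injective
    rw [hBA]
    exact hcN
  obtain ⟨n, hn, hnconj⟩ := conj_complement A (T ⊓ G) B hAN' hcN
    (Or.inr (isSolvable_of_le hN'K hsolv)) hBsup hcB
  have hnK : n ∈ G := hN'K hn
  have hnT : n ∈ Subgroup.normalizer (H₁ : Set X) := by rw [← hT]; exact hN'T hn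
  have hcK : (k * n)⁻¹ ∈ G := G.inv_mem (G.mul_mem hkG hnK)
  have hcent : (k * n)⁻¹ ∈ Subgroup.centralizer (A : Set X) := by
    apply centralizes_of_normalizes A G hAG (inf_eq_bot_of_coprime' hcop) _ hcK
    intro a ha
    have hb : k⁻¹ * a * k ∈ B := by rw [hAB']; simpa [mul_assoc] using ha
    have h6 := (hnconj _).1 hb
    simpa [mul_assoc] using h6
  refine ⟨k * n, ⟨G.mul_mem hkG hnK, ?_⟩, ?_⟩
  · have h7 := Subgroup.inv_mem _ hcent
    simpa using h7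
  · ext x
    rw [hSS' x, conjTo_map (k * n) H₁ x]
    have h5 := (Subgroup.mem_normalizer_iff.1 (Subgroup.inv_mem _ hnT)) (k⁻¹ * x * k)
    rw [h5]
    have e : n⁻¹ * (k⁻¹ * x * k) * n⁻¹⁻¹ = (k * n)⁻¹ * x * (k * n) := by group
    rw [e]

variable {G : Type u} [Group G]

theorem pco_char [Finite G] (π : Set ℕ) (X : Subgroup G) (g : G)
    (hg : g ∈ Subgroup.normalizer (X : Set G)) :
    g ∈ Subgroup.normalizer (Cfsg.piCoreOf π X : Set G) := by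
  apply Cfsg.Agent.Helper9.mem_normalizer_of_conj_le
  intro y hy
  have hle : (Cfsg.piCoreOf π X).map (MulAut.conj g).toMonoidHom ≤ Cfsg.piCoreOf π X := by
    apply le_pco π X _
    · rintro _ ⟨z, hz, rfl⟩
      exact (Subgroup.mem_normalizer_iff.mp hg z).mp (pco_le π X hz)
    · rintro x hx _ ⟨z, hz, rfl⟩
      have hx' : g⁻¹ * x * g ∈ X := by
        have := (Subgroup.mem_normalizer_iff.mp (inv_mem hg) x).mp hx
        simpa using this
      have h1 := pco_conj π X _ hx' z hz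
      refine ⟨(g⁻¹ * x * g) * z * (g⁻¹ * x * g)⁻¹, h1, ?_⟩
      simp only [MulEquiv.coe_toMonoidHom, MulAut.conj_apply]
      group
    · intro r hr hd
      rw [Subgroup.card_map_of_injective (MulAut.conj g).injective] at hd
      exact pco_isPi π X r hr hd
  have := hle ⟨y, hy, rfl⟩
  simpa [MulAut.conj_apply] using this

theorem norm_cent [Finite G] (B : Subgroup G) (b : G)
    (hb : b ∈ Subgroup.normalizer (B : Set G)) :
    b ∈ Subgroup.normalizer (Subgroup.centralizer (B : Set G) : Set G) := by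
  apply Cfsg.Agent.Helper9.mem_normalizer_of_conj_le
  intro c hc
  exact Cfsg.Agent.Helper14.conj_mem_centralizer_of_mem_normalizer B b hb c hc

theorem a_gen [Finite G] (hG : Cfsg.IsMinSimpleOddOrder G) {A : Subgroup G}
    (hA : Cfsg.TransitivityHypothesis A) (B : Subgroup G) (hAB : A ≤ B) :
    Cfsg.piCoreOf (Cfsg.primesNotDvd (Nat.card ↥A)) (Subgroup.centralizer (A : Set G)) ⊓
        Subgroup.centralizer (B : Set G) =
      Cfsg.piCoreOf (Cfsg.primesNotDvd (Nat.card ↥A)) (Subgroup.centralizer (B : Set G)) := by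
  have hCBA : Subgroup.centralizer (B : Set G) ≤ Subgroup.centralizer (A : Set G) :=
    Subgroup.centralizer_le (by exact_mod_cast hAB)
  have hN := normalizer_ne_top hG A hA.1 hA.2.1
  have hCN : Subgroup.centralizer (A : Set G) ≤ Subgroup.normalizer (A : Set G) :=
    Subgroup.centralizer_le_normalizer _
  apply le_antisymm
  · apply le_pco _ _ _ inf_le_right
    · intro x hx n hn
      refine Subgroup.mem_inf.mpr ⟨pco_conj _ _ x (hCBA hx) n (Subgroup.mem_inf.mp hn).1, ?_⟩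
      exact mul_mem (mul_mem hx (Subgroup.mem_inf.mp hn).2) (inv_mem hx)
    · intro r hr hd
      exact pco_isPi _ _ r hr (hd.trans (Subgroup.card_dvd_of_le inf_le_left))
  · have hD : Cfsg.piCoreOf (Cfsg.primesNotDvd (Nat.card ↥A)) (Subgroup.centralizer (B : Set G))
        ≤ Subgroup.centralizer (A : Set G) := (pco_le _ _).trans hCBA
    refine le_inf ?_ (pco_le _ _)
    refine le_trans (le_inf ?_ hD) (cent_le_K hG hA _ hN Subgroup.le_normalizer)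
    apply inv_le hA _ hN Subgroup.le_normalizer _ (hD.trans hCN) (pco_isPi _ _)
    intro a ha
    apply Cfsg.Agent.Helper9.mem_normalizer_of_conj_le
    intro y hy
    have hya : a * y = y * a := Subgroup.mem_centralizer_iff.mp (hD hy) a ha
    have e : a * y * a⁻¹ = y := by rw [hya]; group
    rw [e]; exact hy

theorem cop_of [Finite G] (A B Y : Subgroup G)
    (hB : ∀ r : ℕ, r.Prime → r ∣ Nat.card ↥B → r ∣ Nat.card ↥A)
    (hY : ∀ r : ℕ, r.Prime → r ∣ Nat.card ↥Y → r ∈ Cfsg.primesNotDvd (Nat.card ↥A)) :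
    (Nat.card ↥B).Coprime (Nat.card ↥Y) := by
  by_contra hcon
  obtain ⟨r, hr, h1, h2⟩ := Nat.Prime.not_coprime_iff_dvd.mp hcon
  exact (hY r hr h2).2 (hB r hr h1)

theorem norm_conj' [Finite G] (B Q : Subgroup G) (b : G)
    (hb : b ∈ Subgroup.normalizer (B : Set G)) (h : B ≤ Subgroup.normalizer (Q : Set G)) :
    B ≤ Subgroup.normalizer ((Q.map (MulAut.conj b).toMonoidHom : Subgroup G) : Set G) := by
  intro a ha
  rw [conjTo_normalizer (conjTo_map b Q) a]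
  apply h
  have := (Subgroup.mem_normalizer_iff.mp (inv_mem hb) a).mp ha
  simpa using this

theorem max_conj' [Finite G] {B : Subgroup G} {q : ℕ} {Q : Subgroup G}
    (h : Q ∈ Cfsg.maxInvSubgroups ⊤ B {q}) (k : G) (hk : k ∈ Subgroup.normalizer (B : Set G)) :
    Q.map (MulAut.conj k).toMonoidHom ∈ Cfsg.maxInvSubgroups ⊤ B {q} := by
  obtain ⟨⟨-, hQπ, hQA⟩, hmax⟩ := h
  refine ⟨⟨le_top, ?_, norm_conj' B Q k hk hQA⟩, ?_⟩
  · intro r hr hd
    rw [Subgroup.card_map_of_injective (MulAut.conj k).injective] at hd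
    exact hQπ r hr hd
  · rintro R ⟨-, hRπ, hRA⟩ hle
    have hk' : k⁻¹ ∈ Subgroup.normalizer (B : Set G) := inv_mem hk
    have hR' : R.map (MulAut.conj k⁻¹).toMonoidHom ∈ Cfsg.invSubgroups ⊤ B {q} := by
      refine ⟨le_top, ?_, norm_conj' B R k⁻¹ hk' hRA⟩
      intro r hr hd
      rw [Subgroup.card_map_of_injective (MulAut.conj k⁻¹).injective] at hd
      exact hRπ r hr hd
    have hle' : Q ≤ R.map (MulAut.conj k⁻¹).toMonoidHom := by
      intro x hx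
      rw [Cfsg.Agent.Helper14.mem_map_conj]
      apply hle
      rw [Cfsg.Agent.Helper14.mem_map_conj]
      have e : k⁻¹ * (k⁻¹⁻¹ * x * k⁻¹) * k = x := by group
      rw [e]; exact hx
    have h1 := hmax _ hR' hle'
    ext x
    rw [Cfsg.Agent.Helper14.mem_map_conj, ← h1, Cfsg.Agent.Helper14.mem_map_conj]
    have e : k⁻¹⁻¹ * (k⁻¹ * x * k) * k⁻¹ = x := by group
    rw [e]

theorem bot_inv [Finite G] (B : Subgroup G) (q : ℕ) (hq : q.Prime) :
    (⊥ : Subgroup G) ∈ Cfsg.invSubgroups ⊤ B {q} := by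
  apply inv_of_isPGroup hq IsPGroup.of_bot
  intro b _
  apply Cfsg.Agent.Helper9.mem_normalizer_of_conj_le
  intro y hy
  rw [Subgroup.mem_bot] at hy ⊢
  rw [hy]; group

/-- A nontrivial maximal `B`-invariant `q`-subgroup (`B ⊇ A` a proper `π(A)`-group) is a maximal
`A`-invariant `q`-subgroup. -/
theorem lemD [Finite G] (hG : Cfsg.IsMinSimpleOddOrder G) {A : Subgroup G}
    (hA : Cfsg.TransitivityHypothesis A) (q : ℕ) [Fact q.Prime] (hqA : ¬ q ∣ Nat.card ↥A)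
    (B : Subgroup G) (hAB : A ≤ B) (hB : B ≠ ⊤)
    (hBπ : ∀ r : ℕ, r.Prime → r ∣ Nat.card ↥B → r ∣ Nat.card ↥A)
    (Q : Subgroup G) (hQ : Q ∈ Cfsg.maxInvSubgroups ⊤ B {q}) (hQ1 : Q ≠ ⊥) :
    Q ∈ Cfsg.maxInvSubgroups ⊤ A {q} := by
  have hq : q.Prime := Fact.out
  have hQq : IsPGroup q ↥Q := inv_isPGroup hQ.1
  have hBQ : B ≤ Subgroup.normalizer (Q : Set G) := hQ.1.2.2
  have hAQ : A ≤ Subgroup.normalizer (Q : Set G) := hAB.trans hBQ
  have hQA : Q ∈ Cfsg.invSubgroups ⊤ A {q} := ⟨le_top, hQ.1.2.1, hAQ⟩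
  obtain ⟨M, hM, hQM⟩ := exists_max A q Q hQA
  by_cases hne : Q = M
  · rw [hne]; exact hM
  exfalso
  have hMq : IsPGroup q ↥M := inv_isPGroup hM.1
  obtain ⟨x, hxM, hxN, hxQ⟩ :=
    Cfsg.Agent.Helper9.Trans.exists_normalizer_not_mem M Q hMq hQM hne
  have hQtop : Q ≠ ⊤ := by
    intro h
    apply hA.1
    obtain ⟨k, hk⟩ := IsPGroup.iff_card.1 hQq
    have hd : Nat.card ↥A ∣ q ^ k := by
      rw [← hk]; exact Subgroup.card_dvd_of_le (h ▸ le_top)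
    have hc : (Nat.card ↥A).Coprime (q ^ k) :=
      Nat.Coprime.pow_right k ((Nat.Prime.coprime_iff_not_dvd hq).mpr hqA).symm
    exact Subgroup.eq_bot_of_card_eq _ (Nat.Coprime.eq_one_of_dvd hc hd)
  have hN := normalizer_ne_top hG Q hQ1 hQtop
  obtain ⟨N, hNdef⟩ : ∃ N : Subgroup G, N = Subgroup.normalizer (Q : Set G) := ⟨_, rfl⟩
  rw [← hNdef] at hN hxN
  have hBN : B ≤ N := by rw [hNdef]; exact hBQ
  have hAN : A ≤ N := hAB.trans hBN
  have hQN : Q ≤ N := by rw [hNdef]; exact Subgroup.le_normalizer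
  obtain ⟨L, hL⟩ : ∃ L : Subgroup G, L = Cfsg.piCoreOf (Cfsg.primesNotDvd (Nat.card ↥A)) N :=
    ⟨_, rfl⟩
  have hBsol : Group.IsSolvable ↥B := hG.2.2.2 B hB
  have hBL : B ≤ Subgroup.normalizer (L : Set G) := by
    intro b hb; rw [hL]; exact pco_norm _ N b (hBN hb)
  have hcop : (Nat.card ↥B).Coprime (Nat.card ↥L) := by
    rw [hL]; exact cop_of A B _ hBπ (pco_isPi _ N)
  have hRL : M ⊓ N ≤ L := by
    rw [hL]
    apply inv_le hA N hN hAN _ inf_le_right (qpi A q hq hqA _ (hMq.to_le inf_le_left))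
    intro a ha
    apply Cfsg.Agent.Helper14.mem_normalizer_inf _ _ _ (hM.1.2.2 ha)
    exact Subgroup.le_normalizer (hAN ha)
  have hQL : Q ≤ L := fun y hy => hRL ⟨hQM hy, hQN hy⟩
  obtain ⟨P₁, hUP₁, hAP₁⟩ :=
    Cfsg.Agent.S0025.result B L hBL hcop (Or.inl hBsol) q Q hQL hQq hBQ
  have hS : (P₁ : Subgroup ↥L).map L.subtype ∈ Cfsg.invSubgroups ⊤ B {q} :=
    inv_of_isPGroup hq (P₁.isPGroup'.map _) hAP₁
  have hSQ : (P₁ : Subgroup ↥L).map L.subtype = Q := hQ.2 _ hS hUP₁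
  have hR'q : IsPGroup q ↥((M ⊓ N).subgroupOf L) := (hMq.to_le inf_le_left).comap_subtype
  obtain ⟨P₂, hP₂⟩ := IsPGroup.exists_le_sylow hR'q
  have hc1 : Nat.card ↥(M ⊓ N : Subgroup G) ≤ Nat.card ↥(P₂ : Subgroup ↥L) := by
    rw [← Nat.card_congr (Subgroup.subgroupOfEquivOfLe hRL).toEquiv]
    exact Subgroup.card_le_of_le hP₂
  have hc2 : Nat.card ↥(P₂ : Subgroup ↥L) = Nat.card ↥Q := by
    rw [← hSQ, Subgroup.card_map_of_injective (Subgroup.subtype_injective _)]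
    have e1 := Sylow.card_eq_multiplicity P₂
    have e2 := Sylow.card_eq_multiplicity P₁
    exact e1.trans e2.symm
  have hEq : Q = M ⊓ N := Subgroup.eq_of_le_of_card_ge (fun y hy => ⟨hQM hy, hQN hy⟩)
    (hc2 ▸ hc1)
  apply hxQ
  rw [hEq]
  exact ⟨hxM, hxN⟩

/-- The inductive statement along a subnormal chain. -/
def Good (A : Subgroup G) (q : ℕ) (B : Subgroup G) : Prop :=
  Cfsg.maxInvSubgroups ⊤ B {q} ⊆ Cfsg.maxInvSubgroups ⊤ A {q} ∧
  ∀ Q₁ ∈ Cfsg.maxInvSubgroups ⊤ B {q}, ∀ Q₂ ∈ Cfsg.maxInvSubgroups ⊤ B {q},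
    ∃ k ∈ Cfsg.piCoreOf (Cfsg.primesNotDvd (Nat.card ↥A)) (Subgroup.centralizer (A : Set G)) ⊓
        Subgroup.centralizer (B : Set G), Q₂ = Q₁.map (MulAut.conj k).toMonoidHom

theorem step [Finite G] (hG : Cfsg.IsMinSimpleOddOrder G) {A : Subgroup G}
    (hA : Cfsg.TransitivityHypothesis A) (q : ℕ) [Fact q.Prime] (hqA : ¬ q ∣ Nat.card ↥A)
    (B B' : Subgroup G) (hAB : A ≤ B) (hBB' : B ≤ B')
    (hB'N : B' ≤ Subgroup.normalizer (B : Set G)) (hB' : B' ≠ ⊤)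
    (hB'π : ∀ r : ℕ, r.Prime → r ∣ Nat.card ↥B' → r ∣ Nat.card ↥A)
    (hgood : Good A q B) : Good A q B' := by
  have hq : q.Prime := Fact.out
  obtain ⟨KB, hKB⟩ : ∃ KB : Subgroup G, KB =
      Cfsg.piCoreOf (Cfsg.primesNotDvd (Nat.card ↥A)) (Subgroup.centralizer (A : Set G)) ⊓
        Subgroup.centralizer (B : Set G) := ⟨_, rfl⟩
  have hKBC : KB ≤ Subgroup.centralizer (B : Set G) := by rw [hKB]; exact inf_le_right
  have hKB' : KB = Cfsg.piCoreOf (Cfsg.primesNotDvd (Nat.card ↥A))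
      (Subgroup.centralizer (B : Set G)) := by rw [hKB]; exact a_gen hG hA B hAB
  have hB'KB : B' ≤ Subgroup.normalizer (KB : Set G) := by
    intro b hb
    rw [hKB']
    exact pco_char _ _ b (norm_cent B b (hB'N hb))
  have hcop : (Nat.card ↥B').Coprime (Nat.card ↥KB) := by
    rw [hKB']; exact cop_of A B' _ hB'π (pco_isPi _ _)
  have hsolv : Group.IsSolvable ↥KB := by
    have hN := normalizer_ne_top hG A hA.1 hA.2.1
    have hle : KB ≤ Subgroup.normalizer (A : Set G) := by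
      rw [hKB]
      exact inf_le_left.trans ((pco_le _ _).trans (Subgroup.centralizer_le_normalizer _))
    exact isSolvable_of_le hle (hG.2.2.2 _ hN)
  unfold Good at hgood
  rw [← hKB] at hgood
  obtain ⟨hsub, htr⟩ := hgood
  have h5 : ∀ Q ∈ Cfsg.maxInvSubgroups ⊤ B {q}, ∃ g ∈ KB,
      Q.map (MulAut.conj g).toMonoidHom ∈ Cfsg.maxInvSubgroups ⊤ B {q} ∧
      B' ≤ Subgroup.normalizer ((Q.map (MulAut.conj g).toMonoidHom : Subgroup G) : Set G) := by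
    intro Q hQ
    have hT : ∀ b ∈ B', ∃ g ∈ KB, g * b ∈ Subgroup.normalizer (Q : Set G) := by
      intro b hb
      have h1 := max_conj' hQ b (hB'N hb)
      obtain ⟨k, hk, e⟩ := htr _ h1 Q hQ
      refine ⟨k, hk, ?_⟩
      apply Cfsg.Agent.Helper9.mem_normalizer_of_conj_le
      intro y hy
      have h2 : (k * b) * y * (k * b)⁻¹ ∈
          (Q.map (MulAut.conj b).toMonoidHom).map (MulAut.conj k).toMonoidHom := by
        refine ⟨b * y * b⁻¹, ⟨y, hy, rfl⟩, ?_⟩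
        simp only [MulEquiv.coe_toMonoidHom, MulAut.conj_apply]
        group
      rw [← e] at h2
      exact h2
    obtain ⟨g, hg, hgB⟩ := Cfsg.Agent.Helper3.HallInv.glauberman_rel B' KB
      (Subgroup.normalizer (Q : Set G)) hB'KB hcop hsolv hT
    refine ⟨g⁻¹, inv_mem hg, max_conj' hQ g⁻¹
      (Subgroup.centralizer_le_normalizer _ (hKBC (inv_mem hg))), ?_⟩
    intro a ha
    rw [conjTo_normalizer (conjTo_map g⁻¹ Q) a]
    simpa using hgB a ha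
  have h6a : ∀ Q ∈ Cfsg.maxInvSubgroups ⊤ B {q}, B' ≤ Subgroup.normalizer (Q : Set G) →
      Q ∈ Cfsg.maxInvSubgroups ⊤ B' {q} := by
    intro Q hQ hB'Q
    refine ⟨⟨le_top, hQ.1.2.1, hB'Q⟩, ?_⟩
    intro R hR hQR
    exact hQ.2 R ⟨le_top, hR.2.1, hBB'.trans hR.2.2⟩ hQR
  have h6b : ∀ Q ∈ Cfsg.maxInvSubgroups ⊤ B' {q},
      Q ∈ Cfsg.maxInvSubgroups ⊤ A {q} ∧ Q ∈ Cfsg.maxInvSubgroups ⊤ B {q} := by
    intro Q hQ
    by_cases hQ1 : Q = ⊥
    · obtain ⟨Q₀, hQ₀, -⟩ := exists_max B q ⊥ (bot_inv B q hq)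
      obtain ⟨g, hg, hQ₁, hB'Q₁⟩ := h5 Q₀ hQ₀
      have h1 := h6a _ hQ₁ hB'Q₁
      have h2 := hQ.2 _ h1.1 (hQ1 ▸ bot_le)
      rw [← h2]
      exact ⟨hsub hQ₁, hQ₁⟩
    · have hA' := lemD hG hA q hqA B' (hAB.trans hBB') hB' hB'π Q hQ hQ1
      refine ⟨hA', ⟨le_top, hQ.1.2.1, hBB'.trans hQ.1.2.2⟩, ?_⟩
      intro R hR hQR
      exact hA'.2 R ⟨le_top, hR.2.1, hAB.trans hR.2.2⟩ hQR
  refine ⟨fun Q hQ => (h6b Q hQ).1, ?_⟩
  intro Q₁ hQ₁ Q₂ hQ₂
  obtain ⟨k, hk, e⟩ := htr Q₁ (h6b Q₁ hQ₁).2 Q₂ (h6b Q₂ hQ₂).2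
  obtain ⟨c, hc, e'⟩ := conj_fixed B' KB hB'KB hcop hsolv Q₁ Q₂ hQ₁.1.2.2 hQ₂.1.2.2 k hk
    (by rw [e]; exact conjTo_map k Q₁)
  refine ⟨c, ⟨?_, hc.2⟩, e'⟩
  have h3 := hc.1
  rw [hKB] at h3
  exact h3.1

theorem chain [Finite G] (hG : Cfsg.IsMinSimpleOddOrder G) {A : Subgroup G}
    (hA : Cfsg.TransitivityHypothesis A) (q : ℕ) [Fact q.Prime] (hqA : ¬ q ∣ Nat.card ↥A)
    (P : Subgroup G) (hP : P ≠ ⊤)
    (hPπ : ∀ r : ℕ, r.Prime → r ∣ Nat.card ↥P → r ∣ Nat.card ↥A) :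
    ∀ H : Subgroup ↥P, H.IsSubnormal → A ≤ H.map P.subtype → Good A q (H.map P.subtype) →
      Good A q P := by
  intro H hH
  induction hH with
  | top =>
    intro _ h
    have e : (⊤ : Subgroup ↥P).map P.subtype = P := by
      rw [← MonoidHom.range_eq_map, Subgroup.range_subtype]
    rwa [e] at h
  | step H K hHK hK hN ih =>
    intro hAH h
    apply ih (hAH.trans (Subgroup.map_mono hHK))
    have hKP : K.map P.subtype ≤ P := by rintro _ ⟨y, -, rfl⟩; exact y.2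
    apply step hG hA q hqA (H.map P.subtype) (K.map P.subtype) hAH (Subgroup.map_mono hHK) _ _ _ h
    · intro x hx
      obtain ⟨k, hk, rfl⟩ := hx
      apply Cfsg.Agent.Helper9.mem_normalizer_of_conj_le
      rintro _ ⟨h', hh', rfl⟩
      have h1 := hN.conj_mem ⟨h', hHK hh'⟩ (Subgroup.mem_subgroupOf.mpr hh') ⟨k, hk⟩
      rw [Subgroup.mem_subgroupOf] at h1
      exact ⟨k * h' * k⁻¹, h1, rfl⟩
    · intro h'
      apply hP
      exact top_le_iff.mp (h' ▸ hKP)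
    · intro r hr hd
      exact hPπ r hr (hd.trans (Subgroup.card_dvd_of_le hKP))

theorem partD [Finite G] (P Q KP : Subgroup G)
    (hKPC : KP ≤ Subgroup.centralizer (P : Set G))
    (hKPn : Subgroup.normalizer (P : Set G) ≤ Subgroup.normalizer (KP : Set G))
    (hcop : (Nat.card ↥P).Coprime (Nat.card ↥KP))
    (hPQ : P ≤ Subgroup.normalizer (Q : Set G))
    (htr : ∀ x ∈ Subgroup.normalizer (P : Set G), ∃ k ∈ KP,
      k⁻¹ * x ∈ Subgroup.normalizer (Q : Set G)) :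
    P ⊓ ⁅Subgroup.normalizer (P : Set G), Subgroup.normalizer (P : Set G)⁆ ≤
        ⁅Subgroup.normalizer (Q : Set G), Subgroup.normalizer (Q : Set G)⁆ ∧
      Subgroup.normalizer (P : Set G) =
        KP ⊔ (Subgroup.normalizer (P : Set G) ⊓ Subgroup.normalizer (Q : Set G)) := by
  obtain ⟨N, hN⟩ : ∃ N : Subgroup G, N = Subgroup.normalizer (P : Set G) := ⟨_, rfl⟩
  have hPN : P ≤ N := by rw [hN]; exact Subgroup.le_normalizer
  rw [← hN] at hKPn htr ⊢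
  obtain ⟨N₁, hN₁⟩ : ∃ N₁ : Subgroup G, N₁ = N ⊓ Subgroup.normalizer (Q : Set G) := ⟨_, rfl⟩
  rw [← hN₁]
  have hKPN : KP ≤ N := by
    rw [hN]; exact hKPC.trans (Subgroup.centralizer_le_normalizer _)
  have hN₁N : N₁ ≤ N := by rw [hN₁]; exact inf_le_left
  have hdecomp : ∀ x ∈ N, ∃ k ∈ KP, ∃ m ∈ N₁, x = k * m := by
    intro x hx
    obtain ⟨k, hk, hkx⟩ := htr x hx
    refine ⟨k, hk, k⁻¹ * x, ?_, by group⟩
    rw [hN₁]; exact Subgroup.mem_inf.mpr ⟨N.mul_mem (N.inv_mem (hKPN hk)) hx, hkx⟩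
  have hconj : ∀ n ∈ N, ∀ k ∈ KP, n * k * n⁻¹ ∈ KP := fun n hn k hk =>
    (Subgroup.mem_normalizer_iff.mp (hKPn hn) k).mp hk
  have hself : ⁅N₁, N₁⁆ ≤ N₁ := by
    rw [Subgroup.commutator_le]
    intro g₁ hg₁ g₂ hg₂
    rw [commutatorElement_def]
    exact mul_mem (mul_mem (mul_mem hg₁ hg₂) (inv_mem hg₁)) (inv_mem hg₂)
  have hcomm : ⁅N, N⁆ ≤ KP ⊔ ⁅N₁, N₁⁆ := by
    rw [Subgroup.commutator_le]
    intro g₁ hg₁ g₂ hg₂
    obtain ⟨k₁, hk₁, n₁, hn₁, rfl⟩ := hdecomp g₁ hg₁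
    obtain ⟨k₂, hk₂, n₂, hn₂, rfl⟩ := hdecomp g₂ hg₂
    have hn₁' := hN₁N hn₁
    have hn₂' := hN₁N hn₂
    have e : ⁅k₁ * n₁, k₂ * n₂⁆ = (k₁ * (n₁ * k₂ * n₁⁻¹) *
        ((n₁ * n₂ * n₁⁻¹) * k₁⁻¹ * (n₁ * n₂ * n₁⁻¹)⁻¹) *
        ((n₁ * n₂ * n₁⁻¹ * n₂⁻¹) * k₂⁻¹ * (n₁ * n₂ * n₁⁻¹ * n₂⁻¹)⁻¹)) * ⁅n₁, n₂⁆ := by
      simp only [commutatorElement_def]; group
    rw [e]
    apply Subgroup.mul_mem_sup _ (Subgroup.commutator_mem_commutator hn₁ hn₂)
    exact mul_mem (mul_mem (mul_mem hk₁ (hconj n₁ hn₁' k₂ hk₂))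
      (hconj _ (mul_mem (mul_mem hn₁' hn₂') (inv_mem hn₁')) _ (inv_mem hk₁)))
      (hconj _ (mul_mem (mul_mem (mul_mem hn₁' hn₂') (inv_mem hn₁')) (inv_mem hn₂')) _
        (inv_mem hk₂))
  constructor
  · intro x hx
    obtain ⟨hxP, hxc⟩ := Subgroup.mem_inf.mp hx
    have hnorm : ⁅N₁, N₁⁆ ≤ Subgroup.normalizer (KP : Set G) :=
      hself.trans (hN₁N.trans hKPn)
    obtain ⟨k, hk, m, hm, rfl⟩ :=
      Cfsg.Agent.Helper14.exists_mul_of_mem_sup_normalizer KP ⁅N₁, N₁⁆ hnorm (hcomm hxc)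
    have hkx : (k * m) * k = k * (k * m) :=
      Subgroup.mem_centralizer_iff.mp (hKPC hk) (k * m) hxP
    have hmk : Commute k m := by
      have : m * k = k * m := by
        apply mul_left_cancel (a := k)
        rw [← mul_assoc]; exact hkx
      exact this.symm
    have hpow : (k * m) ^ Nat.card ↥P = 1 := by
      have h1 : (⟨k * m, hxP⟩ : ↥P) ^ Nat.card ↥P = 1 := pow_card_eq_one'
      have h2 : ((⟨k * m, hxP⟩ : ↥P) ^ Nat.card ↥P : ↥P).1 = (1 : G) := by rw [h1]; rfl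
      rw [Subgroup.coe_pow] at h2
      exact h2
    rw [hmk.mul_pow] at hpow
    have hkn : k ^ Nat.card ↥P ∈ ⁅N₁, N₁⁆ := by
      have e : k ^ Nat.card ↥P = (m ^ Nat.card ↥P)⁻¹ := eq_inv_of_mul_eq_one_left hpow
      rw [e]; exact inv_mem (pow_mem hm _)
    have hkc : (Nat.card ↥P).Coprime (orderOf k) :=
      Nat.Coprime.coprime_dvd_right (Subgroup.orderOf_dvd_natCard KP hk) hcop
    obtain ⟨j, hj⟩ := exists_pow_eq_self_of_coprime hkc
    have hkm : k ∈ ⁅N₁, N₁⁆ := by rw [← hj]; exact pow_mem hkn _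
    have hfin : k * m ∈ ⁅N₁, N₁⁆ := mul_mem hkm hm
    have hmono : ⁅N₁, N₁⁆ ≤ ⁅Subgroup.normalizer (Q : Set G), Subgroup.normalizer (Q : Set G)⁆ :=
      Subgroup.commutator_mono (by rw [hN₁]; exact inf_le_right) (by rw [hN₁]; exact inf_le_right)
    exact hmono hfin
  · apply le_antisymm
    · intro x hx
      obtain ⟨k, hk, m, hm, rfl⟩ := hdecomp x hx
      exact Subgroup.mul_mem_sup hk hm
    · exact sup_le hKPN hN₁N

theorem main [Finite G] (hG : Cfsg.IsMinSimpleOddOrder G)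
    (A : Subgroup G) (hA : Cfsg.TransitivityHypothesis A) (q : ℕ) (hq : q.Prime) (hqA : ¬ q ∣ Nat.card A)
    (P : Subgroup G) (hP : P ≠ ⊤) (hPπ : (∀ r : ℕ, r.Prime → r ∣ Nat.card P → r ∣ Nat.card A)) (hAP : A ≤ P) (hsn : (A.subgroupOf P).IsSubnormal)
    (htr : ∀ Q₁ ∈ Cfsg.maxInvSubgroups ⊤ A {q}, ∀ Q₂ ∈ Cfsg.maxInvSubgroups ⊤ A {q}, ∃ k ∈ Cfsg.piCoreOf (Cfsg.primesNotDvd (Nat.card A)) (Subgroup.centralizer (A : Set G)), Q₂ = Q₁.map (MulAut.conj k).toMonoidHom) :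
    Cfsg.piCoreOf (Cfsg.primesNotDvd (Nat.card A)) (Subgroup.centralizer (A : Set G)) ⊓ Subgroup.centralizer (P : Set G) = Cfsg.piCoreOf (Cfsg.primesNotDvd (Nat.card A)) (Subgroup.centralizer (P : Set G)) ∧
      (∀ Q₁ ∈ Cfsg.maxInvSubgroups ⊤ P {q}, ∀ Q₂ ∈ Cfsg.maxInvSubgroups ⊤ P {q}, ∃ k ∈ Cfsg.piCoreOf (Cfsg.primesNotDvd (Nat.card A)) (Subgroup.centralizer (P : Set G)), Q₂ = Q₁.map (MulAut.conj k).toMonoidHom) ∧
      Cfsg.maxInvSubgroups ⊤ P {q} ⊆ Cfsg.maxInvSubgroups ⊤ A {q} ∧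
      ∀ Q ∈ Cfsg.maxInvSubgroups ⊤ P {q},
        P ⊓ ⁅Subgroup.normalizer (P : Set G), Subgroup.normalizer (P : Set G)⁆ ≤ ⁅Subgroup.normalizer (Q : Set G), Subgroup.normalizer (Q : Set G)⁆ ∧
        Subgroup.normalizer (P : Set G) = Cfsg.piCoreOf (Cfsg.primesNotDvd (Nat.card A)) (Subgroup.centralizer (P : Set G)) ⊔ (Subgroup.normalizer (P : Set G) ⊓ Subgroup.normalizer (Q : Set G)) := by
  haveI : Fact q.Prime := ⟨hq⟩
  have ha := a_gen hG hA P hAP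
  have hgoodA : Good A q A := by
    refine ⟨fun Q hQ => hQ, ?_⟩
    intro Q₁ h₁ Q₂ h₂
    obtain ⟨k, hk, e⟩ := htr Q₁ h₁ Q₂ h₂
    exact ⟨k, ⟨hk, pco_le _ _ hk⟩, e⟩
  have hgoodP : Good A q P := by
    apply chain hG hA q hqA P hP hPπ (A.subgroupOf P) hsn
    · rw [Subgroup.map_subgroupOf_eq_of_le hAP]
    · rw [Subgroup.map_subgroupOf_eq_of_le hAP]; exact hgoodA
  obtain ⟨hc, hb⟩ := hgoodP
  rw [ha] at hb
  refine ⟨ha, hb, hc, ?_⟩
  intro Q hQ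
  apply partD P Q _ (pco_le _ _) (fun x hx => pco_char _ _ x (norm_cent P x hx))
    (cop_of A P _ hPπ (pco_isPi _ _)) hQ.1.2.2
  intro x hx
  have h1 := max_conj' hQ x hx
  obtain ⟨k, hk, e⟩ := hb Q hQ _ h1
  refine ⟨k, hk, ?_⟩
  apply Cfsg.Agent.Helper9.mem_normalizer_of_conj_le
  intro y hy
  have h2 : x * y * x⁻¹ ∈ Q.map (MulAut.conj x).toMonoidHom := ⟨y, hy, rfl⟩
  rw [e, Cfsg.Agent.Helper14.mem_map_conj] at h2
  have e2 : k⁻¹ * x * y * (k⁻¹ * x)⁻¹ = k⁻¹ * (x * y * x⁻¹) * k := by group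
  rw [e2]; exact h2

end Cfsg.Agent.Helper21.SubnTrans
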