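-- helper21: maximal local subgroups whose Fitting subgroup has two primes: invariant subgroups
import Mathlib
import Cfsg.Prelude.Def_OddOrderLocal
import Cfsg.Prelude.Def_OddOrder
import Cfsg.Agent.Helper21.BenderU
import Cfsg.Agent.Helper21.SubnTrans
import Cfsg.Agent.S1264
import Cfsg.Agent.S1326
import Cfsg.Agent.S0022
import Cfsg.Agent.S0023
import Cfsg.Agent.S0026
import Cfsg.Agent.Helper23.FixedLift

set_option autoImplicit false

namespace Cfsg.Agent.Helper21.LocalF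

open Cfsg Cfsg.Agent.S1312 Cfsg.Agent.Helper21.BenderU Cfsg.Agent.S0001 Cfsg.Agent.Lead
open Cfsg.Agent.Helper21.TransHyp
open scoped commutatorElement

universe u

variable {G : Type u} [Group G]

/-- decomposition of an element into its `r`-part and `r'`-part -/
theorem dec [Finite G] (m : G) (r : ℕ) (hr : r.Prime) :
    ∃ w t : G, m = w * t ∧ w ∈ Subgroup.zpowers m ∧ t ∈ Subgroup.zpowers m ∧
      (∃ k : ℕ, t ^ r ^ k = 1) ∧ (orderOf w).Coprime r := by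
  obtain ⟨e, n', hn', hn⟩ := Nat.exists_eq_pow_mul_and_not_dvd (orderOf_pos m).ne' r hr.ne_one
  have hc : Nat.Coprime (r ^ e) n' :=
    Nat.Coprime.pow_left e ((Nat.Prime.coprime_iff_not_dvd hr).mpr hn')
  have hb := Nat.gcd_eq_gcd_ab (r ^ e) n'
  rw [hc.gcd_eq_one] at hb
  refine ⟨(m ^ (r ^ e)) ^ (Nat.gcdA (r ^ e) n'), (m ^ n') ^ (Nat.gcdB (r ^ e) n'), ?_, ?_, ?_,
    ⟨e, ?_⟩, ?_⟩
  · rw [← zpow_natCast m (r ^ e), ← zpow_natCast m n', ← zpow_mul, ← zpow_mul, ← zpow_add]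
    have : ((r ^ e : ℕ) : ℤ) * Nat.gcdA (r ^ e) n' + (n' : ℤ) * Nat.gcdB (r ^ e) n' = 1 := by
      rw [← hb]; rfl
    rw [this, zpow_one]
  · exact Subgroup.zpow_mem _ (Subgroup.pow_mem _ (Subgroup.mem_zpowers m) _) _
  · exact Subgroup.zpow_mem _ (Subgroup.pow_mem _ (Subgroup.mem_zpowers m) _) _
  · rw [← zpow_natCast, ← zpow_mul, mul_comm, zpow_mul, zpow_natCast, ← pow_mul, mul_comm,
      ← hn, pow_orderOf_eq_one, one_zpow]
  · have h1 : ((m ^ (r ^ e)) ^ (Nat.gcdA (r ^ e) n')) ^ n' = 1 := by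
      rw [← zpow_natCast, ← zpow_mul, mul_comm, zpow_mul, zpow_natCast, ← pow_mul, ← hn,
        pow_orderOf_eq_one, one_zpow]
    have h2 := orderOf_dvd_of_pow_eq_one h1
    exact Nat.Coprime.coprime_dvd_left h2 ((Nat.Prime.coprime_iff_not_dvd hr).mpr hn').symm

/-- in `F(Y)`, elements of `O_r(Y)` commute with `r'`-elements -/
theorem cr [Finite G] (Y : Subgroup G) (r : ℕ) [hr : Fact r.Prime] (u w : G) (hu : u ∈ O Y r)
    (hw : w ∈ Fi Y) (hwo : (orderOf w).Coprime r) : u * w = w * u := by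
  obtain ⟨N₂, hN₂⟩ : ∃ N₂ : Subgroup G, N₂ = ⨆ s : {s : Nat.Primes // (s : ℕ) ≠ r}, O Y (s : Nat.Primes) :=
    ⟨_, rfl⟩
  have hcomm : ∀ x ∈ O Y r, ∀ n ∈ N₂, x * n = n * x := by
    intro x hx n hn
    have hle : N₂ ≤ Subgroup.centralizer ({x} : Set G) := by
      rw [hN₂]
      apply iSup_le
      intro s y hy
      rw [Subgroup.mem_centralizer_iff]
      intro z hz
      rw [Set.mem_singleton_iff] at hz
      rw [hz]
      haveI : Fact ((s : Nat.Primes) : ℕ).Prime := ⟨(s : Nat.Primes).2⟩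
      exact comm_O_ne Y r _ (Ne.symm s.2) x hx y hy
    exact Subgroup.mem_centralizer_iff.mp (hle hn) x rfl
  have hF : Fi Y ≤ O Y r ⊔ N₂ := by
    unfold Fi
    rw [Cfsg.Agent.Helper1.fitting_eq_iSup_primes, Subgroup.map_iSup]
    apply iSup_le
    intro s
    by_cases hs : (s : ℕ) = r
    · have : Subgroup.map Y.subtype (Cfsg.pCore (s : ℕ) ↥Y) = O Y r := by rw [hs]; rfl
      rw [this]; exact le_sup_left
    · refine le_trans ?_ le_sup_right
      rw [hN₂]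
      exact le_iSup (fun s : {s : Nat.Primes // (s : ℕ) ≠ r} => O Y (s : Nat.Primes)) ⟨s, hs⟩
  have hnorm : N₂ ≤ Subgroup.normalizer (O Y r : Set G) := by
    apply Cfsg.Agent.Helper7.le_normalizer_of_conj_mem
    intro n hn x hx
    have h1 := hcomm x hx n hn
    have e : n * x * n⁻¹ = x := by rw [← h1]; group
    rw [e]; exact hx
  obtain ⟨u₀, hu₀, n₀, hn₀, rfl⟩ :=
    Cfsg.Agent.Helper14.exists_mul_of_mem_sup_normalizer (O Y r) N₂ hnorm (hF hw)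
  obtain ⟨k, hk⟩ := IsPGroup.iff_card.1 (O_isPGroup Y r)
  have hu₀k : u₀ ^ r ^ k = 1 := by
    have h1 : (⟨u₀, hu₀⟩ : ↥(O Y r)) ^ Nat.card ↥(O Y r) = 1 := pow_card_eq_one'
    rw [hk] at h1
    have h2 := congrArg Subtype.val h1
    simpa using h2
  have hpow : (u₀ * n₀) ^ r ^ k = n₀ ^ r ^ k := by
    rw [(show Commute u₀ n₀ from hcomm u₀ hu₀ n₀ hn₀).mul_pow, hu₀k, one_mul]
  have hcop : (r ^ k).Coprime (orderOf (u₀ * n₀)) := Nat.Coprime.pow_left k hwo.symm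
  obtain ⟨i, hi⟩ := exists_pow_eq_self_of_coprime hcop
  have hun : Commute u (n₀ ^ r ^ k) := (show Commute u n₀ from hcomm u hu n₀ hn₀).pow_right _
  rw [← hpow] at hun
  have h3 : Commute u (((u₀ * n₀) ^ r ^ k) ^ i) := hun.pow_right i
  rw [hi] at h3
  exact h3

theorem O_eq_bot_of_not_dvd [Finite G] (Y : Subgroup G) (r : ℕ) [hr : Fact r.Prime]
    (h : ¬ r ∣ Nat.card ↥(Fi Y)) : O Y r = ⊥ := by
  obtain ⟨k, hk⟩ := IsPGroup.iff_card.1 (O_isPGroup Y r)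
  have hd : Nat.card ↥(O Y r) ∣ Nat.card ↥(Fi Y) := Subgroup.card_dvd_of_le (O_le_Fi Y r)
  apply Subgroup.eq_bot_of_card_eq
  rcases Nat.eq_zero_or_pos k with h0 | h0
  · rw [hk, h0, pow_zero]
  · exfalso
    apply h
    have : r ∣ Nat.card ↥(O Y r) := by rw [hk]; exact dvd_pow_self r h0.ne'
    exact this.trans hd

/-- a subgroup of `H` of order prime to `|F(H)|` centralizing `M` centralizes `F(H)`
(`M ≤ F(H)`, `C_F(M) ≤ M`). -/
theorem centF [Finite G] (H M : Subgroup G) (hM : M ≤ Fi H)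
    (hCM : Fi H ⊓ Subgroup.centralizer (M : Set G) ≤ M) (Y₀ : Subgroup G) (hY₀H : Y₀ ≤ H)
    (hcop : (Nat.card ↥Y₀).Coprime (Nat.card ↥(Fi H)))
    (hY₀M : Y₀ ≤ Subgroup.centralizer (M : Set G)) :
    Y₀ ≤ Subgroup.centralizer (Fi H : Set G) := by
  intro y hy
  apply mem_centralizer_Fi
  intro r hr x hx
  haveI : Fact r.Prime := ⟨hr⟩
  by_cases hrd : r ∣ Nat.card ↥(Fi H)
  · have h1 : Y₀ ≤ Subgroup.centralizer (O H r : Set G) := by
      apply Cfsg.Agent.S0028.result r (M ⊓ O H r) Y₀ (O H r)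
        ((O_isPGroup H r).to_le inf_le_right) (Nat.Coprime.coprime_dvd_right hrd hcop)
        (O_isPGroup H r)
      · intro a ha
        rw [Subgroup.mem_centralizer_iff]
        intro b hb
        exact (Subgroup.mem_centralizer_iff.mp (hY₀M hb) a ha.1).symm
      · exact inf_le_right.trans Subgroup.le_normalizer
      · exact hY₀H.trans (le_norm_O H r)
      · intro u hu
        have huM : u ∈ Subgroup.centralizer (M : Set G) := by
          rw [Subgroup.mem_centralizer_iff]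
          intro m hm
          obtain ⟨w, t, hmwt, hw, ht, htk, hwo⟩ := dec m r hr
          have hzM : Subgroup.zpowers m ≤ M := (Subgroup.zpowers_le).mpr hm
          have htO : t ∈ O H r := mem_O_of_mem_Fi H r t (hM (hzM ht)) htk
          have h1 : t * u = u * t :=
            Subgroup.mem_centralizer_iff.mp hu.2 t ⟨hzM ht, htO⟩
          have h2 : u * w = w * u := cr H r u w hu.1 (hM (hzM hw)) hwo
          rw [hmwt]
          calc w * t * u = w * (t * u) := by group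
            _ = w * (u * t) := by rw [h1]
            _ = (w * u) * t := by group
            _ = (u * w) * t := by rw [h2]
            _ = u * (w * t) := by group
        have huM' : u ∈ M := hCM ⟨O_le_Fi H r hu.1, huM⟩
        rw [Subgroup.mem_centralizer_iff]
        intro b hb
        exact (Subgroup.mem_centralizer_iff.mp (hY₀M hb) u huM').symm
    exact (Subgroup.mem_centralizer_iff.mp (h1 hy) x hx).symm
  · rw [O_eq_bot_of_not_dvd H r hrd, Subgroup.mem_bot] at hx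
    rw [hx, one_mul, mul_one]

/-- `R ∩ C_H(F(H)) ≤ F(H)` for a solvable `R` normalized by `C_H(F(H))`. -/
theorem lemB [Finite G] (H R : Subgroup G) (hR : Group.IsSolvable ↥R)
    (hXR : H ⊓ Subgroup.centralizer (Fi H : Set G) ≤ Subgroup.normalizer (R : Set G)) :
    R ⊓ (H ⊓ Subgroup.centralizer (Fi H : Set G)) ≤ Fi H := by
  obtain ⟨X, hX⟩ : ∃ X : Subgroup G, X = H ⊓ Subgroup.centralizer (Fi H : Set G) := ⟨_, rfl⟩
  rw [← hX] at hXR ⊢
  have hXH : X ≤ H := by rw [hX]; exact inf_le_left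
  have hmemX : ∀ c : ↥H, c ∈ Subgroup.centralizer (Cfsg.fittingSubgroup ↥H : Set ↥H) →
      (c : G) ∈ X := by
    intro c hc
    rw [hX]
    refine Subgroup.mem_inf.mpr ⟨c.2, ?_⟩
    rw [Subgroup.mem_centralizer_iff]
    rintro _ ⟨f, hf, rfl⟩
    have := Subgroup.mem_centralizer_iff.mp hc f hf
    exact congrArg Subtype.val this
  have h1 := Cfsg.Agent.S1264.result (G := ↥H) ((R ⊓ X).subgroupOf H) ?_ ?_ ?_
  · intro y hy
    have hyH : y ∈ H := hXH hy.2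
    obtain ⟨z, -, hz⟩ := h1 (show (⟨y, hyH⟩ : ↥H) ∈ (R ⊓ X).subgroupOf H from
      Subgroup.mem_subgroupOf.mpr hy)
    refine ⟨(z : ↥H), z.2, ?_⟩
    have := congrArg Subtype.val hz
    exact this
  · intro x hx
    have hx' : (x : G) ∈ X := (Subgroup.mem_subgroupOf.mp hx).2
    rw [hX] at hx'
    rw [Subgroup.mem_centralizer_iff]
    intro f hf
    apply Subtype.ext
    exact Subgroup.mem_centralizer_iff.mp hx'.2 (f : G) ⟨f, hf, rfl⟩
  · apply Cfsg.Agent.Helper7.le_normalizer_of_conj_mem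
    intro c hc n hn
    have hcX := hmemX c hc
    rw [Subgroup.mem_subgroupOf] at hn ⊢
    refine ⟨Cfsg.Agent.Helper7.conj_mem_of_mem_normalizer (hXR hcX) hn.1, ?_⟩
    exact X.mul_mem (X.mul_mem hcX hn.2) (X.inv_mem hcX)
  · have hle : ∀ n : ↥((R ⊓ X).subgroupOf H), ((n : ↥H) : G) ∈ R :=
      fun n => (Subgroup.mem_subgroupOf.mp n.2).1
    haveI := hR
    exact Group.isSolvable_of_isSolvable_injective
      (f := ((H.subtype).comp ((R ⊓ X).subgroupOf H).subtype).codRestrict R hle)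
      (fun a b hab => by
        have := congrArg Subtype.val hab
        exact Subtype.ext (Subtype.ext this))

/-- lifting a fixed point modulo a normal subgroup of coprime order -/
theorem lift_fix [Finite G] (A N : Subgroup G) (hAN : A ≤ Subgroup.normalizer (N : Set G))
    (hcop : (Nat.card ↥A).Coprime (Nat.card ↥N))
    (hsolv : Group.IsSolvable ↥A ∨ Group.IsSolvable ↥N) (u : G)
    (huN : u ∈ Subgroup.normalizer (N : Set G)) (hfix : ∀ a ∈ A, a⁻¹ * u * a * u⁻¹ ∈ N) :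
    ∃ n ∈ N, n⁻¹ * u ∈ Subgroup.centralizer (A : Set G) := by
  obtain ⟨B, hB⟩ : ∃ B : Subgroup G, B = A.map (MulAut.conj u).toMonoidHom := ⟨_, rfl⟩
  have hBmem : ∀ x, x ∈ B ↔ u⁻¹ * x * u ∈ A := by
    intro x; rw [hB]; exact Cfsg.Agent.Helper14.mem_map_conj A u x
  have hsup : B ⊔ N = A ⊔ N := by
    apply le_antisymm
    · apply sup_le _ le_sup_right
      intro x hx
      have ha := (hBmem x).mp hx
      have h1 := hfix _ ha
      have e : x = (u⁻¹ * x * u) * ((u⁻¹ * x * u)⁻¹ * u * (u⁻¹ * x * u) * u⁻¹) := by group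
      rw [e]
      exact Subgroup.mul_mem_sup ha h1
    · apply sup_le _ le_sup_right
      intro a ha
      have hb : u * a * u⁻¹ ∈ B := by
        rw [hBmem]
        have e : u⁻¹ * (u * a * u⁻¹) * u = a := by group
        rw [e]; exact ha
      have h1 := N.inv_mem (hfix a ha)
      have e : a = (u * a * u⁻¹) * (a⁻¹ * u * a * u⁻¹)⁻¹ := by group
      rw [e]
      exact Subgroup.mul_mem_sup hb h1
  have hBcop : (Nat.card ↥B).Coprime (Nat.card ↥N) := by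
    have hBA : Nat.card ↥B = Nat.card ↥A := by
      rw [hB]; exact Subgroup.card_map_of_injective (MulAut.conj u).injective
    rw [hBA]; exact hcop
  obtain ⟨n, hn, hconj⟩ := conj_complement A N B hAN hcop hsolv hsup hBcop
  refine ⟨n, hn, ?_⟩
  rw [Subgroup.mem_centralizer_iff]
  intro a ha
  have hb : u * a * u⁻¹ ∈ B := by
    rw [hBmem]
    have e : u⁻¹ * (u * a * u⁻¹) * u = a := by group
    rw [e]; exact ha
  have h1 : n⁻¹ * (u * a * u⁻¹) * n ∈ A := (hconj _).mp hb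
  have hdA : (n⁻¹ * u) * a * (n⁻¹ * u)⁻¹ * a⁻¹ ∈ A := by
    have e : (n⁻¹ * u) * a * (n⁻¹ * u)⁻¹ * a⁻¹ = (n⁻¹ * (u * a * u⁻¹) * n) * a⁻¹ := by group
    rw [e]; exact A.mul_mem h1 (A.inv_mem ha)
  have hdN : (n⁻¹ * u) * a * (n⁻¹ * u)⁻¹ * a⁻¹ ∈ N := by
    have h2 : a * (a⁻¹ * u * a * u⁻¹) * a⁻¹ ∈ N :=
      Cfsg.Agent.Helper7.conj_mem_of_mem_normalizer (hAN ha) (hfix a ha)
    have h3 : a * n * a⁻¹ ∈ N := Cfsg.Agent.Helper7.conj_mem_of_mem_normalizer (hAN ha) hn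
    have e : (n⁻¹ * u) * a * (n⁻¹ * u)⁻¹ * a⁻¹
        = n⁻¹ * (a * (a⁻¹ * u * a * u⁻¹) * a⁻¹) * (a * n * a⁻¹) := by group
    rw [e]; exact N.mul_mem (N.mul_mem (N.inv_mem hn) h2) h3
  have hd : (n⁻¹ * u) * a * (n⁻¹ * u)⁻¹ * a⁻¹ ∈ A ⊓ N := ⟨hdA, hdN⟩
  rw [inf_eq_bot_of_coprime' hcop, Subgroup.mem_bot] at hd
  calc a * (n⁻¹ * u) = ((n⁻¹ * u) * a * (n⁻¹ * u)⁻¹ * a⁻¹)⁻¹ * ((n⁻¹ * u) * a) := by group
    _ = (n⁻¹ * u) * a := by rw [hd, inv_one, one_mul]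

/-- `O_p(Γ / O_π(Γ)) = 1` for `p ∈ π`. -/
theorem pc_bot {Γ : Type u} [Group Γ] [Finite Γ] (π : Set ℕ) (p : ℕ) [Fact p.Prime]
    (hp : p ∈ π) : Cfsg.pCore p (Γ ⧸ Cfsg.piCore π Γ) = ⊥ := by
  obtain ⟨E, hE⟩ : ∃ E : Subgroup Γ, E = (Cfsg.pCore p (Γ ⧸ Cfsg.piCore π Γ)).comap
      (QuotientGroup.mk' (Cfsg.piCore π Γ)) := ⟨_, rfl⟩
  haveI : (Cfsg.pCore p (Γ ⧸ Cfsg.piCore π Γ)).Normal := Cfsg.Agent.Helper1.pCore_normal p _
  haveI hEn : E.Normal := by rw [hE]; infer_instance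
  have hcard : Nat.card E = Nat.card (Cfsg.piCore π Γ) *
      Nat.card (Cfsg.pCore p (Γ ⧸ Cfsg.piCore π Γ)) := by
    rw [hE]; exact Cfsg.Agent.Helper1.card_comap_mk _ _
  have hle : E ≤ Cfsg.piCore π Γ := by
    apply Cfsg.Agent.Helper10.le_piCore E
    intro t ht htd
    rw [hcard] at htd
    rcases (Nat.Prime.dvd_mul ht).mp htd with h | h
    · exact Cfsg.Agent.Helper10.piCore_isPi π t ht h
    · obtain ⟨k, hk⟩ := IsPGroup.iff_card.1
        (Cfsg.Agent.Helper1.pCore_isPGroup p (Γ ⧸ Cfsg.piCore π Γ))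
      rw [hk] at h
      have : t = p := (Nat.prime_dvd_prime_iff_eq ht Fact.out).mp (ht.dvd_of_dvd_pow h)
      rw [this]; exact hp
  rw [Subgroup.eq_bot_iff_forall]
  intro x hx
  obtain ⟨g, rfl⟩ := QuotientGroup.mk'_surjective (Cfsg.piCore π Γ) x
  have hg : g ∈ E := by rw [hE]; exact hx
  exact (QuotientGroup.eq_one_iff g).mpr (hle hg)

/-- structure lemma: a `π`-subgroup of a solvable group whose image centralizes every
`O_r(Γ/O_π(Γ))`, `r ∉ π`, lies in `O_π(Γ)`. -/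
theorem sl {Γ : Type u} [Group Γ] [Finite Γ] (hsolv : Group.IsSolvable Γ) (π : Set ℕ)
    (Y : Subgroup Γ) (hY : ∀ p : ℕ, p.Prime → p ∣ Nat.card Y → p ∈ π)
    (hcen : ∀ r : ℕ, r.Prime → r ∉ π →
      Y.map (QuotientGroup.mk' (Cfsg.piCore π Γ)) ≤
        Subgroup.centralizer (Cfsg.pCore r (Γ ⧸ Cfsg.piCore π Γ) : Set (Γ ⧸ Cfsg.piCore π Γ))) :
    Y ≤ Cfsg.piCore π Γ := by
  obtain ⟨Yb, hYb⟩ : ∃ Yb : Subgroup (Γ ⧸ Cfsg.piCore π Γ),
      Yb = Y.map (QuotientGroup.mk' (Cfsg.piCore π Γ)) := ⟨_, rfl⟩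
  rw [← hYb] at hcen
  have hQsolv : Group.IsSolvable (Γ ⧸ Cfsg.piCore π Γ) := by
    haveI := hsolv
    exact Group.isSolvable_of_surjective (QuotientGroup.mk'_surjective (Cfsg.piCore π Γ))
  have hYF : Yb ≤ Cfsg.fittingSubgroup (Γ ⧸ Cfsg.piCore π Γ) := by
    have h1 := (Cfsg.Agent.S1326.result (X := Γ ⧸ Cfsg.piCore π Γ)).mpr
      (layer_eq_bot_of_solvable _ hQsolv)
    refine le_trans ?_ h1
    intro y hy
    have hle : Cfsg.fittingSubgroup (Γ ⧸ Cfsg.piCore π Γ) ≤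
        Subgroup.centralizer ({y} : Set (Γ ⧸ Cfsg.piCore π Γ)) := by
      rw [Cfsg.Agent.Helper1.fitting_eq_iSup_primes]
      apply iSup_le
      intro r x hx
      rw [Subgroup.mem_centralizer_iff]
      intro z hz
      rw [Set.mem_singleton_iff] at hz
      rw [hz]
      by_cases hr : (r : ℕ) ∈ π
      · haveI : Fact (r : ℕ).Prime := ⟨r.2⟩
        rw [pc_bot π r hr, Subgroup.mem_bot] at hx
        rw [hx, one_mul, mul_one]
      · exact (Subgroup.mem_centralizer_iff.mp (hcen r r.2 hr hy) x hx).symm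
    rw [Subgroup.mem_centralizer_iff]
    intro f hf
    exact (Subgroup.mem_centralizer_iff.mp (hle hf) y rfl).symm
  have hYb1 : Yb = ⊥ := by
    by_contra hne
    have hcard : Nat.card Yb ≠ 1 := fun h => hne (Subgroup.eq_bot_of_card_eq _ h)
    obtain ⟨p, hp, hpd⟩ := Nat.exists_prime_and_dvd hcard
    haveI : Fact p.Prime := ⟨hp⟩
    have hpY : p ∣ Nat.card Y := by
      have : Nat.card Yb ∣ Nat.card Y := by rw [hYb]; exact Subgroup.card_map_dvd _ _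
      exact hpd.trans this
    have hpπ := hY p hp hpY
    obtain ⟨x, hx⟩ := exists_prime_orderOf_dvd_card' p hpd
    have hxF : (x : Γ ⧸ Cfsg.piCore π Γ) ∈ Cfsg.fittingSubgroup (Γ ⧸ Cfsg.piCore π Γ) :=
      hYF x.2
    have hxk : ∃ k : ℕ, (x : Γ ⧸ Cfsg.piCore π Γ) ^ p ^ k = 1 := by
      refine ⟨1, ?_⟩
      rw [pow_one]
      have h2 : x ^ p = 1 := by rw [← hx]; exact pow_orderOf_eq_one x
      have h3 := congrArg Subtype.val h2
      simpa using h3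
    have hxO := mem_pCore_of_mem_fitting p (x : Γ ⧸ Cfsg.piCore π Γ) hxF hxk
    rw [pc_bot π p hpπ, Subgroup.mem_bot] at hxO
    have h4 : x = 1 := Subtype.ext hxO
    rw [h4, orderOf_one] at hx
    exact hp.one_lt.ne hx
  intro y hy
  have : QuotientGroup.mk' (Cfsg.piCore π Γ) y ∈ Yb := by rw [hYb]; exact ⟨y, hy, rfl⟩
  rw [hYb1, Subgroup.mem_bot] at this
  exact (QuotientGroup.eq_one_iff y).mp this

theorem cen_step [Finite G] (H M R Y : Subgroup G)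
    (hcentH : ∀ s : ℕ, s.Prime → O H s ≠ ⊥ → Subgroup.centralizer (zc H s : Set G) ≤ H)
    (hzM : ∀ s : ℕ, s.Prime → zc H s ≤ M)
    (hYR : Y ≤ R) (hYM : M ≤ Subgroup.normalizer (Y : Set G))
    (hYπ : ∀ p : ℕ, p.Prime → p ∣ Nat.card ↥Y → p ∈ Cfsg.primesNotDvd (Nat.card ↥(Fi H)))
    (hC : ∀ s : ℕ, s.Prime → O H s ≠ ⊥ → Y ⊓ Subgroup.centralizer (zc H s : Set G) = ⊥)
    (r s : ℕ) [hr : Fact r.Prime] [hs : Fact s.Prime] (hrs : r ≠ s)
    (hrd : r ∣ Nat.card ↥(Fi H)) (hsd : s ∣ Nat.card ↥(Fi H)) :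
    (Y.subgroupOf (R ⊔ M)).map (QuotientGroup.mk'
        (Cfsg.piCore (Cfsg.primesNotDvd (Nat.card ↥(Fi H))) ↥(R ⊔ M))) ≤
      Subgroup.centralizer (Cfsg.pCore r (↥(R ⊔ M) ⧸
        Cfsg.piCore (Cfsg.primesNotDvd (Nat.card ↥(Fi H))) ↥(R ⊔ M)) :
          Set (↥(R ⊔ M) ⧸ Cfsg.piCore (Cfsg.primesNotDvd (Nat.card ↥(Fi H))) ↥(R ⊔ M))) := by
  have hr1 : O H r ≠ ⊥ := O_ne_bot_of_dvd H r hrd
  have hs1 : O H s ≠ ⊥ := O_ne_bot_of_dvd H s hsd
  obtain ⟨Γ, hΓ⟩ : ∃ Γ : Subgroup G, Γ = R ⊔ M := ⟨_, rfl⟩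
  rw [← hΓ]
  obtain ⟨π', hπ'⟩ : ∃ π' : Set ℕ, π' = Cfsg.primesNotDvd (Nat.card ↥(Fi H)) := ⟨_, rfl⟩
  rw [← hπ'] at hYπ ⊢
  have hMΓ : M ≤ Γ := by rw [hΓ]; exact le_sup_right
  have hYΓ : Y ≤ Γ := by rw [hΓ]; exact hYR.trans le_sup_left
  have hzrΓ : zc H r ≤ Γ := (hzM r hr.out).trans hMΓ
  have hzsΓ : zc H s ≤ Γ := (hzM s hs.out).trans hMΓ
  obtain ⟨φ, hφ⟩ : ∃ φ : ↥Γ →* ↥Γ ⧸ Cfsg.piCore π' ↥Γ,
      φ = QuotientGroup.mk' (Cfsg.piCore π' ↥Γ) := ⟨_, rfl⟩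
  rw [← hφ]
  have hφker : ∀ x : ↥Γ, φ x = 1 ↔ x ∈ Cfsg.piCore π' ↥Γ := by
    intro x; rw [hφ]; exact QuotientGroup.eq_one_iff x
  have hφsurj : Function.Surjective φ := by
    rw [hφ]; exact QuotientGroup.mk'_surjective _
  obtain ⟨U, hU⟩ : ∃ U : Subgroup (↥Γ ⧸ Cfsg.piCore π' ↥Γ),
      U = Cfsg.pCore r (↥Γ ⧸ Cfsg.piCore π' ↥Γ) := ⟨_, rfl⟩
  rw [← hU]
  haveI hUn : U.Normal := by rw [hU]; exact Cfsg.Agent.Helper1.pCore_normal r _
  have hUp : IsPGroup r ↥U := by rw [hU]; exact Cfsg.Agent.Helper1.pCore_isPGroup r _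
  obtain ⟨zr, hzr⟩ : ∃ zr : Subgroup (↥Γ ⧸ Cfsg.piCore π' ↥Γ),
      zr = ((zc H r).subgroupOf Γ).map φ := ⟨_, rfl⟩
  obtain ⟨zs, hzs⟩ : ∃ zs : Subgroup (↥Γ ⧸ Cfsg.piCore π' ↥Γ),
      zs = ((zc H s).subgroupOf Γ).map φ := ⟨_, rfl⟩
  obtain ⟨yb, hyb⟩ : ∃ yb : Subgroup (↥Γ ⧸ Cfsg.piCore π' ↥Γ),
      yb = (Y.subgroupOf Γ).map φ := ⟨_, rfl⟩
  rw [← hyb]
  have hzrp : IsPGroup r ↥zr := by
    rw [hzr]; exact ((zc_isPGroup H r).comap_subtype).map φ
  have hzsp : IsPGroup s ↥zs := by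
    rw [hzs]; exact ((zc_isPGroup H s).comap_subtype).map φ
  have hUzs : U ⊓ zs = ⊥ := (IsPGroup.disjoint_of_ne r s hrs _ _ hUp hzsp).eq_bot
  have hrπ : r ∉ π' := by rw [hπ']; exact fun h => h.2 hrd
  -- (i) `zs` centralizes `U`
  have hzsU : zs ≤ Subgroup.centralizer (U : Set (↥Γ ⧸ Cfsg.piCore π' ↥Γ)) := by
    have hcop : (Nat.card ↥zs).Coprime r := by
      obtain ⟨k, hk⟩ := IsPGroup.iff_card.1 hzsp
      rw [hk]
      apply Nat.Coprime.pow_left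
      exact (Nat.coprime_primes hs.out hr.out).mpr (Ne.symm hrs)
    apply Cfsg.Agent.S0028.result r zr zs U hzrp hcop hUp
    · rw [hzr, hzs]
      rintro _ ⟨a, ha, rfl⟩
      rw [Subgroup.mem_centralizer_iff]
      rintro _ ⟨b, hb, rfl⟩
      have h1 : (b : G) * (a : G) = (a : G) * (b : G) :=
        Subgroup.mem_centralizer_iff.mp (Subgroup.mem_subgroupOf.mp ha).2 (b : G)
          (zc_le_Fi H s (Subgroup.mem_subgroupOf.mp hb))
      have h2 : b * a = a * b := Subtype.ext h1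
      rw [← map_mul, ← map_mul, h2]
    · rw [Subgroup.normalizer_eq_top]; exact le_top
    · rw [Subgroup.normalizer_eq_top]; exact le_top
    · rintro ub ⟨hubU, hubc⟩
      obtain ⟨u, rfl⟩ := hφsurj ub
      have hfix : ∀ a ∈ zc H r, a⁻¹ * (u : G) * a * (u : G)⁻¹ ∈ Cfsg.piCoreOf π' Γ := by
        intro a ha
        have haΓ : a ∈ Γ := hzrΓ ha
        have hc : φ ⟨a, haΓ⟩ * φ u = φ u * φ ⟨a, haΓ⟩ :=
          Subgroup.mem_centralizer_iff.mp hubc (φ ⟨a, haΓ⟩)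
            (by rw [hzr]; exact ⟨⟨a, haΓ⟩, Subgroup.mem_subgroupOf.mpr ha, rfl⟩)
        have h1 : φ ((⟨a, haΓ⟩ : ↥Γ)⁻¹ * u * ⟨a, haΓ⟩ * u⁻¹) = 1 := by
          rw [map_mul, map_mul, map_mul, map_inv, map_inv]
          calc (φ ⟨a, haΓ⟩)⁻¹ * φ u * φ ⟨a, haΓ⟩ * (φ u)⁻¹
              = (φ ⟨a, haΓ⟩)⁻¹ * (φ u * φ ⟨a, haΓ⟩) * (φ u)⁻¹ := by group
            _ = (φ ⟨a, haΓ⟩)⁻¹ * (φ ⟨a, haΓ⟩ * φ u) * (φ u)⁻¹ := by rw [hc]
            _ = 1 := by group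
        exact ⟨_, (hφker _).mp h1, rfl⟩
      have hAN : zc H r ≤ Subgroup.normalizer (Cfsg.piCoreOf π' Γ : Set G) :=
        fun a ha => pco_norm π' Γ a (hzrΓ ha)
      have hcopL : (Nat.card ↥(zc H r)).Coprime (Nat.card ↥(Cfsg.piCoreOf π' Γ)) := by
        obtain ⟨k, hk⟩ := IsPGroup.iff_card.1 (zc_isPGroup H r)
        rw [hk]
        apply Nat.Coprime.pow_left
        exact (Nat.Prime.coprime_iff_not_dvd hr.out).mpr
          (fun hd => hrπ (pco_isPi π' Γ r hr.out hd))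
      have hsolvz : Group.IsSolvable ↥(zc H r) := by
        haveI := (zc_isPGroup H r).isNilpotent
        infer_instance
      obtain ⟨n, hn, hcn⟩ := lift_fix (zc H r) (Cfsg.piCoreOf π' Γ) hAN hcopL (Or.inl hsolvz)
        (u : G) (pco_norm π' Γ (u : G) u.2) hfix
      obtain ⟨n', hn', rfl⟩ := hn
      have hcH : ((n'⁻¹ * u : ↥Γ) : G) ∈ H := hcentH r hr.out hr1 hcn
      have hφc : φ (n'⁻¹ * u) = φ u := by
        rw [map_mul, map_inv, (hφker n').mpr hn', inv_one, one_mul]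
      rw [← hφc, Subgroup.mem_centralizer_iff]
      rw [hzs]
      rintro _ ⟨b, hb, rfl⟩
      have hbz : (b : G) ∈ zc H s := Subgroup.mem_subgroupOf.mp hb
      have hw1 : φ ((n'⁻¹ * u) * b * (n'⁻¹ * u)⁻¹ * b⁻¹) ∈ zs := by
        rw [hzs]
        refine ⟨_, Subgroup.mem_subgroupOf.mpr ?_, rfl⟩
        have h3 : ((n'⁻¹ * u : ↥Γ) : G) * (b : G) * ((n'⁻¹ * u : ↥Γ) : G)⁻¹ ∈ zc H s :=
          Cfsg.Agent.Helper7.conj_mem_of_mem_normalizer (norm_zc H s hcH) hbz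
        exact (zc H s).mul_mem h3 ((zc H s).inv_mem hbz)
      have hw2 : φ ((n'⁻¹ * u) * b * (n'⁻¹ * u)⁻¹ * b⁻¹) ∈ U := by
        have hcu : φ (n'⁻¹ * u) ∈ U := by rw [hφc]; exact hubU
        have h4 : φ b * (φ (n'⁻¹ * u))⁻¹ * (φ b)⁻¹ ∈ U :=
          hUn.conj_mem _ (U.inv_mem hcu) (φ b)
        have e : φ ((n'⁻¹ * u) * b * (n'⁻¹ * u)⁻¹ * b⁻¹)
            = φ (n'⁻¹ * u) * (φ b * (φ (n'⁻¹ * u))⁻¹ * (φ b)⁻¹) := by
          rw [map_mul, map_mul, map_mul, map_inv, map_inv]; group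
        rw [e]; exact U.mul_mem hcu h4
      have hw : φ ((n'⁻¹ * u) * b * (n'⁻¹ * u)⁻¹ * b⁻¹) ∈ U ⊓ zs := ⟨hw2, hw1⟩
      rw [hUzs, Subgroup.mem_bot, map_mul, map_mul, map_mul, map_inv, map_inv] at hw
      calc φ b * φ (n'⁻¹ * u)
          = (φ (n'⁻¹ * u) * φ b * (φ (n'⁻¹ * u))⁻¹ * (φ b)⁻¹)⁻¹ * (φ (n'⁻¹ * u) * φ b) := by
            group
        _ = φ (n'⁻¹ * u) * φ b := by rw [hw, inv_one, one_mul]
  -- (ii) `yb ≤ ⁅yb, zs⁆`
  have hYcomm : ⁅Y, zc H s⁆ = Y := by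
    have hcopY : (Nat.card ↥(zc H s)).Coprime (Nat.card ↥Y) := by
      obtain ⟨k, hk⟩ := IsPGroup.iff_card.1 (zc_isPGroup H s)
      rw [hk]
      apply Nat.Coprime.pow_left
      apply (Nat.Prime.coprime_iff_not_dvd hs.out).mpr
      intro hd
      have := hYπ s hs.out hd
      rw [hπ'] at this
      exact this.2 hsd
    have hsolvz : Group.IsSolvable ↥(zc H s) := by
      haveI := (zc_isPGroup H s).isNilpotent
      infer_instance
    have h1 := Cfsg.Agent.S0026.result (zc H s) Y ((hzM s hs.out).trans hYM) hcopY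
      (Or.inl hsolvz)
    rw [hC s hs.out hs1, sup_bot_eq] at h1
    exact h1
  have hyb_le : yb ≤ ⁅yb, zs⁆ := by
    have h1 : ⁅Y.subgroupOf Γ, (zc H s).subgroupOf Γ⁆ = Y.subgroupOf Γ := by
      apply Subgroup.map_injective (Subgroup.subtype_injective Γ)
      rw [Subgroup.map_commutator, Subgroup.map_subgroupOf_eq_of_le hYΓ,
        Subgroup.map_subgroupOf_eq_of_le hzsΓ, hYcomm]
    rw [hyb, hzs, ← Subgroup.map_commutator, h1]
  -- (iii) three subgroups lemma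
  have h1 : ⁅zs, U⁆ = ⊥ := Subgroup.commutator_eq_bot_iff_le_centralizer.mpr hzsU
  have h2 : ⁅⁅zs, U⁆, yb⁆ = ⊥ := by rw [h1]; exact Subgroup.commutator_bot_left _
  have h3 : ⁅⁅U, yb⁆, zs⁆ = ⊥ := by
    have hle : ⁅U, yb⁆ ≤ U := Subgroup.commutator_le_left U yb
    have h5 := Subgroup.commutator_mono hle (le_refl zs)
    rw [Subgroup.commutator_comm U zs, h1] at h5
    exact le_bot_iff.mp h5
  have h4 := Subgroup.commutator_commutator_eq_bot_of_rotate h2 h3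
  have h6 : ⁅yb, U⁆ ≤ ⁅⁅yb, zs⁆, U⁆ := Subgroup.commutator_mono hyb_le (le_refl U)
  rw [h4] at h6
  exact Subgroup.commutator_eq_bot_iff_le_centralizer.mp (le_bot_iff.mp h6)


theorem Fi_solvable [Finite G] (Y : Subgroup G) : Group.IsSolvable ↥(Fi Y) := by
  haveI : Group.IsSolvable ↥(Cfsg.fittingSubgroup ↥Y) :=
    Cfsg.Agent.Helper7.fittingSubgroup_isSolvable (G := ↥Y)
  exact Group.isSolvable_of_isSolvable_injective
    (f := ((Cfsg.fittingSubgroup ↥Y).equivMapOfInjective Y.subtype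
      Y.subtype_injective).symm.toMonoidHom) (MulEquiv.injective _)

theorem zc_le_M [Finite G] (H M : Subgroup G) (hM : M ≤ Fi H)
    (hCM : Fi H ⊓ Subgroup.centralizer (M : Set G) ≤ M) (s : ℕ) (hs : s.Prime) :
    zc H s ≤ M := by
  haveI : Fact s.Prime := ⟨hs⟩
  refine le_trans (le_inf (zc_le_Fi H s) ?_) hCM
  exact inf_le_right.trans (Subgroup.centralizer_le hM)

theorem lemC [Finite G] (H M R Y : Subgroup G)
    (hcentH : ∀ s : ℕ, s.Prime → O H s ≠ ⊥ → Subgroup.centralizer (zc H s : Set G) ≤ H)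
    (hM : M ≤ Fi H) (hCM : Fi H ⊓ Subgroup.centralizer (M : Set G) ≤ M)
    (hR : Group.IsSolvable ↥R)
    (hXR : H ⊓ Subgroup.centralizer (Fi H : Set G) ≤ Subgroup.normalizer (R : Set G))
    (hYR : Y ≤ R) (hYM : M ≤ Subgroup.normalizer (Y : Set G))
    (hcop : (Nat.card ↥Y).Coprime (Nat.card ↥(Fi H)))
    (s : ℕ) (hs : s.Prime) (hs1 : O H s ≠ ⊥) :
    Y ⊓ Subgroup.centralizer (zc H s : Set G) = ⊥ := by
  haveI : Fact s.Prime := ⟨hs⟩
  obtain ⟨Y₀, hY₀⟩ : ∃ Y₀ : Subgroup G, Y₀ = Y ⊓ Subgroup.centralizer (zc H s : Set G) :=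
    ⟨_, rfl⟩
  rw [← hY₀]
  have hY₀Y : Y₀ ≤ Y := by rw [hY₀]; exact inf_le_left
  have hY₀H : Y₀ ≤ H := by rw [hY₀]; exact inf_le_right.trans (hcentH s hs hs1)
  have hcop₀ : (Nat.card ↥Y₀).Coprime (Nat.card ↥(Fi H)) := coprime_of_le hY₀Y le_rfl hcop
  have hd : Y₀ ⊓ Fi H = ⊥ := inf_eq_bot_of_coprime' hcop₀
  have hY₀M : Y₀ ≤ Subgroup.centralizer (M : Set G) := by
    intro y hy
    rw [Subgroup.mem_centralizer_iff]
    intro m hm
    have hmC : m ∈ Subgroup.centralizer (zc H s : Set G) := by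
      rw [Subgroup.mem_centralizer_iff]
      intro z hz
      exact (Subgroup.mem_centralizer_iff.mp hz.2 m (hM hm)).symm
    have hmN : m ∈ Subgroup.normalizer (Y₀ : Set G) := by
      rw [hY₀]
      exact Cfsg.Agent.Helper14.mem_normalizer_inf _ _ _ (hYM hm) (Subgroup.le_normalizer hmC)
    exact (comm_of_cross Y₀ (Fi H) hd y m hy (hM hm) (le_norm_Fi H (hY₀H hy)) hmN).symm
  have h1 := centF H M hM hCM Y₀ hY₀H hcop₀ hY₀M
  have h2 : Y₀ ≤ Fi H := fun y hy => lemB H R hR hXR ⟨hYR (hY₀Y hy), hY₀H hy, h1 hy⟩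
  rw [← hd]
  exact le_antisymm (le_inf le_rfl h2) inf_le_left

theorem invariant_le [Finite G] (H M R Y : Subgroup G)
    (hcentH : ∀ s : ℕ, s.Prime → O H s ≠ ⊥ → Subgroup.centralizer (zc H s : Set G) ≤ H)
    (hF2 : 2 ≤ (Nat.card ↥(Fi H)).primeFactors.card)
    (hM : M ≤ Fi H) (hCM : Fi H ⊓ Subgroup.centralizer (M : Set G) ≤ M)
    (hR : Group.IsSolvable ↥R) (hMR : M ≤ Subgroup.normalizer (R : Set G))
    (hXR : H ⊓ Subgroup.centralizer (Fi H : Set G) ≤ Subgroup.normalizer (R : Set G))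
    (hYR : Y ≤ R) (hYM : M ≤ Subgroup.normalizer (Y : Set G))
    (hYπ : ∀ p : ℕ, p.Prime → p ∣ Nat.card ↥Y → p ∈ Cfsg.primesNotDvd (Nat.card ↥(Fi H))) :
    Y ≤ Cfsg.piCoreOf (Cfsg.primesNotDvd (Nat.card ↥(Fi H))) R := by
  have hzM : ∀ s : ℕ, s.Prime → zc H s ≤ M := zc_le_M H M hM hCM
  have hcop : (Nat.card ↥Y).Coprime (Nat.card ↥(Fi H)) := by
    by_contra hcon
    obtain ⟨r, hr, h1, h2⟩ := Nat.Prime.not_coprime_iff_dvd.mp hcon
    exact (hYπ r hr h1).2 h2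
  have hC : ∀ s : ℕ, s.Prime → O H s ≠ ⊥ →
      Y ⊓ Subgroup.centralizer (zc H s : Set G) = ⊥ :=
    fun s hs hs1 => lemC H M R Y hcentH hM hCM hR hXR hYR hYM hcop s hs hs1
  have hMsolv : Group.IsSolvable ↥M := isSolvable_of_le hM (Fi_solvable H)
  have hΓsolv : Group.IsSolvable ↥(R ⊔ M) :=
    Cfsg.Agent.Helper23.isSolvable_sup_of_le_normalizer hR hMsolv hMR
  have hYΓ : Y ≤ R ⊔ M := hYR.trans le_sup_left
  have h1 : Y.subgroupOf (R ⊔ M) ≤
      Cfsg.piCore (Cfsg.primesNotDvd (Nat.card ↥(Fi H))) ↥(R ⊔ M) := by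
    apply sl hΓsolv
    · intro p hp hpd
      rw [Nat.card_congr (Subgroup.subgroupOfEquivOfLe hYΓ).toEquiv] at hpd
      exact hYπ p hp hpd
    · intro r hr hrπ
      haveI : Fact r.Prime := ⟨hr⟩
      have hrd : r ∣ Nat.card ↥(Fi H) := by
        by_contra h
        exact hrπ ⟨hr, h⟩
      obtain ⟨s, hs, hsr⟩ := Finset.exists_mem_ne
        (show 1 < (Nat.card ↥(Fi H)).primeFactors.card by omega) r
      have hsp := (Nat.mem_primeFactors.mp hs).1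
      have hsd := (Nat.mem_primeFactors.mp hs).2.1
      haveI : Fact s.Prime := ⟨hsp⟩
      exact cen_step H M R Y hcentH hzM hYR hYM hYπ hC r s (Ne.symm hsr) hrd hsd
  have h2 : Y ≤ Cfsg.piCoreOf (Cfsg.primesNotDvd (Nat.card ↥(Fi H))) (R ⊔ M) ⊓ R := by
    intro y hy
    exact ⟨⟨⟨y, hYΓ hy⟩, h1 (Subgroup.mem_subgroupOf.mpr hy), rfl⟩, hYR hy⟩
  refine h2.trans ?_
  apply le_pco _ R _ inf_le_right
  · intro x hx n hn
    exact ⟨pco_conj _ (R ⊔ M) x (le_sup_left (a := R) hx) n hn.1,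
      R.mul_mem (R.mul_mem hx hn.2) (R.inv_mem hx)⟩
  · intro r hr hd
    exact pco_isPi _ (R ⊔ M) r hr (hd.trans (Subgroup.card_dvd_of_le inf_le_left))

theorem isP_of_inv [Finite G] {R A : Subgroup G} {q : ℕ} {Q : Subgroup G}
    (h : Q ∈ Cfsg.invSubgroups R A {q}) : IsPGroup q ↥Q := by
  have hne : Nat.card ↥Q ≠ 0 := Nat.card_pos.ne'
  have := Nat.eq_prime_pow_of_unique_prime_dvd hne
    (fun {d} hd hdvd => Set.mem_singleton_iff.mp (h.2.1 d hd hdvd))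
  exact IsPGroup.of_card this

theorem main [Finite G] (H : Subgroup G) (hH : Cfsg.IsLocalSubgroup H)
    (hHmax : ∀ L : Subgroup G, Cfsg.IsLocalSubgroup L → H ≤ L → L = H)
    (hF2 : 2 ≤ (Nat.card ↥(Fi H)).primeFactors.card)
    (M : Subgroup G) (hM : M ≤ Fi H)
    (hCM : Fi H ⊓ Subgroup.centralizer (M : Set G) ≤ M)
    (R : Subgroup G) (hR : Group.IsSolvable ↥R) (hMR : M ≤ Subgroup.normalizer (R : Set G))
    (hXR : H ⊓ Subgroup.centralizer (Fi H : Set G) ≤ Subgroup.normalizer (R : Set G))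
    (q : ℕ) [hqf : Fact q.Prime] (hq : ¬ q ∣ Nat.card ↥(Fi H)) :
    ∃! Q : Subgroup G, Q ∈ Cfsg.maxInvSubgroups R M {q} ∧
      (∀ Q' : Subgroup G, Q' ∈ Cfsg.maxInvSubgroups R M {q} →
        Q' ≤ Cfsg.piCoreOf (Cfsg.primesNotDvd (Nat.card ↥(Fi H))) R ∧
        ¬ q ∣ Q'.relIndex (Cfsg.piCoreOf (Cfsg.primesNotDvd (Nat.card ↥(Fi H))) R)) := by
  have hcentH : ∀ s : ℕ, s.Prime → O H s ≠ ⊥ →
      Subgroup.centralizer (zc H s : Set G) ≤ H := by
    intro s hs hs1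
    haveI : Fact s.Prime := ⟨hs⟩
    have hloc : Cfsg.IsLocalSubgroup (Subgroup.normalizer (zc H s : Set G)) :=
      ⟨s, zc H s, hs, zc_isPGroup H s, zc_ne_bot H s hs1, rfl⟩
    have h1 := hHmax _ hloc (norm_zc H s)
    exact (cent_le_norm _).trans h1.le
  obtain ⟨L, hL⟩ : ∃ L : Subgroup G,
      L = Cfsg.piCoreOf (Cfsg.primesNotDvd (Nat.card ↥(Fi H))) R := ⟨_, rfl⟩
  rw [← hL]
  have hLR : L ≤ R := by rw [hL]; exact pco_le _ R
  have hML : M ≤ Subgroup.normalizer (L : Set G) := by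
    intro m hm; rw [hL]; exact Cfsg.Agent.Helper21.SubnTrans.pco_char _ R m (hMR hm)
  have hLπ : ∀ r : ℕ, r.Prime → r ∣ Nat.card ↥L →
      r ∈ Cfsg.primesNotDvd (Nat.card ↥(Fi H)) := by
    rw [hL]; exact pco_isPi _ R
  have hcopFL : (Nat.card ↥(Fi H)).Coprime (Nat.card ↥L) := by
    by_contra hcon
    obtain ⟨r, hr, h1, h2⟩ := Nat.Prime.not_coprime_iff_dvd.mp hcon
    exact (hLπ r hr h2).2 h1
  have hcopML : (Nat.card ↥M).Coprime (Nat.card ↥L) := coprime_of_le hM le_rfl hcopFL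
  have hLsolv : Group.IsSolvable ↥L := isSolvable_of_le hLR hR
  have hinvL : ∀ Y : Subgroup G, Y ∈ Cfsg.invSubgroups R M {q} → Y ≤ L := by
    intro Y hY
    rw [hL]
    apply invariant_le H M R Y hcentH hF2 hM hCM hR hMR hXR hY.1 hY.2.2
    intro p hp hpd
    have h1 := hY.2.1 p hp hpd
    rw [Set.mem_singleton_iff] at h1
    rw [h1]; exact ⟨hqf.out, hq⟩
  have hLC : L ⊓ Subgroup.centralizer (M : Set G) = ⊥ := by
    have hpos : 0 < (Nat.card ↥(Fi H)).primeFactors.card := by omega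
    obtain ⟨s, hs⟩ := Finset.card_pos.mp hpos
    have hsp := (Nat.mem_primeFactors.mp hs).1
    have hsd := (Nat.mem_primeFactors.mp hs).2.1
    haveI : Fact s.Prime := ⟨hsp⟩
    have hs1 := O_ne_bot_of_dvd H s hsd
    have hzM : zc H s ≤ M := zc_le_M H M hM hCM s hsp
    have h1 := lemC H M R L hcentH hM hCM hR hXR hLR hML hcopFL.symm s hsp hs1
    rw [← le_bot_iff, ← h1]
    exact inf_le_inf_left L (Subgroup.centralizer_le hzM)
  obtain ⟨P₀, hP₀⟩ := Cfsg.Agent.S0023.result M L hML hcopML (Or.inr hLsolv) q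
  have hSylInv : ∀ P : Sylow q ↥L,
      M ≤ Subgroup.normalizer ((P : Subgroup ↥L).map L.subtype : Set G) →
      (P : Subgroup ↥L).map L.subtype ∈ Cfsg.invSubgroups R M {q} := by
    intro P hP
    refine ⟨(Subgroup.map_subtype_le _).trans hLR, ?_, hP⟩
    intro r hr hrd
    rw [Subgroup.card_map_of_injective (Subgroup.subtype_injective _)] at hrd
    obtain ⟨k, hk⟩ := IsPGroup.iff_card.1 P.isPGroup'
    rw [hk] at hrd
    exact Set.mem_singleton_iff.mpr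
      ((Nat.prime_dvd_prime_iff_eq hr hqf.out).mp (hr.dvd_of_dvd_pow hrd))
  have hSylMax : ∀ P : Sylow q ↥L,
      M ≤ Subgroup.normalizer ((P : Subgroup ↥L).map L.subtype : Set G) →
      (P : Subgroup ↥L).map L.subtype ∈ Cfsg.maxInvSubgroups R M {q} := by
    intro P hP
    refine ⟨hSylInv P hP, ?_⟩
    intro Y hY hPY
    have hYL : Y ≤ L := hinvL Y hY
    have hYq : IsPGroup q ↥Y := isP_of_inv hY
    have h1 : (P : Subgroup ↥L) ≤ Y.subgroupOf L := by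
      intro x hx
      exact Subgroup.mem_subgroupOf.mpr (hPY ⟨x, hx, rfl⟩)
    have h2 : Y.subgroupOf L = (P : Subgroup ↥L) := P.is_maximal' (hYq.comap_subtype) h1
    rw [← h2, Subgroup.map_subgroupOf_eq_of_le hYL]
  have hMaxSyl : ∀ Q' : Subgroup G, Q' ∈ Cfsg.maxInvSubgroups R M {q} →
      ∃ P : Sylow q ↥L, M ≤ Subgroup.normalizer ((P : Subgroup ↥L).map L.subtype : Set G) ∧
        Q' = (P : Subgroup ↥L).map L.subtype := by
    intro Q' hQ'
    have hQ'L := hinvL Q' hQ'.1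
    have hQ'q : IsPGroup q ↥Q' := isP_of_inv hQ'.1
    obtain ⟨P, hQP, hP⟩ := Cfsg.Agent.S0025.result M L hML hcopML (Or.inr hLsolv) q Q' hQ'L
      hQ'q hQ'.1.2.2
    exact ⟨P, hP, (hQ'.2 _ (hSylInv P hP) hQP).symm⟩
  have hSylUniq : ∀ P : Sylow q ↥L,
      M ≤ Subgroup.normalizer ((P : Subgroup ↥L).map L.subtype : Set G) → P = P₀ := by
    intro P hP
    obtain ⟨c, hc, hcP⟩ := Cfsg.Agent.S0024.result M L hML hcopML (Or.inr hLsolv) q P₀ P hP₀ hP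
    have hc1 : (c : G) ∈ L ⊓ Subgroup.centralizer (M : Set G) := ⟨c.2, hc⟩
    rw [hLC, Subgroup.mem_bot] at hc1
    have hc2 : c = 1 := Subtype.ext hc1
    rw [hc2, map_one, one_smul] at hcP
    exact hcP.symm
  refine ⟨(P₀ : Subgroup ↥L).map L.subtype, ⟨hSylMax P₀ hP₀, ?_⟩, ?_⟩
  · intro Q' hQ'
    obtain ⟨P, hP, rfl⟩ := hMaxSyl Q' hQ'
    refine ⟨Subgroup.map_subtype_le _, ?_⟩
    have e : ((P : Subgroup ↥L).map L.subtype).relIndex L = (P : Subgroup ↥L).index := by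
      unfold Subgroup.relIndex
      congr 1
      ext x
      rw [Subgroup.mem_subgroupOf]
      constructor
      · rintro ⟨y, hy, hyx⟩
        have : y = x := Subtype.ext hyx
        rw [← this]; exact hy
      · intro hx; exact ⟨x, hx, rfl⟩
    rw [e]
    exact P.not_dvd_index
  · rintro Q ⟨hQ, -⟩
    obtain ⟨P, hP, rfl⟩ := hMaxSyl Q hQ
    rw [hSylUniq P hP]

end Cfsg.Agent.Helper21.LocalF
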