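import Mathlib

set_option autoImplicit false
set_option linter.style.haveILetI false

namespace Cfsg.Agent.Helper21.MoebPGL

open Matrix OnePoint

variable {F : Type*} [Field F] [DecidableEq F]

/-- the affine map `x ↦ s x + t` as an element of `GL₂` -/
noncomputable def gA (s t : F) (hs : s ≠ 0) : GL (Fin 2) F :=
  Matrix.GeneralLinearGroup.mkOfDetNeZero !![s, t; 0, 1] (by simp [Matrix.det_fin_two, hs])

/-- the inversion `x ↦ 1/x` as an element of `GL₂` -/
noncomputable def gW : GL (Fin 2) F :=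
  Matrix.GeneralLinearGroup.mkOfDetNeZero !![0, 1; 1, 0] (by simp [Matrix.det_fin_two])

theorem gA_infty (s t : F) (hs : s ≠ 0) : gA s t hs • (∞ : OnePoint F) = ∞ := by
  rw [OnePoint.smul_infty_eq_ite]
  simp [gA, Matrix.GeneralLinearGroup.mkOfDetNeZero]

theorem gA_coe (s t : F) (hs : s ≠ 0) (x : F) :
    gA s t hs • (x : OnePoint F) = ((s * x + t : F) : OnePoint F) := by
  rw [OnePoint.smul_some_eq_ite]
  simp [gA, Matrix.GeneralLinearGroup.mkOfDetNeZero]

theorem gW_infty : (gW : GL (Fin 2) F) • (∞ : OnePoint F) = ((0 : F) : OnePoint F) := by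
  rw [OnePoint.smul_infty_eq_ite]
  simp [gW, Matrix.GeneralLinearGroup.mkOfDetNeZero]

theorem gW_coe (x : F) : (gW : GL (Fin 2) F) • (x : OnePoint F) =
    if x = 0 then ∞ else ((x⁻¹ : F) : OnePoint F) := by
  rw [OnePoint.smul_some_eq_ite]
  simp [gW, Matrix.GeneralLinearGroup.mkOfDetNeZero]

theorem det_eq (M : GL (Fin 2) F) : M 0 0 * M 1 1 - M 0 1 * M 1 0 ≠ 0 := by
  have h := M.det_ne_zero
  rw [Matrix.det_fin_two] at h
  exact h

/-- upper triangular matrices act as affine maps -/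
theorem act_upper (M : GL (Fin 2) F) (c : M 1 0 = 0) :
    ∃ (s t : F) (hs : s ≠ 0), ∀ P : OnePoint F, M • P = gA s t hs • P := by
  have hdet := det_eq M
  rw [c, mul_zero, sub_zero] at hdet
  have ha : M 0 0 ≠ 0 := left_ne_zero_of_mul hdet
  have hd : M 1 1 ≠ 0 := right_ne_zero_of_mul hdet
  refine ⟨M 0 0 / M 1 1, M 0 1 / M 1 1, div_ne_zero ha hd, fun P => ?_⟩
  induction P using OnePoint.rec with
  | infty => rw [gA_infty, OnePoint.smul_infty_eq_ite, if_pos c]
  | coe x =>
    rw [gA_coe, OnePoint.smul_some_eq_ite, c, zero_mul, zero_add, if_neg hd]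
    congr 1
    field_simp

theorem aux (a b c d x D : F) (c0 : c ≠ 0) (hD0 : D ≠ 0) (hD : c * x + d = D) :
    (a * x + b) / D = -(a * d - b * c) / (c * c) * (c / D) + a / c := by
  have hd : d = D - c * x := by rw [← hD]; ring
  subst hd
  field_simp
  ring

/-- the other matrices are `translation ∘ dilation ∘ inversion ∘ translation` -/
theorem act_lower (M : GL (Fin 2) F) (c : M 1 0 ≠ 0) :
    ∃ (s t u : F) (hs : s ≠ 0), ∀ P : OnePoint F,
      M • P = gA s t hs • (gW : GL (Fin 2) F) • gA 1 u one_ne_zero • P := by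
  have hdet := det_eq M
  have hs : -(M 0 0 * M 1 1 - M 0 1 * M 1 0) / (M 1 0 * M 1 0) ≠ 0 :=
    div_ne_zero (neg_ne_zero.mpr hdet) (mul_ne_zero c c)
  refine ⟨_, M 0 0 / M 1 0, M 1 1 / M 1 0, hs, fun P => ?_⟩
  induction P using OnePoint.rec with
  | infty =>
    rw [gA_infty, gW_infty, gA_coe, mul_zero, zero_add, OnePoint.smul_infty_eq_ite, if_neg c]
  | coe x =>
    rw [gA_coe, one_mul, gW_coe, OnePoint.smul_some_eq_ite]
    have key : x + M 1 1 / M 1 0 = (M 1 0 * x + M 1 1) / M 1 0 := by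
      field_simp
    by_cases hx : M 1 0 * x + M 1 1 = 0
    · have hx' : x + M 1 1 / M 1 0 = 0 := by rw [key, hx, zero_div]
      rw [if_pos hx, if_pos hx', gA_infty]
    · have hx' : x + M 1 1 / M 1 0 ≠ 0 := by
        rw [key]
        exact div_ne_zero hx c
      rw [if_neg hx, if_neg hx', gA_coe]
      congr 1
      have e : (x + M 1 1 / M 1 0)⁻¹ = M 1 0 / (M 1 0 * x + M 1 1) := by
        rw [key, inv_div]
      rw [e]
      exact aux _ _ _ _ _ _ c hx rfl

/-- the matrices acting trivially on the projective line are the central ones -/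
theorem trivial_iff (M : GL (Fin 2) F) :
    (∀ P : OnePoint F, M • P = P) ↔ M ∈ Subgroup.center (GL (Fin 2) F) := by
  rw [Matrix.GeneralLinearGroup.mem_center_iff_val_mem_range_scalar]
  constructor
  · intro hM
    have c : M 1 0 = 0 := by
      by_contra c
      have h := hM ∞
      rw [OnePoint.smul_infty_eq_ite, if_neg c] at h
      exact OnePoint.coe_ne_infty _ h
    have hdet := det_eq M
    rw [c, mul_zero, sub_zero] at hdet
    have hd : M 1 1 ≠ 0 := right_ne_zero_of_mul hdet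
    have hb : M 0 1 = 0 := by
      have h := hM ((0 : F) : OnePoint F)
      rw [OnePoint.smul_some_eq_ite, c, mul_zero, zero_add, if_neg hd, mul_zero, zero_add] at h
      have h' : M 0 1 / M 1 1 = 0 := OnePoint.coe_injective h
      rcases div_eq_zero_iff.mp h' with h'' | h''
      · exact h''
      · exact absurd h'' hd
    have had : M 0 0 = M 1 1 := by
      have h := hM ((1 : F) : OnePoint F)
      rw [OnePoint.smul_some_eq_ite, c, zero_mul, zero_add, if_neg hd, mul_one, hb, add_zero] at h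
      have h' : M 0 0 / M 1 1 = 1 := OnePoint.coe_injective h
      exact (div_eq_one_iff_eq hd).mp h'
    refine ⟨M 0 0, ?_⟩
    ext i j
    fin_cases i <;> fin_cases j
    · simp
    · simpa using hb.symm
    · simpa using c.symm
    · simpa using had
  · rintro ⟨r, hr⟩ P
    have h00 : M 0 0 = r := by rw [← hr]; simp
    have h01 : M 0 1 = 0 := by rw [← hr]; simp
    have h10 : M 1 0 = 0 := by rw [← hr]; simp
    have h11 : M 1 1 = r := by rw [← hr]; simp
    have hdet := det_eq M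
    rw [h00, h01, h10, h11, mul_zero, sub_zero] at hdet
    have hr0 : r ≠ 0 := left_ne_zero_of_mul hdet
    induction P using OnePoint.rec with
    | infty => rw [OnePoint.smul_infty_eq_ite, if_pos h10]
    | coe x =>
      rw [OnePoint.smul_some_eq_ite, h10, zero_mul, zero_add, h11, if_neg hr0, h00, h01,
        add_zero, mul_div_cancel_left₀ x hr0]

/-- abstract recognition of `PGL₂(F)` from its action on the projective line -/
theorem recogPGL {G Ω : Type*} [Group G] [MulAction G Ω]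
    (ι : OnePoint F → Ω) (hι : Function.Bijective ι)
    (hfaith : ∀ g : G, (∀ x : Ω, g • x = x) → g = 1)
    (hA2 : ∀ t : F, ∃ g : G, g • ι ∞ = ι ∞ ∧
      ∀ x : F, g • ι (x : OnePoint F) = ι ((x + t : F) : OnePoint F))
    (hA3 : ∀ s : F, s ≠ 0 → ∃ g : G, g • ι ∞ = ι ∞ ∧
      ∀ x : F, g • ι (x : OnePoint F) = ι ((s * x : F) : OnePoint F))
    (hA4 : ∃ g : G, g • ι ∞ = ι ((0 : F) : OnePoint F) ∧ g • ι ((0 : F) : OnePoint F) = ι ∞ ∧
      ∀ x : F, x ≠ 0 → g • ι (x : OnePoint F) = ι ((x⁻¹ : F) : OnePoint F))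
    (hA5 : ∀ g : G, g • ι ∞ = ι ∞ → ∃ s t : F, s ≠ 0 ∧
      ∀ x : F, g • ι (x : OnePoint F) = ι ((s * x + t : F) : OnePoint F)) :
    Nonempty (G ≃* Matrix.ProjGenLinGroup (Fin 2) F) := by
  have R_mul : ∀ (M N : GL (Fin 2) F) (g k : G),
      (∀ P, g • ι P = ι (M • P)) → (∀ P, k • ι P = ι (N • P)) →
      ∀ P, (g * k) • ι P = ι ((M * N) • P) := by
    intro M N g k hg hk P
    rw [mul_smul, hk, hg, mul_smul]
  have R_A : ∀ (s t : F) (hs : s ≠ 0), ∃ g : G, ∀ P, g • ι P = ι (gA s t hs • P) := by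
    intro s t hs
    obtain ⟨g1, h11, h12⟩ := hA2 t
    obtain ⟨g2, h21, h22⟩ := hA3 s hs
    refine ⟨g1 * g2, fun P => ?_⟩
    rw [mul_smul]
    induction P using OnePoint.rec with
    | infty => rw [gA_infty, h21, h11]
    | coe x => rw [gA_coe, h22, h12]
  have R_W : ∃ g : G, ∀ P, g • ι P = ι ((gW : GL (Fin 2) F) • P) := by
    obtain ⟨g, hg1, hg2, hg3⟩ := hA4
    refine ⟨g, fun P => ?_⟩
    induction P using OnePoint.rec with
    | infty => rw [gW_infty]; exact hg1
    | coe x =>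
      rw [gW_coe]
      by_cases hx : x = 0
      · rw [if_pos hx, hx]; exact hg2
      · rw [if_neg hx, hg3 x hx]
  have Ra : ∀ M : GL (Fin 2) F, ∃ g : G, ∀ P, g • ι P = ι (M • P) := by
    intro M
    by_cases c : M 1 0 = 0
    · obtain ⟨s, t, hs, hM⟩ := act_upper M c
      obtain ⟨g, hg⟩ := R_A s t hs
      exact ⟨g, fun P => by rw [hM P]; exact hg P⟩
    · obtain ⟨s, t, u, hs, hM⟩ := act_lower M c
      obtain ⟨g1, h1⟩ := R_A s t hs
      obtain ⟨g2, h2⟩ := R_W
      obtain ⟨g3, h3⟩ := R_A 1 u one_ne_zero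
      refine ⟨g1 * g2 * g3, fun P => ?_⟩
      rw [hM P, mul_smul, mul_smul, h3, h2, h1]
  have Rb0 : ∀ g : G, g • ι ∞ = ι ∞ → ∃ M : GL (Fin 2) F, ∀ P, g • ι P = ι (M • P) := by
    intro g hg
    obtain ⟨s, t, hs, hst⟩ := hA5 g hg
    refine ⟨gA s t hs, fun P => ?_⟩
    induction P using OnePoint.rec with
    | infty => rw [gA_infty]; exact hg
    | coe x => rw [gA_coe]; exact hst x
  have Rb : ∀ g : G, ∃ M : GL (Fin 2) F, ∀ P, g • ι P = ι (M • P) := by
    intro g
    by_cases hg : g • ι ∞ = ι ∞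
    · exact Rb0 g hg
    · obtain ⟨Q, hQ⟩ := hι.2 (g • ι ∞)
      induction Q using OnePoint.rec with
      | infty => exact absurd hQ.symm hg
      | coe y =>
        obtain ⟨g1, h1⟩ := R_A 1 y one_ne_zero
        obtain ⟨g2, h2⟩ := R_W
        have h12 : (g1 * g2) • ι ∞ = ι (y : OnePoint F) := by
          rw [mul_smul, h2, gW_infty, h1, gA_coe, mul_zero, zero_add]
        have hfix : ((g1 * g2)⁻¹ * g) • ι ∞ = ι ∞ := by
          rw [mul_smul, ← hQ, ← h12, inv_smul_smul]
        obtain ⟨M', hM'⟩ := Rb0 _ hfix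
        refine ⟨gA 1 y one_ne_zero * gW * M', fun P => ?_⟩
        have key := R_mul _ _ _ _ (R_mul _ _ _ _ h1 h2) hM' P
        rw [mul_inv_cancel_left] at key
        exact key
  have Rc : ∀ (M : GL (Fin 2) F) (g k : G),
      (∀ P, g • ι P = ι (M • P)) → (∀ P, k • ι P = ι (M • P)) → g = k := by
    intro M g k hg hk
    have e : g⁻¹ * k = 1 := by
      apply hfaith
      intro x
      obtain ⟨P, rfl⟩ := hι.2 x
      rw [mul_smul, hk, ← hg, inv_smul_smul]
    exact inv_mul_eq_one.mp e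
  choose Φ hΦ using Ra
  have hmul : ∀ M N : GL (Fin 2) F, Φ (M * N) = Φ M * Φ N := fun M N =>
    Rc (M * N) _ _ (hΦ (M * N)) (R_mul M N _ _ (hΦ M) (hΦ N))
  have hsurj : Function.Surjective (MonoidHom.mk' Φ hmul) := by
    intro g
    obtain ⟨M, hM⟩ := Rb g
    exact ⟨M, Rc M _ _ (hΦ M) hM⟩
  have hker : (MonoidHom.mk' Φ hmul).ker =
      (Matrix.ProjGenLinGroup.mk : GL (Fin 2) F →* Matrix.ProjGenLinGroup (Fin 2) F).ker := by
    rw [Matrix.ProjGenLinGroup.ker_mk]
    ext M
    rw [MonoidHom.mem_ker, ← trivial_iff]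
    constructor
    · intro h1 P
      have h1' : Φ M = 1 := h1
      have h := hΦ M P
      rw [h1', one_smul] at h
      exact (hι.1 h).symm
    · intro hM
      have h1 : ∀ P, (1 : G) • ι P = ι (M • P) := fun P => by rw [one_smul, hM P]
      exact Rc M _ _ (hΦ M) h1
  exact ⟨(QuotientGroup.quotientKerEquivOfSurjective _ hsurj).symm.trans
    ((QuotientGroup.quotientMulEquivOfEq hker).trans
      (QuotientGroup.quotientKerEquivOfSurjective _ Matrix.ProjGenLinGroup.mk_surjective))⟩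

end Cfsg.Agent.Helper21.MoebPGL
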