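-- helper21: invariant p'-subgroups of p-constrained groups lie in O_{p'} (Sylow class ≤ 2 version)
import Mathlib
import Cfsg.Agent.S1302

set_option autoImplicit false

namespace Cfsg.Agent.Helper21.PCInv

open Cfsg Cfsg.Agent.Helper14

variable {X : Type*} [Group X]

/-- Class ≤ 2 version of the strengthened `P × Q` lemma: `A` abelian, `C_P(A) ≤ A`, `A, P` inside a
`p`-group `S` of class ≤ 2, `Q` an `A`-invariant `p'`-group normalizing `P` (normalized by `A`).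
Then `Q` centralizes `P`. -/
theorem core2 [Finite X] {p : ℕ} [Fact p.Prime] (A Q P S : Subgroup X)
    (hcl : ∀ x ∈ S, ∀ y ∈ S, ∀ z ∈ S, (x * y * x⁻¹ * y⁻¹) * z = z * (x * y * x⁻¹ * y⁻¹))
    (hAS : A ≤ S) (hPS : P ≤ S) (hP : IsPGroup p P)
    (hAc : ∀ x ∈ A, ∀ y ∈ A, x * y = y * x)
    (hfull : ∀ x ∈ P, (∀ a ∈ A, a * x = x * a) → x ∈ A)
    (hQ : (Nat.card Q).Coprime p) (hAQ : A ≤ Subgroup.normalizer (Q : Set X))
    (hAP : A ≤ Subgroup.normalizer (P : Set X)) (hQP : Q ≤ Subgroup.normalizer (P : Set X)) :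
    Q ≤ Subgroup.centralizer (P : Set X) := by
  have hQm : ∀ q ∈ Q, q ^ Nat.card Q = 1 := by
    intro q hq
    have := pow_card_eq_one' (G := ↥Q) (x := ⟨q, hq⟩)
    exact congrArg Subtype.val this
  have hPk : ∀ x ∈ P, ∃ k : ℕ, x ^ p ^ k = 1 := by
    intro x hx
    obtain ⟨k, hk⟩ := hP ⟨x, hx⟩
    exact ⟨k, congrArg Subtype.val hk⟩
  have nAQ : ∀ a ∈ A, ∀ q ∈ Q, a * q * a⁻¹ ∈ Q := fun a ha q hq =>
    (Subgroup.mem_normalizer_iff.mp (hAQ ha) q).mp hq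
  have nAP : ∀ a ∈ A, ∀ x ∈ P, a * x * a⁻¹ ∈ P := fun a ha x hx =>
    (Subgroup.mem_normalizer_iff.mp (hAP ha) x).mp hx
  have nQP : ∀ q ∈ Q, ∀ x ∈ P, q * x * q⁻¹ ∈ P := fun q hq x hx =>
    (Subgroup.mem_normalizer_iff.mp (hQP hq) x).mp hx
  -- Step 1: Q centralizes A ∩ P
  have step1 : ∀ b ∈ A, b ∈ P → ∀ q ∈ Q, b * q = q * b := by
    intro b hbA hbP q hq
    have hcQ : b * q * b⁻¹ * q⁻¹ ∈ Q := Q.mul_mem (nAQ b hbA q hq) (Q.inv_mem hq)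
    have hcP : b * q * b⁻¹ * q⁻¹ ∈ P := by
      have e : b * q * b⁻¹ * q⁻¹ = b * (q * b⁻¹ * q⁻¹) := by group
      rw [e]; exact P.mul_mem hbP (nQP q hq _ (P.inv_mem hbP))
    obtain ⟨k, hk⟩ := hPk _ hcP
    have h1 := eq_one_of_pow_coprime (p := p) _ (Nat.card Q) k hQ (hQm _ hcQ) hk
    calc b * q = (b * q * b⁻¹ * q⁻¹) * (q * b) := by group
      _ = q * b := by rw [h1, one_mul]
  -- B₀-elements
  let IsB : X → Prop := fun c => c ∈ P ∧ c ∈ A ∧ ∀ z ∈ S, c * z = z * c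
  have hBmul : ∀ c d, IsB c → IsB d → IsB (c * d) := by
    rintro c d ⟨h1, h2, h3⟩ ⟨h4, h5, h6⟩
    refine ⟨P.mul_mem h1 h4, A.mul_mem h2 h5, fun z hz => ?_⟩
    calc c * d * z = c * (d * z) := by group
      _ = c * (z * d) := by rw [h6 z hz]
      _ = (c * z) * d := by group
      _ = (z * c) * d := by rw [h3 z hz]
      _ = z * (c * d) := by group
  have hBQ : ∀ c, IsB c → ∀ q ∈ Q, c * q = q * c := fun c hc q hq => step1 c hc.2.1 hc.1 q hq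
  -- commutators [a, x] lie in B₀
  have hBcomm : ∀ a ∈ A, ∀ x ∈ P, IsB (a * x * a⁻¹ * x⁻¹) := by
    intro a ha x hx
    have hcP : a * x * a⁻¹ * x⁻¹ ∈ P := P.mul_mem (nAP a ha x hx) (P.inv_mem hx)
    have hcS : ∀ z ∈ S, (a * x * a⁻¹ * x⁻¹) * z = z * (a * x * a⁻¹ * x⁻¹) :=
      fun z hz => hcl a (hAS ha) x (hPS hx) z hz
    exact ⟨hcP, hfull _ hcP (fun a' ha' => (hcS a' (hAS ha')).symm), hcS⟩
  -- stability predicate
  let St : X → Prop := fun g => (∀ b, IsB b → g * b = b * g) ∧ ∀ x ∈ P, IsB (g * x * g⁻¹ * x⁻¹)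
  have hStA : ∀ a ∈ A, St a := by
    intro a ha
    exact ⟨fun b hb => hAc a ha b hb.2.1, fun x hx => hBcomm a ha x hx⟩
  have hStmul : ∀ g h, St g → St h → St (g * h) := by
    rintro g h ⟨hg1, hg2⟩ ⟨hh1, hh2⟩
    refine ⟨fun b hb => ?_, fun x hx => ?_⟩
    · calc g * h * b = g * (h * b) := by group
        _ = g * (b * h) := by rw [hh1 b hb]
        _ = (g * b) * h := by group
        _ = (b * g) * h := by rw [hg1 b hb]
        _ = b * (g * h) := by group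
    · have hb1 := hh2 x hx
      have hb2 := hg2 x hx
      have e : g * h * x * (g * h)⁻¹ * x⁻¹
          = (g * (h * x * h⁻¹ * x⁻¹)) * g⁻¹ * (g * x * g⁻¹ * x⁻¹) := by group
      rw [e, hg1 _ hb1]
      have e2 : (h * x * h⁻¹ * x⁻¹) * g * g⁻¹ * (g * x * g⁻¹ * x⁻¹)
          = (h * x * h⁻¹ * x⁻¹) * (g * x * g⁻¹ * x⁻¹) := by group
      rw [e2]
      exact hBmul _ _ hb1 hb2
  have hStconj : ∀ g, St g → ∀ q ∈ Q, St (q * g * q⁻¹) := by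
    rintro g ⟨hg1, hg2⟩ q hq
    refine ⟨fun b hb => ?_, fun x hx => ?_⟩
    · have hbq := hBQ b hb q hq
      have hbq' : q⁻¹ * b = b * q⁻¹ := by
        calc q⁻¹ * b = q⁻¹ * (b * q) * q⁻¹ := by group
          _ = q⁻¹ * (q * b) * q⁻¹ := by rw [hbq]
          _ = b * q⁻¹ := by group
      calc q * g * q⁻¹ * b = q * g * (q⁻¹ * b) := by group
        _ = q * g * (b * q⁻¹) := by rw [hbq']
        _ = q * (g * b) * q⁻¹ := by group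
        _ = q * (b * g) * q⁻¹ := by rw [hg1 b hb]
        _ = (q * b) * g * q⁻¹ := by group
        _ = (b * q) * g * q⁻¹ := by rw [hbq]
        _ = b * (q * g * q⁻¹) := by group
    · have hy : q⁻¹ * x * q ∈ P := by
        have := nQP q⁻¹ (Q.inv_mem hq) x hx
        rwa [inv_inv] at this
      have hb := hg2 _ hy
      have hbq := hBQ _ hb q hq
      have e : q * g * q⁻¹ * x * (q * g * q⁻¹)⁻¹ * x⁻¹
          = q * (g * (q⁻¹ * x * q) * g⁻¹ * (q⁻¹ * x * q)⁻¹) * q⁻¹ := by group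
      rw [e]
      have e2 : q * (g * (q⁻¹ * x * q) * g⁻¹ * (q⁻¹ * x * q)⁻¹) * q⁻¹
          = g * (q⁻¹ * x * q) * g⁻¹ * (q⁻¹ * x * q)⁻¹ := by
        calc q * (g * (q⁻¹ * x * q) * g⁻¹ * (q⁻¹ * x * q)⁻¹) * q⁻¹
            = (q * (g * (q⁻¹ * x * q) * g⁻¹ * (q⁻¹ * x * q)⁻¹)) * q⁻¹ := by group
          _ = ((g * (q⁻¹ * x * q) * g⁻¹ * (q⁻¹ * x * q)⁻¹) * q) * q⁻¹ := by rw [hbq]
          _ = g * (q⁻¹ * x * q) * g⁻¹ * (q⁻¹ * x * q)⁻¹ := by group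
      rw [e2]; exact hb
  -- Step 3: [q, a] centralizes P
  have step3 : ∀ q ∈ Q, ∀ a ∈ A, ∀ x ∈ P, (a * q * a⁻¹ * q⁻¹) * x = x * (a * q * a⁻¹ * q⁻¹) := by
    intro q hq a ha x hx
    have hcQ : a * q * a⁻¹ * q⁻¹ ∈ Q := Q.mul_mem (nAQ a ha q hq) (Q.inv_mem hq)
    have hSt : St (a * q * a⁻¹ * q⁻¹) := by
      have h1 : St (q * a⁻¹ * q⁻¹) := hStconj _ (hStA _ (A.inv_mem ha)) q hq
      have h2 := hStmul _ _ (hStA a ha) h1
      have e : a * (q * a⁻¹ * q⁻¹) = a * q * a⁻¹ * q⁻¹ := by group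
      rwa [e] at h2
    obtain ⟨c, hc⟩ : ∃ c, c = a * q * a⁻¹ * q⁻¹ := ⟨_, rfl⟩
    rw [← hc] at hcQ hSt ⊢
    have hb := hSt.2 x hx
    -- x c x⁻¹ c⁻¹ = (c x c⁻¹ x⁻¹)⁻¹ conjugated; show it is in P and commutes with c
    have hbc := hSt.1 _ hb
    have e : x * c * x⁻¹ * c⁻¹ = (c * x * c⁻¹ * x⁻¹)⁻¹ := by group
    have hmem : x * c * x⁻¹ * c⁻¹ ∈ P := by
      rw [e]; exact P.inv_mem hb.1
    have hcomm : (x * c * x⁻¹ * c⁻¹) * c = c * (x * c * x⁻¹ * c⁻¹) := by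
      rw [e]
      calc (c * x * c⁻¹ * x⁻¹)⁻¹ * c
          = (c * x * c⁻¹ * x⁻¹)⁻¹ * (c * (c * x * c⁻¹ * x⁻¹)) * (c * x * c⁻¹ * x⁻¹)⁻¹ := by group
        _ = (c * x * c⁻¹ * x⁻¹)⁻¹ * ((c * x * c⁻¹ * x⁻¹) * c) * (c * x * c⁻¹ * x⁻¹)⁻¹ := by
            rw [hbc]
        _ = c * (c * x * c⁻¹ * x⁻¹)⁻¹ := by group
    exact (commute_of_coprime_of_comm_central P hP c (Nat.card Q) hQ (hQm c hcQ) x hx hmem
      hcomm).symm
  -- Step 4 & 5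
  intro q hq
  rw [Subgroup.mem_centralizer_iff]
  intro x hx
  have hdP : q * x * q⁻¹ * x⁻¹ ∈ P := P.mul_mem (nQP q hq x hx) (P.inv_mem hx)
  have hdA : ∀ a ∈ A, a * (q * x * q⁻¹ * x⁻¹) = (q * x * q⁻¹ * x⁻¹) * a := by
    intro a ha
    obtain ⟨c', hc'⟩ : ∃ c', c' = a * q * a⁻¹ * q⁻¹ := ⟨_, rfl⟩
    obtain ⟨b, hb⟩ : ∃ b, b = a * x * a⁻¹ * x⁻¹ := ⟨_, rfl⟩
    have hbB : IsB b := by rw [hb]; exact hBcomm a ha x hx
    have hc'P : ∀ y ∈ P, c' * y = y * c' := by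
      intro y hy; rw [hc']; exact step3 q hq a ha y hy
    have hbq : b * q = q * b := hBQ b hbB q hq
    have hy : q * x * q⁻¹ ∈ P := nQP q hq x hx
    have h1 : a * (q * x * q⁻¹ * x⁻¹) * a⁻¹ = c' * q * b * x * q⁻¹ * c'⁻¹ * x⁻¹ * b⁻¹ := by
      rw [hc', hb]; group
    have h2 : c' * q * b * x * q⁻¹ * c'⁻¹ * x⁻¹ * b⁻¹ = b * (q * x * q⁻¹ * x⁻¹) * b⁻¹ := by
      have h3 : c' * (b * (q * x * q⁻¹)) = (b * (q * x * q⁻¹)) * c' :=
        hc'P _ (P.mul_mem hbB.1 hy)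
      calc c' * q * b * x * q⁻¹ * c'⁻¹ * x⁻¹ * b⁻¹
          = c' * ((q * b) * x * q⁻¹) * c'⁻¹ * x⁻¹ * b⁻¹ := by group
        _ = c' * ((b * q) * x * q⁻¹) * c'⁻¹ * x⁻¹ * b⁻¹ := by rw [hbq]
        _ = (c' * (b * (q * x * q⁻¹))) * c'⁻¹ * x⁻¹ * b⁻¹ := by group
        _ = ((b * (q * x * q⁻¹)) * c') * c'⁻¹ * x⁻¹ * b⁻¹ := by rw [h3]
        _ = b * (q * x * q⁻¹ * x⁻¹) * b⁻¹ := by group
    have h4 : b * (q * x * q⁻¹ * x⁻¹) = (q * x * q⁻¹ * x⁻¹) * b := hbB.2.2 _ (hPS hdP)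
    have h5 : a * (q * x * q⁻¹ * x⁻¹) * a⁻¹ = q * x * q⁻¹ * x⁻¹ := by
      rw [h1, h2, h4]; group
    calc a * (q * x * q⁻¹ * x⁻¹) = (a * (q * x * q⁻¹ * x⁻¹) * a⁻¹) * a := by group
      _ = (q * x * q⁻¹ * x⁻¹) * a := by rw [h5]
  have hdA' : q * x * q⁻¹ * x⁻¹ ∈ A := hfull _ hdP hdA
  have hdq : (q * x * q⁻¹ * x⁻¹) * q = q * (q * x * q⁻¹ * x⁻¹) := step1 _ hdA' hdP q hq
  have e : x * q * x⁻¹ * q⁻¹ = (q * x * q⁻¹ * x⁻¹)⁻¹ := by group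
  have hmem : x * q * x⁻¹ * q⁻¹ ∈ P := by
    rw [e]; exact P.inv_mem hdP
  have hcomm : (x * q * x⁻¹ * q⁻¹) * q = q * (x * q * x⁻¹ * q⁻¹) := by
    rw [e]
    calc (q * x * q⁻¹ * x⁻¹)⁻¹ * q
        = (q * x * q⁻¹ * x⁻¹)⁻¹ * (q * (q * x * q⁻¹ * x⁻¹)) * (q * x * q⁻¹ * x⁻¹)⁻¹ := by group
      _ = (q * x * q⁻¹ * x⁻¹)⁻¹ * ((q * x * q⁻¹ * x⁻¹) * q) * (q * x * q⁻¹ * x⁻¹)⁻¹ := by
          rw [hdq]
      _ = q * (q * x * q⁻¹ * x⁻¹)⁻¹ := by group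
  exact (commute_of_coprime_of_comm_central P hP q (Nat.card Q) hQ (hQm q hq) x hx hmem
    hcomm)


/-- Invariant `p'`-subgroups of a `p`-constrained group whose `p`-subgroups have class ≤ 2 lie in
`O_{p'}`: `A` an abelian `p`-subgroup containing every `p`-element of its centralizer. -/
theorem inv_le_core2 [Finite X] (p : ℕ) [Fact p.Prime] (hX : Cfsg.IsPConstrained p X)
    (hcl : ∀ P : Subgroup X, IsPGroup p P → ∀ x ∈ P, ∀ y ∈ P, ∀ z ∈ P,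
      (x * y * x⁻¹ * y⁻¹) * z = z * (x * y * x⁻¹ * y⁻¹))
    (A : Subgroup X) (hAc : ∀ x ∈ A, ∀ y ∈ A, x * y = y * x) (hAp : IsPGroup p ↥A)
    (hfull : ∀ x ∈ Subgroup.centralizer (A : Set X), IsPGroup p (Subgroup.zpowers x) → x ∈ A)
    (Q : Subgroup X) (hQ : ¬ p ∣ Nat.card ↥Q) (hAQ : A ≤ Subgroup.normalizer (Q : Set X)) :
    Q ≤ Cfsg.pPrimeCore p X := by
  have hKn : (Cfsg.pPrimeCore p X).Normal := Cfsg.Agent.Helper10.pPrimeCore_normal p X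
  have hKc : (Nat.card (Cfsg.pPrimeCore p X)).Coprime p :=
    Cfsg.Agent.Helper23.pPrimeCore_coprime (G := X) p
  have hLn : (Cfsg.pPrimePCore p X).Normal := Cfsg.Agent.Helper10.pPrimePCore_normal p X
  obtain ⟨S, hAS⟩ := hAp.exists_le_sylow
  obtain ⟨P₀, hP₀⟩ : ∃ P₀ : Subgroup X, P₀ = (S : Subgroup X) ⊓ Cfsg.pPrimePCore p X := ⟨_, rfl⟩
  have hP₀p : IsPGroup p P₀ := by rw [hP₀]; exact S.isPGroup'.to_le inf_le_left
  have hP₀L : P₀ ≤ Cfsg.pPrimePCore p X := by rw [hP₀]; exact inf_le_right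
  have hAP₀ : A ≤ Subgroup.normalizer (P₀ : Set X) := by
    intro a ha
    rw [hP₀]
    exact mem_normalizer_inf _ _ a (Subgroup.le_normalizer (hAS ha))
      (by rw [Subgroup.normalizer_eq_top]; exact Subgroup.mem_top a)
  have hidx : ¬ p ∣ (P₀.subgroupOf (Cfsg.pPrimePCore p X)).index := by
    have := Cfsg.Agent.Helper10.not_dvd_relIndex_pPrimePCore S
    rw [← hP₀] at this; exact this
  have hPsp : IsPGroup p (P₀.subgroupOf (Cfsg.pPrimePCore p X)) := hP₀p.comap_subtype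
  have hcen := hX (hPsp.toSylow hidx)
  have hmap : ((hPsp.toSylow hidx : Sylow p ↥(Cfsg.pPrimePCore p X)) :
      Subgroup ↥(Cfsg.pPrimePCore p X)).map (Cfsg.pPrimePCore p X).subtype = P₀ := by
    rw [IsPGroup.toSylow_coe, Subgroup.subgroupOf_map_subtype, inf_of_le_left hP₀L]
  rw [hmap] at hcen
  obtain ⟨Q₁, hQ₁⟩ : ∃ Q₁ : Subgroup X,
      Q₁ = (Cfsg.pPrimeCore p X ⊔ Q) ⊓ Subgroup.normalizer (P₀ : Set X) := ⟨_, rfl⟩
  have hQc : (Nat.card Q).Coprime p :=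
    (Nat.Prime.coprime_iff_not_dvd (Fact.out : p.Prime)).mpr hQ |>.symm
  have hKQ : (Nat.card ↥(Cfsg.pPrimeCore p X ⊔ Q)).Coprime p := by
    have h1 := Cfsg.Agent.S0663.card_mul_relIndex' (Cfsg.pPrimeCore p X)
      (Cfsg.pPrimeCore p X ⊔ Q) le_sup_left
    have h2 : (Cfsg.pPrimeCore p X).relIndex (Cfsg.pPrimeCore p X ⊔ Q) =
        (Cfsg.pPrimeCore p X).relIndex Q := by
      rw [sup_comm (Cfsg.pPrimeCore p X) Q]; exact Subgroup.relIndex_sup_right (H := Q) (K := Cfsg.pPrimeCore p X)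
    rw [h2] at h1
    rw [← h1]
    exact Nat.Coprime.mul_left hKc
      (Nat.Coprime.coprime_dvd_left (Subgroup.relIndex_dvd_card _ _) hQc)
  have hQ₁c : (Nat.card Q₁).Coprime p := by
    rw [hQ₁]
    exact Nat.Coprime.coprime_dvd_left (Subgroup.card_dvd_of_le inf_le_left) hKQ
  have hQ₁P : Q₁ ≤ Subgroup.normalizer (P₀ : Set X) := by rw [hQ₁]; exact inf_le_right
  have hAQ₁ : A ≤ Subgroup.normalizer (Q₁ : Set X) := by
    intro a ha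
    rw [hQ₁]
    apply mem_normalizer_inf
    · exact Cfsg.Agent.S1302.mem_normalizer_sup _ _ a
        (by rw [Subgroup.normalizer_eq_top]; exact Subgroup.mem_top a) (hAQ ha)
    · exact Subgroup.le_normalizer (hAP₀ ha)
  have hP₀S : P₀ ≤ (S : Subgroup X) := by rw [hP₀]; exact inf_le_left
  have hfull' : ∀ x ∈ P₀, (∀ a ∈ A, a * x = x * a) → x ∈ A := by
    intro x hx h
    apply hfull x (Subgroup.mem_centralizer_iff.mpr h)
    exact hP₀p.to_le ((Subgroup.zpowers_le).mpr hx)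
  have hcore := core2 A Q₁ P₀ (S : Subgroup X) (hcl _ S.isPGroup') hAS hP₀S hP₀p hAc hfull'
    hQ₁c hAQ₁ hAP₀ hQ₁P
  have hQ₁L : Q₁ ≤ Cfsg.pPrimePCore p X := hcore.trans hcen
  have hQ₁K : Q₁ ≤ Cfsg.pPrimeCore p X := by
    intro x hx
    have hxL := hQ₁L hx
    have h1 : (QuotientGroup.mk' (Cfsg.pPrimeCore p X)) x ∈
        Cfsg.pCore p (X ⧸ Cfsg.pPrimeCore p X) := hxL
    obtain ⟨j, hj⟩ := (pCore_isPGroup p (X ⧸ Cfsg.pPrimeCore p X)) ⟨_, h1⟩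
    have hj' : ((QuotientGroup.mk' (Cfsg.pPrimeCore p X)) x) ^ p ^ j = 1 :=
      congrArg Subtype.val hj
    have h2 : x ^ Nat.card Q₁ = 1 := by
      have := pow_card_eq_one' (G := ↥Q₁) (x := ⟨x, hx⟩)
      exact congrArg Subtype.val this
    have h3 : ((QuotientGroup.mk' (Cfsg.pPrimeCore p X)) x) ^ Nat.card Q₁ = 1 := by
      rw [← map_pow, h2, map_one]
    have h4 := eq_one_of_pow_coprime (p := p) _ (Nat.card Q₁) j hQ₁c h3 hj'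
    exact (QuotientGroup.eq_one_iff x).mp h4
  intro q hq
  obtain ⟨d, hd, hdq⟩ := Cfsg.Agent.Helper10.frattini_pPrimePCore S q
  have h1 : d * q ∈ Q₁ := by
    rw [hQ₁]
    refine ⟨Subgroup.mul_mem _ (Subgroup.mem_sup_left hd) (Subgroup.mem_sup_right hq), ?_⟩
    rw [hP₀]; exact hdq
  have h2 := hQ₁K h1
  have e : q = d⁻¹ * (d * q) := by group
  rw [e]
  exact Subgroup.mul_mem _ (Subgroup.inv_mem _ hd) h2

end Cfsg.Agent.Helper21.PCInv
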