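import Mathlib
import Cfsg.Agent.Helper14.SylTorusSp

set_option autoImplicit false

namespace Cfsg.Agent.Helper21.PSpRS

/-- elements of every order dividing `q ^ l - 1` in `Sp (2 n, q)` for `0 < l ≤ n`
(a Singer torus of `GL l` inside the Levi factor). -/
theorem sp_of_dvd_sub {F : Type*} [Field F] [Fintype F] (n l m : ℕ) (hl : 0 < l) (hln : l ≤ n) (hm : m ∣ Fintype.card F ^ l - 1) : ∃ x : ↥(Matrix.symplecticGroup (Fin n) F), orderOf x = m := by
  classical
  have hq2 : 2 ≤ Fintype.card F := Fintype.one_lt_card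
  obtain ⟨p, hp⟩ := CharP.exists F
  haveI := hp
  haveI : Fact p.Prime := ⟨CharP.char_is_prime F p⟩
  haveI : NeZero l := ⟨by omega⟩
  haveI : Fintype (FiniteField.Extension F p l) := Fintype.ofFinite _
  have hdim : Module.finrank F (FiniteField.Extension F p l) = l :=
    FiniteField.finrank_extension F p l
  have hLcard : Fintype.card (FiniteField.Extension F p l) = Fintype.card F ^ l := by
    rw [Module.card_eq_pow_finrank (K := F) (V := FiniteField.Extension F p l), hdim]
  have hUcard : Nat.card (FiniteField.Extension F p l)ˣ = Fintype.card F ^ l - 1 := by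
    rw [Nat.card_units, Nat.card_eq_fintype_card, hLcard]
  have hN0 : Fintype.card F ^ l - 1 ≠ 0 := by
    have h2 : 2 ≤ Fintype.card F ^ l := by
      calc 2 ≤ Fintype.card F := hq2
        _ = Fintype.card F ^ 1 := (pow_one _).symm
        _ ≤ Fintype.card F ^ l := Nat.pow_le_pow_right (by omega) hl
    omega
  obtain ⟨g, hg⟩ := IsCyclic.exists_ofOrder_eq_natCard (α := (FiniteField.Extension F p l)ˣ)
  rw [hUcard] at hg
  obtain ⟨c, hc⟩ := hm
  have hc0 : c ≠ 0 := by
    rintro rfl
    rw [mul_zero] at hc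
    exact hN0 hc
  have hu : orderOf (g ^ c) = m := by
    rw [orderOf_pow_of_dvd hc0 (by rw [hg, hc]; exact dvd_mul_left c m), hg, hc]
    exact Nat.mul_div_cancel m (Nat.pos_of_ne_zero hc0)
  obtain ⟨φ, hφ⟩ := Cfsg.Agent.Helper14.SylTorus.torusGL (F := F)
    (L := FiniteField.Extension F p l) 1 l l hdim (by omega)
  obtain ⟨Φ, hΦ⟩ := Cfsg.Agent.Helper14.SylTorus.sp_blocks (F := F) l 1 n (by omega)
    ((Cfsg.Agent.Helper18.leviSp (F := F) (Fin l)).comp φ)
    ((Cfsg.Agent.Helper18.leviSp_injective (Fin l)).comp hφ)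
  let δ : (FiniteField.Extension F p l)ˣ →*
      (Fin 1 → (Fin 1 → (FiniteField.Extension F p l)ˣ)) :=
    { toFun := fun u _ _ => u
      map_one' := rfl
      map_mul' := fun _ _ => rfl }
  have hδ : Function.Injective δ := fun a b h => congrFun (congrFun h 0) 0
  refine ⟨Φ (δ (g ^ c)), ?_⟩
  rw [orderOf_injective Φ hΦ, orderOf_injective δ hδ, hu]

end Cfsg.Agent.Helper21.PSpRS
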