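import Mathlib
import Cfsg.Agent.Helper18.SpecPGL

set_option autoImplicit false

namespace Cfsg.Agent.Helper21.Psl3x

open Polynomial

/-- Cayley-Hamilton transfer: if the characteristic polynomial divides `X ^ e - C c`
then `M ^ e = c • 1`. -/
theorem dvd_to_pow {F : Type*} [Field F] (M : Matrix (Fin 3) (Fin 3) F) (e : ℕ) (c : F)
    (h : M.charpoly ∣ X ^ e - C c) : M ^ e = c • (1 : Matrix (Fin 3) (Fin 3) F) := by
  obtain ⟨g, hg⟩ := h
  have h1 := congrArg (Polynomial.aeval M) hg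
  rw [map_mul, Matrix.aeval_self_charpoly, zero_mul] at h1
  simp only [map_sub, map_pow, Polynomial.aeval_X, Polynomial.aeval_C] at h1
  rw [sub_eq_zero] at h1
  rw [h1, Algebra.algebraMap_eq_smul_one]

theorem case_quad_aux {F : Type*} [Field F] [Fintype F] (M : Matrix (Fin 3) (Fin 3) F)
    (hdet : M.det = 1) (lam : F) (ψ : Polynomial F) (hψm : ψ.Monic) (hψd : ψ.natDegree = 2)
    (hψ : Irreducible ψ) (hchar : M.charpoly = (X - C lam) * ψ) (d k : ℕ) (hd3 : d ∣ 3)
    (hk : Fintype.card F - 1 = d * k) :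
    ∃ c : F, M ^ ((Fintype.card F + 1) * k) = c • (1 : Matrix (Fin 3) (Fin 3) F) := by
  classical
  have hq1 : 1 < Fintype.card F := Fintype.one_lt_card
  have hnr : ∀ z : F, ¬ ψ.IsRoot z := by
    intro z hz
    have h1 := Polynomial.degree_eq_one_of_irreducible_of_root hψ hz
    have h2 : ψ.degree = 2 := by
      rw [Polynomial.degree_eq_natDegree hψm.ne_zero, hψd]; rfl
    rw [h2] at h1
    exact absurd h1 (by decide)
  have h2c : ψ.coeff 2 = 1 := by
    have := hψm.coeff_natDegree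
    rwa [hψd] at this
  have hψeq : ψ = Cfsg.Agent.Helper18.Spec.quadPoly2 (-ψ.coeff 1) (ψ.coeff 0) := by
    unfold Cfsg.Agent.Helper18.Spec.quadPoly2
    have hdeg : ψ.degree ≤ 2 := by
      rw [Polynomial.degree_eq_natDegree hψm.ne_zero, hψd]; rfl
    have h := Polynomial.eq_quadratic_of_degree_le_two hdeg
    rw [h2c] at h
    conv_lhs => rw [h]
    simp only [map_neg, map_one, one_mul]
    ring
  obtain ⟨t, δ, rfl⟩ : ∃ t δ : F, ψ = Cfsg.Agent.Helper18.Spec.quadPoly2 t δ := ⟨_, _, hψeq⟩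
  have hirr : ∀ z : F, z ^ 2 - t * z + δ ≠ 0 := by
    intro z hz
    apply hnr z
    rw [Polynomial.IsRoot.def]
    simp only [Cfsg.Agent.Helper18.Spec.quadPoly2, eval_add, eval_sub, eval_mul, eval_pow,
      eval_X, eval_C]
    exact hz
  have hdvd1 := Cfsg.Agent.Helper18.Spec.adjoinRoot_pow_card_add_one' t δ hirr
  have hlδ : lam * δ = 1 := by
    have h1 := Matrix.det_eq_sign_charpoly_coeff M
    rw [hdet, hchar, Polynomial.mul_coeff_zero] at h1
    have h3 : (Cfsg.Agent.Helper18.Spec.quadPoly2 t δ).coeff 0 = δ := by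
      simp [Cfsg.Agent.Helper18.Spec.quadPoly2]
    have h4 : (X - C lam : F[X]).coeff 0 = -lam := by simp
    rw [h3, h4, Fintype.card_fin] at h1
    linear_combination -h1
  have hlam0 : lam ≠ 0 := by
    rintro rfl
    rw [zero_mul] at hlδ
    exact zero_ne_one hlδ
  have hlame : lam ^ ((Fintype.card F + 1) * k) = δ ^ k := by
    have h1 : lam ^ (Fintype.card F - 1) = 1 := FiniteField.pow_card_sub_one_eq_one lam hlam0
    have hd2 : d ∣ Fintype.card F + 2 := by
      have h5 : d ∣ (Fintype.card F - 1) + 3 := Dvd.dvd.add ⟨k, hk⟩ hd3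
      have e : Fintype.card F - 1 + 3 = Fintype.card F + 2 := by omega
      rwa [e] at h5
    obtain ⟨m, hm⟩ := hd2
    have h2 : lam ^ ((Fintype.card F + 2) * k) = 1 := by
      have e : (Fintype.card F + 2) * k = (Fintype.card F - 1) * m := by
        rw [hm, hk]; ring
      rw [e, pow_mul, h1, one_pow]
    have h3 : lam ^ ((Fintype.card F + 1) * k) * lam ^ k = δ ^ k * lam ^ k := by
      rw [← pow_add, ← mul_pow, mul_comm δ lam, hlδ, one_pow]
      have e : (Fintype.card F + 1) * k + k = (Fintype.card F + 2) * k := by ring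
      rw [e, h2]
    exact mul_right_cancel₀ (pow_ne_zero k hlam0) h3
  refine ⟨δ ^ k, ?_⟩
  apply dvd_to_pow
  rw [hchar]
  have hψdvd : Cfsg.Agent.Helper18.Spec.quadPoly2 t δ ∣
      X ^ ((Fintype.card F + 1) * k) - C (δ ^ k) := by
    have h1 : (X ^ (Fintype.card F + 1) - C δ : F[X]) ∣
        (X ^ (Fintype.card F + 1)) ^ k - (C δ) ^ k := sub_dvd_pow_sub_pow _ _ k
    rw [← pow_mul, ← C_pow] at h1
    exact hdvd1.trans h1
  have hlamdvd : (X - C lam : F[X]) ∣ X ^ ((Fintype.card F + 1) * k) - C (δ ^ k) := by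
    rw [Polynomial.dvd_iff_isRoot, Polynomial.IsRoot.def]
    simp only [eval_sub, eval_pow, eval_X, eval_C]
    rw [sub_eq_zero]
    exact hlame
  have hcop : IsCoprime (X - C lam : F[X]) (Cfsg.Agent.Helper18.Spec.quadPoly2 t δ) := by
    rw [(Polynomial.irreducible_X_sub_C lam).coprime_iff_not_dvd, Polynomial.dvd_iff_isRoot]
    exact hnr lam
  exact hcop.mul_dvd hlamdvd hψdvd

theorem case_quad {F : Type*} [Field F] [Fintype F] (M : Matrix (Fin 3) (Fin 3) F) (hdet : M.det = 1) (lam : F) (ψ : Polynomial F) (hψm : ψ.Monic) (hψd : ψ.natDegree = 2) (hψ : Irreducible ψ) (hchar : M.charpoly = (Polynomial.X - Polynomial.C lam) * ψ) : ∃ c : F, M ^ ((Fintype.card F ^ 2 - 1) / Nat.gcd 3 (Fintype.card F - 1)) = c • (1 : Matrix (Fin 3) (Fin 3) F) := by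
  have hq1 : 1 < Fintype.card F := Fintype.one_lt_card
  obtain ⟨k, hk⟩ : Nat.gcd 3 (Fintype.card F - 1) ∣ Fintype.card F - 1 := Nat.gcd_dvd_right _ _
  have hdpos : 0 < Nat.gcd 3 (Fintype.card F - 1) := Nat.gcd_pos_of_pos_left _ (by norm_num)
  have he : (Fintype.card F ^ 2 - 1) / Nat.gcd 3 (Fintype.card F - 1)
      = (Fintype.card F + 1) * k := by
    apply Nat.div_eq_of_eq_mul_right hdpos
    have h2 : Fintype.card F ^ 2 - 1 = (Fintype.card F + 1) * (Fintype.card F - 1) := by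
      obtain ⟨n, hn⟩ : ∃ n, Fintype.card F = n + 1 := ⟨Fintype.card F - 1, by omega⟩
      rw [hn, Nat.add_sub_cancel]
      have h3 : (n + 1) ^ 2 = (n + 1 + 1) * n + 1 := by ring
      rw [h3, Nat.add_sub_cancel]
    calc Fintype.card F ^ 2 - 1 = (Fintype.card F + 1) * (Fintype.card F - 1) := h2
      _ = (Fintype.card F + 1) * (Nat.gcd 3 (Fintype.card F - 1) * k) :=
          congrArg (fun x => (Fintype.card F + 1) * x) hk
      _ = Nat.gcd 3 (Fintype.card F - 1) * ((Fintype.card F + 1) * k) := by ring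
  rw [he]
  exact case_quad_aux M hdet lam ψ hψm hψd hψ hchar _ k (Nat.gcd_dvd_left _ _) hk

end Cfsg.Agent.Helper21.Psl3x
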