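import Mathlib
import Cfsg.Prelude.Def_OddOrderLocal
import Cfsg.Agent.Helper23.ZJ
import Cfsg.Agent.Helper23.PSolv
import Cfsg.Agent.S1465

/-!
# The Puig subgroup (Bender–Glauberman, Appendix B)

Relative Puig series inside an ambient group, the sandwich
`L_*(S) ≤ L_*(T) ≤ L(T) ≤ L(S)` and normality of `Z(L(S))` for solvable groups of odd order.
-/

set_option autoImplicit false

namespace Cfsg.Agent.Helper21.Puig

universe u

section Basic

variable {G : Type*} [Group G]

/-- relative Puig step: generated by the abelian subgroups of `R` normalized by `X`. -/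
def lStep (R X : Subgroup G) : Subgroup G :=
  sSup {A : Subgroup G | A ≤ R ∧ IsMulCommutative A ∧ X ≤ Subgroup.normalizer (A : Set G)}

/-- relative Puig series of the subgroup `R`. -/
def lSeq (R : Subgroup G) : ℕ → Subgroup G
  | 0 => ⊥
  | n + 1 => lStep R (lSeq R n)

/-- `L(R)` inside `G`. -/
def pL (R : Subgroup G) : Subgroup G := ⨅ n : ℕ, lSeq R (2 * n + 1)

/-- `L_*(R)` inside `G`. -/
def pLs (R : Subgroup G) : Subgroup G := ⨆ n : ℕ, lSeq R (2 * n)

/-- `Z(L(R))` inside `G`. -/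
def zL (R : Subgroup G) : Subgroup G := pL R ⊓ Subgroup.centralizer (pL R : Set G)

theorem lStep_mono {R R' X X' : Subgroup G} (hR : R ≤ R') (hX : X' ≤ X) :
    lStep R X ≤ lStep R' X' := by
  apply sSup_le_sSup
  rintro A ⟨h1, h2, h3⟩
  exact ⟨h1.trans hR, h2, hX.trans h3⟩

theorem lStep_le (R X : Subgroup G) : lStep R X ≤ R := by
  apply sSup_le
  rintro A ⟨h1, -, -⟩
  exact h1

theorem le_lStep {R X A : Subgroup G} (hA : A ≤ R) (hc : IsMulCommutative A)
    (hX : X ≤ Subgroup.normalizer (A : Set G)) : A ≤ lStep R X :=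
  le_sSup ⟨hA, hc, hX⟩

theorem lSeq_succ (R : Subgroup G) (n : ℕ) : lSeq R (n + 1) = lStep R (lSeq R n) := rfl

theorem lSeq_zero (R : Subgroup G) : lSeq R 0 = ⊥ := rfl

theorem lSeq_succ_le (R : Subgroup G) (n : ℕ) : lSeq R (n + 1) ≤ R := lStep_le R _

theorem lSeq_chain (R : Subgroup G) : ∀ j k : ℕ,
    lSeq R (2 * j) ≤ lSeq R (2 * j + k) ∧ lSeq R (2 * j + 1 + k) ≤ lSeq R (2 * j + 1) := by
  intro j
  induction j with
  | zero =>
    intro k
    refine ⟨?_, ?_⟩
    · show lSeq R 0 ≤ _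
      rw [lSeq_zero]; exact bot_le
    · have h : 2 * 0 + 1 + k = k + 1 := by omega
      rw [h]
      show lStep R (lSeq R k) ≤ lStep R (lSeq R 0)
      exact lStep_mono le_rfl (by rw [lSeq_zero]; exact bot_le)
  | succ j ih =>
    intro k
    have h1 : lSeq R (2 * (j + 1)) ≤ lSeq R (2 * (j + 1) + k) := by
      have e1 : 2 * (j + 1) = (2 * j + 1) + 1 := by omega
      have e2 : 2 * (j + 1) + k = (2 * j + 1 + k) + 1 := by omega
      rw [e2, e1]
      show lStep R (lSeq R (2 * j + 1)) ≤ lStep R (lSeq R (2 * j + 1 + k))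
      exact lStep_mono le_rfl (ih k).2
    refine ⟨h1, ?_⟩
    have e2 : 2 * (j + 1) + 1 + k = (2 * (j + 1) + k) + 1 := by omega
    rw [e2]
    show lStep R (lSeq R (2 * (j + 1) + k)) ≤ lStep R (lSeq R (2 * (j + 1)))
    exact lStep_mono le_rfl h1

theorem even_le_odd (R : Subgroup G) (n m : ℕ) : lSeq R (2 * n) ≤ lSeq R (2 * m + 1) := by
  by_cases h : n ≤ m
  · have h1 := (lSeq_chain R n (2 * m + 1 - 2 * n)).1
    rwa [show 2 * n + (2 * m + 1 - 2 * n) = 2 * m + 1 by omega] at h1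
  · have h1 := (lSeq_chain R m (2 * n - 2 * m - 1)).2
    rwa [show 2 * m + 1 + (2 * n - 2 * m - 1) = 2 * n by omega] at h1

theorem even_mono (R : Subgroup G) {n m : ℕ} (h : n ≤ m) : lSeq R (2 * n) ≤ lSeq R (2 * m) := by
  have h1 := (lSeq_chain R n (2 * m - 2 * n)).1
  rwa [show 2 * n + (2 * m - 2 * n) = 2 * m by omega] at h1

theorem odd_anti (R : Subgroup G) {n m : ℕ} (h : n ≤ m) :
    lSeq R (2 * m + 1) ≤ lSeq R (2 * n + 1) := by
  have h1 := (lSeq_chain R n (2 * m - 2 * n)).2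
  rwa [show 2 * n + 1 + (2 * m - 2 * n) = 2 * m + 1 by omega] at h1

theorem pLs_le_pL (R : Subgroup G) : pLs R ≤ pL R :=
  iSup_le fun n => le_iInf fun m => even_le_odd R n m

theorem pL_le (R : Subgroup G) : pL R ≤ R :=
  (iInf_le _ 0).trans (lSeq_succ_le R _)

theorem exists_stable [Finite G] (R : Subgroup G) :
    ∃ N : ℕ, pLs R = lSeq R (2 * N) ∧ pL R = lSeq R (2 * N + 1) ∧
      lStep R (pLs R) = pL R ∧ lStep R (pL R) = pLs R := by
  classical
  -- even part
  obtain ⟨_, ⟨N₁, rfl⟩, hN₁⟩ := WellFounded.has_min Nat.lt_wfRel.wf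
    (Set.range fun n => Nat.card G - Nat.card (lSeq R (2 * n))) ⟨_, ⟨0, rfl⟩⟩
  obtain ⟨_, ⟨N₂, rfl⟩, hN₂⟩ := WellFounded.has_min Nat.lt_wfRel.wf
    (Set.range fun n => Nat.card (lSeq R (2 * n + 1))) ⟨_, ⟨0, rfl⟩⟩
  have he : ∀ m, N₁ ≤ m → lSeq R (2 * m) = lSeq R (2 * N₁) := by
    intro m hm
    symm
    apply Subgroup.eq_of_le_of_card_ge (even_mono R hm)
    have h1 := hN₁ _ ⟨m, rfl⟩
    have h2 : Nat.card (lSeq R (2 * m)) ≤ Nat.card G := Subgroup.card_le_card_group _
    have h3 : Nat.card (lSeq R (2 * N₁)) ≤ Nat.card G := Subgroup.card_le_card_group _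
    have h4 : ¬ (Nat.card G - Nat.card (lSeq R (2 * m)) <
        Nat.card G - Nat.card (lSeq R (2 * N₁))) := h1
    omega
  have ho : ∀ m, N₂ ≤ m → lSeq R (2 * m + 1) = lSeq R (2 * N₂ + 1) := by
    intro m hm
    apply Subgroup.eq_of_le_of_card_ge (odd_anti R hm)
    have h1 := hN₂ _ ⟨m, rfl⟩
    have h4 : ¬ (Nat.card (lSeq R (2 * m + 1)) < Nat.card (lSeq R (2 * N₂ + 1))) := h1
    omega
  set N := max N₁ N₂ with hN
  have he' : ∀ m, N ≤ m → lSeq R (2 * m) = lSeq R (2 * N) := by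
    intro m hm
    rw [he m (le_trans (le_max_left _ _) hm), he N (le_max_left _ _)]
  have ho' : ∀ m, N ≤ m → lSeq R (2 * m + 1) = lSeq R (2 * N + 1) := by
    intro m hm
    rw [ho m (le_trans (le_max_right _ _) hm), ho N (le_max_right _ _)]
  have e1 : pLs R = lSeq R (2 * N) := by
    apply le_antisymm
    · apply iSup_le
      intro n
      by_cases h : n ≤ N
      · exact even_mono R h
      · exact le_of_eq (he' n (by omega))
    · exact le_iSup (fun n => lSeq R (2 * n)) N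
  have e2 : pL R = lSeq R (2 * N + 1) := by
    apply le_antisymm
    · exact iInf_le (fun n => lSeq R (2 * n + 1)) N
    · apply le_iInf
      intro n
      by_cases h : n ≤ N
      · exact odd_anti R h
      · exact le_of_eq (ho' n (by omega)).symm
  refine ⟨N, e1, e2, ?_, ?_⟩
  · rw [e1, e2]; rfl
  · rw [e1, e2]
    have h := he' (N + 1) (by omega)
    rw [← h]; rfl

end Basic

section Maps

variable {G : Type*} [Group G] {H : Type*} [Group H]

theorem map_lStep (f : H →* G) (hf : Function.Injective f) (R X : Subgroup H) :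
    (lStep R X).map f = lStep (R.map f) (X.map f) := by
  apply le_antisymm
  · rw [Subgroup.map_le_iff_le_comap]
    apply sSup_le
    rintro A ⟨h1, h2, h3⟩
    rw [← Subgroup.map_le_iff_le_comap]
    haveI := h2
    refine le_lStep (Subgroup.map_mono h1) inferInstance ?_
    exact (Subgroup.map_mono h3).trans (Subgroup.le_normalizer_map f)
  · apply sSup_le
    rintro B ⟨h1, h2, h3⟩
    have hBr : B ≤ f.range := h1.trans (Subgroup.map_le_range f R)
    have hB : (B.comap f).map f = B := Subgroup.map_comap_eq_self hBr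
    rw [← hB]
    apply Subgroup.map_mono
    refine le_lStep ?_ ?_ ?_
    · intro x hx
      obtain ⟨r, hr, hrx⟩ := h1 (Subgroup.mem_comap.1 hx)
      rw [← hf hrx]; exact hr
    · refine IsMulCommutative.of_setLike_mul_comm (fun a ha b hb => hf ?_)
      rw [map_mul, map_mul]
      exact setLike_mul_comm (s := B) (Subgroup.mem_comap.1 ha) (Subgroup.mem_comap.1 hb)
    · intro x hx
      have hx' := h3 (Subgroup.mem_map_of_mem f hx)
      rw [Subgroup.mem_normalizer_iff] at hx' ⊢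
      intro a
      rw [Subgroup.mem_comap, Subgroup.mem_comap, hx' (f a), map_mul, map_mul, map_inv]

theorem map_lSeq (f : H →* G) (hf : Function.Injective f) (R : Subgroup H) :
    ∀ n : ℕ, (lSeq R n).map f = lSeq (R.map f) n
  | 0 => by rw [lSeq_zero, lSeq_zero, Subgroup.map_bot]
  | n + 1 => by rw [lSeq_succ, lSeq_succ, map_lStep f hf, map_lSeq f hf R n]

theorem map_pL (f : H →* G) (hf : Function.Injective f) (R : Subgroup H) :
    (pL R).map f = pL (R.map f) := by
  unfold pL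
  rw [Subgroup.map_iInf f hf]
  exact iInf_congr fun n => map_lSeq f hf R _

theorem map_pLs (f : H →* G) (hf : Function.Injective f) (R : Subgroup H) :
    (pLs R).map f = pLs (R.map f) := by
  unfold pLs
  rw [Subgroup.map_iSup]
  exact iSup_congr fun n => map_lSeq f hf R _

theorem map_zL (f : H →* G) (hf : Function.Injective f) (R : Subgroup H) :
    (zL R).map f = zL (R.map f) := by
  unfold zL
  rw [Cfsg.Agent.Helper23.map_inf_centralizer f hf, map_pL f hf]

theorem puigSeq_eq (H : Type*) [Group H] : ∀ n : ℕ, Cfsg.puigSeq H n = lSeq (⊤ : Subgroup H) n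
  | 0 => rfl
  | n + 1 => by
    show Cfsg.puigStep (Cfsg.puigSeq H n) = lStep ⊤ (lSeq ⊤ n)
    rw [puigSeq_eq H n]
    unfold Cfsg.puigStep lStep
    congr 1
    ext A
    simp

theorem map_puigSeq (R : Subgroup G) (n : ℕ) :
    (Cfsg.puigSeq ↥R n).map R.subtype = lSeq R n := by
  rw [puigSeq_eq, map_lSeq R.subtype R.subtype_injective, ← MonoidHom.range_eq_map,
    Subgroup.range_subtype]

theorem map_puigSubgroup (R : Subgroup G) :
    (Cfsg.puigSubgroup ↥R).map R.subtype = pL R := by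
  unfold Cfsg.puigSubgroup pL
  rw [Subgroup.map_iInf _ R.subtype_injective]
  exact iInf_congr fun n => map_puigSeq R _

theorem map_puigLower (R : Subgroup G) :
    (Cfsg.puigLower ↥R).map R.subtype = pLs R := by
  unfold Cfsg.puigLower pLs
  rw [Subgroup.map_iSup]
  exact iSup_congr fun n => map_puigSeq R _

theorem center_map (K : Subgroup G) :
    (Subgroup.center ↥K).map K.subtype = K ⊓ Subgroup.centralizer (K : Set G) := by
  ext x
  constructor
  · rintro ⟨y, hy, rfl⟩
    refine ⟨y.2, Subgroup.mem_centralizer_iff.2 ?_⟩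
    intro k hk
    have h := Subgroup.mem_center_iff.1 hy ⟨k, hk⟩
    exact congrArg Subtype.val h
  · rintro ⟨hxK, hxC⟩
    have hxC' := Subgroup.mem_centralizer_iff.1 hxC
    exact ⟨⟨x, hxK⟩, Subgroup.mem_center_iff.2 (fun k => Subtype.ext (hxC' k k.2)), rfl⟩

theorem stmt_Z (R : Subgroup G) :
    ((Subgroup.center ↥(Cfsg.puigSubgroup ↥R)).map (Cfsg.puigSubgroup ↥R).subtype).map R.subtype
      = zL R := by
  rw [center_map, Cfsg.Agent.Helper23.map_inf_centralizer R.subtype R.subtype_injective,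
    map_puigSubgroup]
  rfl

theorem lSeq_normal (R : Subgroup G) [hR : R.Normal] (n : ℕ) : (lSeq R n).Normal := by
  refine ⟨fun x hx g => ?_⟩
  have h := map_lSeq (MulAut.conj g).toMonoidHom (MulAut.conj g).injective R n
  have hR' : R.map (MulAut.conj g).toMonoidHom = R :=
    Cfsg.Agent.Helper23.map_conj_eq_of_mem_normalizer
      (by rw [Subgroup.normalizer_eq_top]; trivial)
  rw [hR'] at h
  rw [← h]
  exact ⟨x, hx, rfl⟩

theorem pL_normal (R : Subgroup G) [hR : R.Normal] : (pL R).Normal :=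
  Subgroup.normal_iInf_normal fun _ => lSeq_normal R _

theorem zL_normal (R : Subgroup G) [hR : R.Normal] : (zL R).Normal := by
  have hn := pL_normal R
  refine ⟨fun x hx g => ⟨hn.conj_mem x hx.1 g, Subgroup.mem_centralizer_iff.2 ?_⟩⟩
  intro k hk
  have h1 : g⁻¹ * k * g ∈ pL R := by
    have := hn.conj_mem k hk g⁻¹
    simpa using this
  have h2 := (Subgroup.mem_centralizer_iff.1 hx.2) _ h1
  calc k * (g * x * g⁻¹) = g * ((g⁻¹ * k * g) * x) * g⁻¹ := by group
    _ = g * (x * (g⁻¹ * k * g)) * g⁻¹ := by rw [h2]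
    _ = g * x * g⁻¹ * k := by group

theorem cent_normalizer {K : Subgroup G} {x : G}
    (hx : x ∈ Subgroup.centralizer (K : Set G)) :
    K ≤ Subgroup.normalizer (Subgroup.zpowers x : Set G) := by
  intro y hy
  apply Subgroup.centralizer_le_normalizer
  rw [Subgroup.mem_centralizer_iff]
  intro h hh
  obtain ⟨i, rfl⟩ := Subgroup.mem_zpowers_iff.1 hh
  have h1 : Commute y x := (Subgroup.mem_centralizer_iff.1 hx) y hy
  exact (h1.zpow_right i).eq.symm

theorem cent_le (R : Subgroup G) (n : ℕ) :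
    R ⊓ Subgroup.centralizer (lSeq R (2 * n + 1) : Set G) ≤ lSeq R (2 * n + 1) := by
  rintro x ⟨hxR, hxC⟩
  have h1 : Subgroup.zpowers x ≤ lStep R (lSeq R (2 * n + 1)) :=
    le_lStep (Subgroup.zpowers_le.2 hxR) inferInstance (cent_normalizer hxC)
  exact (lSeq_chain R n 1).2 (h1 (Subgroup.mem_zpowers x))

end Maps

section Sandwich

variable {G : Type u} [Group G] [Finite G] [Group.IsSolvable G]

theorem sandwich (hodd : Odd (Nat.card G)) (p : ℕ) [Fact p.Prime] (hp : p ≠ 2)
    (hO : Cfsg.pPrimeCore p G = ⊥) (S : Sylow p G) : ∀ n : ℕ,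
    lSeq (S : Subgroup G) (2 * n) ≤ lSeq (Cfsg.pCore p G) (2 * n) ∧
      lSeq (Cfsg.pCore p G) (2 * n + 1) ≤ lSeq (S : Subgroup G) (2 * n + 1) := by
  haveI hTn : (Cfsg.pCore p G).Normal := Cfsg.Agent.Helper14.pCore_normal p G
  have hTp : IsPGroup p (Cfsg.pCore p G) := Cfsg.Agent.Helper14.pCore_isPGroup p G
  have hTS : Cfsg.pCore p G ≤ (S : Subgroup G) := Cfsg.Agent.Helper14.pCore_le_sylow S
  have hoe : ∀ n, lSeq (S : Subgroup G) (2 * n) ≤ lSeq (Cfsg.pCore p G) (2 * n) →
      lSeq (Cfsg.pCore p G) (2 * n + 1) ≤ lSeq (S : Subgroup G) (2 * n + 1) :=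
    fun n h => lStep_mono hTS h
  intro n
  induction n with
  | zero =>
    have h0 : lSeq (S : Subgroup G) (2 * 0) ≤ lSeq (Cfsg.pCore p G) (2 * 0) := by
      show lSeq (S : Subgroup G) 0 ≤ _
      rw [lSeq_zero]; exact bot_le
    exact ⟨h0, hoe 0 h0⟩
  | succ n ih =>
    have heven : lSeq (S : Subgroup G) (2 * (n + 1)) ≤ lSeq (Cfsg.pCore p G) (2 * (n + 1)) := by
      have e1 : 2 * (n + 1) = (2 * n + 1) + 1 := by omega
      rw [e1]
      haveI hPn : (lSeq (Cfsg.pCore p G) (2 * n + 1)).Normal := lSeq_normal _ _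
      have hPp : IsPGroup p (lSeq (Cfsg.pCore p G) (2 * n + 1)) :=
        hTp.to_le (lSeq_succ_le _ _)
      have hcent := cent_le (Cfsg.pCore p G) n
      have h𝒮 : ∀ B ∈ {A : Subgroup G | A ≤ (S : Subgroup G) ∧ IsMulCommutative A ∧
          lSeq (S : Subgroup G) (2 * n + 1) ≤ Subgroup.normalizer (A : Set G)},
          IsMulCommutative B ∧ IsPGroup p B ∧
            lSeq (Cfsg.pCore p G) (2 * n + 1) ≤ Subgroup.normalizer (B : Set G) :=
        fun B hB => ⟨hB.2.1, S.isPGroup'.to_le hB.1, ih.2.trans hB.2.2⟩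
      have hle := (Cfsg.Agent.S1465.result hodd p hp (lSeq (Cfsg.pCore p G) (2 * n + 1)) hPp
        _ h𝒮).2 hO hcent
      show lStep (S : Subgroup G) (lSeq (S : Subgroup G) (2 * n + 1)) ≤
        lStep (Cfsg.pCore p G) (lSeq (Cfsg.pCore p G) (2 * n + 1))
      apply sSup_le
      intro A hA
      exact le_lStep ((le_sSup hA).trans hle) hA.2.1 (ih.2.trans hA.2.2)
    exact ⟨heven, hoe (n + 1) heven⟩

omit [Group.IsSolvable G] in
theorem closed_pair {S T : Subgroup G} (hTS : T ≤ S) (hLT : pL S ≤ T) :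
    pL S ≤ pL T ∧ pLs T ≤ pLs S := by
  obtain ⟨N, -, -, h3, h4⟩ := exists_stable S
  have step : ∀ n, lSeq T (2 * n) ≤ pLs S → pL S ≤ lSeq T (2 * n + 1) := by
    intro n h
    have h5 : lStep S (pLs S) ≤ lSeq T (2 * n + 1) := by
      apply sSup_le
      intro A hA
      exact le_lStep (((le_sSup hA).trans (le_of_eq h3)).trans hLT) hA.2.1 (h.trans hA.2.2)
    rwa [h3] at h5
  have key : ∀ n, lSeq T (2 * n) ≤ pLs S ∧ pL S ≤ lSeq T (2 * n + 1) := by
    intro n
    induction n with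
    | zero =>
      have h0 : lSeq T (2 * 0) ≤ pLs S := by
        show lSeq T 0 ≤ _
        rw [lSeq_zero]; exact bot_le
      exact ⟨h0, step 0 h0⟩
    | succ n ih =>
      have h : lSeq T (2 * (n + 1)) ≤ pLs S := by
        have e1 : 2 * (n + 1) = (2 * n + 1) + 1 := by omega
        rw [e1, ← h4]
        exact lStep_mono hTS ih.2
      exact ⟨h, step _ h⟩
  exact ⟨le_iInf fun n => (key n).2, iSup_le fun n => (key n).1⟩

end Sandwich

end Cfsg.Agent.Helper21.Puig
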