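import Mathlib
import Cfsg.Agent.Helper21.Puig

/-!
# Normality of `Z(L(S))` (Puig) for solvable groups of odd order
-/

set_option autoImplicit false

namespace Cfsg.Agent.Helper21.Puig

universe u

theorem part2_aux (p : ℕ) [Fact p.Prime] (hp : p ≠ 2) {G : Type u} [Group G] [Finite G]
    [Group.IsSolvable G] (hodd : Odd (Nat.card G)) (S : Sylow p G)
    (hO : Cfsg.pPrimeCore p G = ⊥)
    (ihH : ∀ H : Subgroup G, H ≠ ⊤ → (S : Subgroup G) ≤ H →
      Cfsg.pPrimeCore p ↥H ⊔
        Subgroup.normalizer (zL ((S : Subgroup G).subgroupOf H) : Set ↥H) = ⊤) :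
    (zL (S : Subgroup G)).Normal := by
  classical
  set T := Cfsg.pCore p G with hT
  haveI hTn : T.Normal := Cfsg.Agent.Helper14.pCore_normal p G
  have hTp : IsPGroup p T := Cfsg.Agent.Helper14.pCore_isPGroup p G
  have hTS : T ≤ (S : Subgroup G) := Cfsg.Agent.Helper14.pCore_le_sylow S
  have hsw := sandwich hodd p hp hO S
  have h1 : pLs (S : Subgroup G) ≤ pLs T := iSup_mono fun n => (hsw n).1
  have h2 : pL T ≤ pL (S : Subgroup G) := iInf_mono fun n => (hsw n).2
  have h3 : pLs T ≤ pL T := pLs_le_pL T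
  obtain ⟨N, e1, e2, e3, e4⟩ := exists_stable (S : Subgroup G)
  have hLS : pL (S : Subgroup G) ≤ S := pL_le _
  have hLT : pL T ≤ T := pL_le _
  set Z := zL (S : Subgroup G) with hZ
  have hZL : Z ≤ pL (S : Subgroup G) := inf_le_left
  have hZLs : Z ≤ pLs (S : Subgroup G) := by
    intro x hx
    rw [← e4]
    exact (le_lStep (Subgroup.zpowers_le.2 (hLS hx.1)) inferInstance (cent_normalizer hx.2))
      (Subgroup.mem_zpowers x)
  set V := zL T with hV
  haveI hVn : V.Normal := zL_normal T
  have hZV : Z ≤ V := by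
    intro x hx
    refine ⟨h3 (h1 (hZLs hx)), ?_⟩
    refine Subgroup.mem_centralizer_iff.2 (fun k hk => ?_)
    exact (Subgroup.mem_centralizer_iff.1 hx.2) k (h2 hk)
  have hVT : V ≤ T := inf_le_left.trans hLT
  have hVp : IsPGroup p V := hTp.to_le hVT
  have hVc : IsMulCommutative V := by
    refine IsMulCommutative.of_setLike_mul_comm (fun a ha b hb => ?_)
    exact (Subgroup.mem_centralizer_iff.1 hb.2) a ha.1
  have hVLs : V ≤ pLs (S : Subgroup G) := by
    have h5 : V ≤ lSeq (S : Subgroup G) (2 * 1) := by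
      show V ≤ lStep (S : Subgroup G) (lSeq (S : Subgroup G) 1)
      refine le_lStep (hVT.trans hTS) hVc ?_
      rw [Subgroup.normalizer_eq_top]
      exact le_top
    exact h5.trans (le_iSup (fun n => lSeq (S : Subgroup G) (2 * n)) 1)
  set C := Subgroup.centralizer (V : Set G) with hC
  haveI hCn : C.Normal := by
    refine ⟨fun c hc g => Subgroup.mem_centralizer_iff.2 (fun v hv => ?_)⟩
    have h5 : g⁻¹ * v * g ∈ V := by
      have := hVn.conj_mem v hv g⁻¹
      simpa using this
    have h6 := (Subgroup.mem_centralizer_iff.1 hc) _ h5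
    calc v * (g * c * g⁻¹) = g * ((g⁻¹ * v * g) * c) * g⁻¹ := by group
      _ = g * (c * (g⁻¹ * v * g)) * g⁻¹ := by rw [h6]
      _ = g * c * g⁻¹ * v := by group
  have h𝒮 : ∀ B ∈ {A : Subgroup G | A ≤ (S : Subgroup G) ∧ IsMulCommutative A ∧
      pLs (S : Subgroup G) ≤ Subgroup.normalizer (A : Set G)},
      IsMulCommutative B ∧ IsPGroup p B ∧ V ≤ Subgroup.normalizer (B : Set G) :=
    fun B hB => ⟨hB.2.1, S.isPGroup'.to_le hB.1, hVLs.trans hB.2.2⟩
  have h4 := (Cfsg.Agent.S1465.result hodd p hp V hVp _ h𝒮).1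
  have h𝒮L : sSup {A : Subgroup G | A ≤ (S : Subgroup G) ∧ IsMulCommutative A ∧
      pLs (S : Subgroup G) ≤ Subgroup.normalizer (A : Set G)} = pL (S : Subgroup G) := e3
  rw [h𝒮L] at h4
  haveI hpn : (Cfsg.pCore p (G ⧸ C)).Normal := Cfsg.Agent.Helper14.pCore_normal p _
  set K := (Cfsg.pCore p (G ⧸ C)).comap (QuotientGroup.mk' C) with hK
  haveI hKn : K.Normal := inferInstance
  have hLK : pL (S : Subgroup G) ≤ K := by
    intro x hx
    exact h4 (Subgroup.mem_map_of_mem _ hx)
  have hCK : C ≤ K := by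
    intro c hc
    rw [hK, Subgroup.mem_comap]
    have h : (QuotientGroup.mk' C) c = 1 := (QuotientGroup.eq_one_iff c).2 hc
    rw [h]; exact one_mem _
  set R := (S : Subgroup G) ⊓ K with hR
  have hfr : Subgroup.normalizer (R : Set G) ⊔ K = ⊤ := Cfsg.Agent.Helper23.frattini_inf S K
  have hKRC : K ≤ R ⊔ C := by
    rw [← Subgroup.relIndex_eq_one]
    have h5 : (R ⊔ C).relIndex K ∣ R.relIndex K :=
      Subgroup.relIndex_dvd_of_le_left K le_sup_left
    have h6 : (R ⊔ C).relIndex K ∣ C.relIndex K :=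
      Subgroup.relIndex_dvd_of_le_left K le_sup_right
    have h7 : ¬ p ∣ R.relIndex K := by
      rw [hR, Subgroup.inf_relIndex_right]
      intro h
      exact S.not_dvd_index
        (h.trans (Cfsg.Agent.Helper23.relIndex_dvd_index_of_normal_right (S : Subgroup G) K))
    have h8 : ∃ k, C.relIndex K = p ^ k := by
      have h9 : (QuotientGroup.mk' C).ker.relIndex K = Nat.card (K.map (QuotientGroup.mk' C)) :=
        Subgroup.relIndex_ker K (QuotientGroup.mk' C)
      rw [QuotientGroup.ker_mk'] at h9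
      rw [h9]
      have h10 : K.map (QuotientGroup.mk' C) ≤ Cfsg.pCore p (G ⧸ C) := by
        rw [hK]; exact Subgroup.map_comap_le _ _
      exact ((Cfsg.Agent.Helper14.pCore_isPGroup p (G ⧸ C)).to_le h10).exists_card_eq
    obtain ⟨k, hk⟩ := h8
    rw [hk] at h6
    obtain ⟨j, -, hj2⟩ := (Nat.dvd_prime_pow (Fact.out)).1 h6
    rw [hj2] at h5 ⊢
    cases j with
    | zero => simp
    | succ j => exact absurd (dvd_trans (dvd_pow_self p (Nat.succ_ne_zero j)) h5) h7
  have htop : Subgroup.normalizer (R : Set G) ⊔ C = ⊤ := by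
    rw [eq_top_iff, ← hfr]
    exact sup_le le_sup_left
      (hKRC.trans (sup_le (le_sup_of_le_left Subgroup.le_normalizer) le_sup_right))
  have hCZ : C ≤ Subgroup.normalizer (Z : Set G) := by
    intro c hc
    apply Subgroup.centralizer_le_normalizer
    refine Subgroup.mem_centralizer_iff.2 (fun z hz => ?_)
    exact (Subgroup.mem_centralizer_iff.1 hc) z (hZV hz)
  have hRZ : Subgroup.normalizer (R : Set G) ≤ Subgroup.normalizer (Z : Set G) := by
    by_cases hH : Subgroup.normalizer (R : Set G) = ⊤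
    · have hRn : R.Normal := Subgroup.normalizer_eq_top_iff.1 hH
      have hRT : R ≤ T := Cfsg.Agent.Helper14.le_pCore hRn (S.isPGroup'.to_le inf_le_left)
      have hcp := closed_pair hTS ((le_inf hLS hLK).trans hRT)
      have hLeq : pL (S : Subgroup G) = pL T := le_antisymm hcp.1 h2
      have hZeq : Z = V := by rw [hZ, hV, zL, zL, hLeq]
      rw [hZeq]
      exact le_of_le_of_eq le_top (Subgroup.normalizer_eq_top (H := V)).symm
    · have hSH : (S : Subgroup G) ≤ Subgroup.normalizer (R : Set G) := by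
        intro s hs
        rw [Subgroup.mem_normalizer_iff]
        intro x
        rw [hR, Subgroup.mem_inf, Subgroup.mem_inf]
        constructor
        · rintro ⟨hxS, hxK⟩
          exact ⟨mul_mem (mul_mem hs hxS) (inv_mem hs), hKn.conj_mem x hxK s⟩
        · rintro ⟨hxS, hxK⟩
          refine ⟨?_, ?_⟩
          · have h5 := mul_mem (mul_mem (inv_mem hs) hxS) hs
            have h6 : s⁻¹ * (s * x * s⁻¹) * s = x := by group
            rwa [h6] at h5
          · have h5 := hKn.conj_mem _ hxK s⁻¹
            have h6 : s⁻¹ * (s * x * s⁻¹) * s⁻¹⁻¹ = x := by group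
            rwa [h6] at h5
      have hih := ihH _ hH hSH
      have hmapZ : (zL ((S : Subgroup G).subgroupOf (Subgroup.normalizer (R : Set G)))).map
          (Subgroup.normalizer (R : Set G)).subtype = Z := by
        rw [map_zL _ (Subgroup.subtype_injective _), Subgroup.map_subgroupOf_eq_of_le hSH]
      intro h hh
      have hmem : (⟨h, hh⟩ : ↥(Subgroup.normalizer (R : Set G))) ∈
          Cfsg.pPrimeCore p ↥(Subgroup.normalizer (R : Set G)) ⊔
          Subgroup.normalizer (zL ((S : Subgroup G).subgroupOf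
            (Subgroup.normalizer (R : Set G))) : Set ↥(Subgroup.normalizer (R : Set G))) := by
        rw [hih]; trivial
      haveI hOn : (Cfsg.pPrimeCore p ↥(Subgroup.normalizer (R : Set G))).Normal :=
        Cfsg.Agent.Helper23.pPrimeCore_normal_fin p
      obtain ⟨u, hu, n, hn, hun⟩ := Subgroup.mem_sup_of_normal_left.1 hmem
      have hn' : (n : G) ∈ Subgroup.normalizer (Z : Set G) := by
        rw [← hmapZ]
        exact Subgroup.le_normalizer_map _ (Subgroup.mem_map_of_mem _ hn)
      have hu' : (u : G) ∈ Subgroup.normalizer (Z : Set G) := by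
        apply Subgroup.centralizer_le_normalizer
        refine Subgroup.mem_centralizer_iff.2 (fun z hz => ?_)
        have hzR : z ∈ R := le_inf hLS hLK (hZL hz)
        have hzH : z ∈ Subgroup.normalizer (R : Set G) := Subgroup.le_normalizer hzR
        have hRH : (R.subgroupOf (Subgroup.normalizer (R : Set G))).Normal :=
          Subgroup.normal_in_normalizer
        have hRp : IsPGroup p (R.subgroupOf (Subgroup.normalizer (R : Set G))) :=
          (S.isPGroup'.to_le inf_le_left).comap_subtype
        have hdis : Disjoint (Cfsg.pPrimeCore p ↥(Subgroup.normalizer (R : Set G)))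
            (R.subgroupOf (Subgroup.normalizer (R : Set G))) := by
          apply Subgroup.disjoint_of_coprime_natCard
          obtain ⟨k, hk⟩ := hRp.exists_card_eq
          rw [hk]
          exact Nat.Coprime.pow_right k (Cfsg.Agent.Helper23.pPrimeCore_coprime p)
        have hcomm := Subgroup.commute_of_normal_of_disjoint _ _ hOn hRH hdis u ⟨z, hzH⟩ hu
          (Subgroup.mem_subgroupOf.2 hzR)
        have h5 := congrArg Subtype.val hcomm.eq
        exact h5.symm
      have h5 : h = (u : G) * (n : G) := by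
        have := congrArg Subtype.val hun
        exact this.symm
      rw [h5]
      exact mul_mem hu' hn'
  have hfinal : Subgroup.normalizer (Z : Set G) = ⊤ := by
    rw [eq_top_iff, ← htop]
    exact sup_le hRZ hCZ
  exact Subgroup.normalizer_eq_top_iff.1 hfinal

theorem gen_of_quot (p : ℕ) [Fact p.Prime] {G : Type u} [Group G] [Finite G] (S : Sylow p G)
    (N : Subgroup G) [N.Normal] (hN : (Nat.card N).Coprime p)
    (h : (zL ((S : Subgroup G).map (QuotientGroup.mk' N))).Normal) :
    N ⊔ Subgroup.normalizer (zL (S : Subgroup G) : Set G) = ⊤ := by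
  set Z := zL (S : Subgroup G) with hZ
  have hSN : (S : Subgroup G) ⊓ N = ⊥ := by
    rw [← disjoint_iff]
    apply Subgroup.disjoint_of_coprime_natCard
    obtain ⟨k, hk⟩ := S.isPGroup'.exists_card_eq
    rw [hk]
    exact (Nat.Coprime.pow_right k hN).symm
  have hinj : Function.Injective ((QuotientGroup.mk' N).comp (S : Subgroup G).subtype) := by
    rw [injective_iff_map_eq_one]
    intro x hx
    have hxN : (x : G) ∈ N := by
      rw [← QuotientGroup.ker_mk' N]
      exact hx
    have h5 : (x : G) ∈ (S : Subgroup G) ⊓ N := ⟨x.2, hxN⟩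
    rw [hSN] at h5
    exact Subtype.ext (Subgroup.mem_bot.1 h5)
  have hmap : Z.map (QuotientGroup.mk' N) = zL ((S : Subgroup G).map (QuotientGroup.mk' N)) := by
    have e1 : (zL (⊤ : Subgroup ↥(S : Subgroup G))).map (S : Subgroup G).subtype = Z := by
      rw [map_zL _ (Subgroup.subtype_injective _), ← MonoidHom.range_eq_map,
        Subgroup.range_subtype]
    have e2 : (zL (⊤ : Subgroup ↥(S : Subgroup G))).map
        ((QuotientGroup.mk' N).comp (S : Subgroup G).subtype) =
        zL ((S : Subgroup G).map (QuotientGroup.mk' N)) := by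
      rw [map_zL _ hinj, ← MonoidHom.range_eq_map, MonoidHom.range_comp,
        Subgroup.range_subtype]
    rw [← e1, Subgroup.map_map, e2]
  haveI hZN : (Z ⊔ N).Normal := by
    have h5 : (Z ⊔ N) = (Z.map (QuotientGroup.mk' N)).comap (QuotientGroup.mk' N) := by
      rw [Subgroup.comap_map_eq, QuotientGroup.ker_mk']
    rw [h5, hmap]
    exact h.comap _
  have hfr := Cfsg.Agent.Helper23.frattini_inf S (Z ⊔ N)
  have hZS : Z ≤ (S : Subgroup G) := inf_le_left.trans (pL_le _)
  have hinf : (S : Subgroup G) ⊓ (Z ⊔ N) = Z := by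
    apply le_antisymm
    · rintro x ⟨hxS, hxZN⟩
      obtain ⟨z, hz, n, hn, rfl⟩ := Subgroup.mem_sup_of_normal_right.1 hxZN
      have hnS : n ∈ (S : Subgroup G) := by
        have h5 := mul_mem (inv_mem (hZS hz)) hxS
        rwa [inv_mul_cancel_left] at h5
      have h6 : n ∈ (S : Subgroup G) ⊓ N := ⟨hnS, hn⟩
      rw [hSN, Subgroup.mem_bot] at h6
      rw [h6, mul_one]; exact hz
    · exact le_inf hZS le_sup_left
  rw [hinf] at hfr
  rw [eq_top_iff, ← hfr]
  refine sup_le le_sup_right (sup_le ?_ le_sup_left)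
  exact Subgroup.le_normalizer.trans le_sup_right

theorem main (p : ℕ) [Fact p.Prime] (hp : p ≠ 2) : ∀ n : ℕ, ∀ (G : Type u) [Group G] [Finite G]
    [Group.IsSolvable G], Odd (Nat.card G) → Nat.card G = n → ∀ S : Sylow p G,
    Cfsg.pPrimeCore p G ⊔ Subgroup.normalizer (zL (S : Subgroup G) : Set G) = ⊤ ∧
      (Cfsg.pPrimeCore p G = ⊥ → (zL (S : Subgroup G)).Normal) := by
  intro n
  induction n using Nat.strong_induction_on with
  | _ n ih =>
  intro G _ _ _ hodd hcard S
  have part2 : Cfsg.pPrimeCore p G = ⊥ → (zL (S : Subgroup G)).Normal := by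
    intro hO
    apply part2_aux p hp hodd S hO
    intro H hH hSH
    have hlt : Nat.card H < n := by
      rw [← hcard]
      exact lt_of_le_of_ne (Subgroup.card_le_card_group H)
        (fun h => hH ((Subgroup.card_eq_iff_eq_top H).1 h))
    have hoddH : Odd (Nat.card H) := Odd.of_dvd_nat hodd (Subgroup.card_subgroup_dvd_card H)
    have h5 := (ih _ hlt ↥H hoddH rfl (S.subtype hSH)).1
    rwa [Sylow.coe_subtype] at h5
  refine ⟨?_, part2⟩
  by_cases hO : Cfsg.pPrimeCore p G = ⊥
  · haveI := part2 hO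
    rw [Subgroup.normalizer_eq_top]
    exact sup_top_eq _
  · haveI hNn : (Cfsg.pPrimeCore p G).Normal := Cfsg.Agent.Helper23.pPrimeCore_normal_fin p
    have hlt : Nat.card (G ⧸ Cfsg.pPrimeCore p G) < n := by
      rw [← hcard, ← Subgroup.index_eq_card, ← Subgroup.card_mul_index (Cfsg.pPrimeCore p G)]
      have h5 : 1 < Nat.card (Cfsg.pPrimeCore p G) := by
        rw [Finite.one_lt_card_iff_nontrivial]
        exact (Subgroup.nontrivial_iff_ne_bot _).2 hO
      have h6 : 0 < (Cfsg.pPrimeCore p G).index :=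
        Nat.pos_of_ne_zero Subgroup.index_ne_zero_of_finite
      nlinarith
    have hoddQ : Odd (Nat.card (G ⧸ Cfsg.pPrimeCore p G)) := by
      rw [← Subgroup.index_eq_card]
      exact Odd.of_dvd_nat hodd (Subgroup.index_dvd_card _)
    have hq := (ih _ hlt (G ⧸ Cfsg.pPrimeCore p G) hoddQ rfl
      (Sylow.mapSurjective (QuotientGroup.mk'_surjective _) S)).2
      (Cfsg.Agent.Helper23.pPrimeCore_quotient_pPrimeCore p)
    rw [Sylow.coe_mapSurjective] at hq
    exact gen_of_quot p S _ (Cfsg.Agent.Helper23.pPrimeCore_coprime p) hq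

end Cfsg.Agent.Helper21.Puig
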