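import Mathlib
import Cfsg.Prelude.Def_Local
import Cfsg.Prelude.Def_Solvable
import Cfsg.Agent.Helper7.LBalance4

set_option autoImplicit false

namespace Cfsg.Agent.Helper21.S4172d

/-- a component cannot lie in a subgroup `A` having a normal `p'`-subgroup `M` with
`A / M` a `p`-group, when `O_{p'}(G) = 1`. -/
theorem comp_not_le {G : Type*} [Group G] [Finite G] (p : ℕ) [Fact p.Prime] (hcore : Cfsg.pPrimeCore p G = ⊥) (A K : Subgroup G) (hK : Cfsg.IsComponent K) (hKA : K ≤ A) (hT : ∃ M : Subgroup G, M ≤ A ∧ A ≤ Subgroup.normalizer (M : Set G) ∧ (Nat.card ↥M).Coprime p ∧ ∀ a ∈ A, ∃ k : ℕ, a ^ p ^ k ∈ M) : False := by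
  obtain ⟨M, hMA, hAN, hcop, hpow⟩ := hT
  have hp : p.Prime := Fact.out
  have hKperf : commutator ↥K = ⊤ := Group.isPerfect_def.mp hK.2.1
  haveI hN : (M.subgroupOf K).Normal := by
    refine ⟨fun n hn g => ?_⟩
    rw [Subgroup.mem_subgroupOf] at hn ⊢
    have hg : (g : G) ∈ Subgroup.normalizer (M : Set G) := hAN (hKA g.2)
    have h1 := (Subgroup.mem_normalizer_iff.mp hg (n : G)).mp hn
    simpa using h1
  have hQp : IsPGroup p (↥K ⧸ M.subgroupOf K) := by
    intro q
    induction q using QuotientGroup.induction_on with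
    | H k =>
      obtain ⟨j, hj⟩ := hpow (k : G) (hKA k.2)
      refine ⟨j, ?_⟩
      rw [← QuotientGroup.mk_pow, QuotientGroup.eq_one_iff, Subgroup.mem_subgroupOf]
      simpa using hj
  haveI : Group.IsNilpotent (↥K ⧸ M.subgroupOf K) := hQp.isNilpotent
  have hQperf : commutator (↥K ⧸ M.subgroupOf K) = ⊤ := by
    have hsurj : Function.Surjective (QuotientGroup.mk' (M.subgroupOf K)) :=
      QuotientGroup.mk'_surjective _
    rw [commutator_def,
      ← Subgroup.map_top_of_surjective (QuotientGroup.mk' (M.subgroupOf K)) hsurj,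
      ← Subgroup.map_commutator, ← commutator_def, hKperf]
  have hsub : Subsingleton (↥K ⧸ M.subgroupOf K) := by
    by_contra hns
    rw [not_subsingleton_iff_nontrivial] at hns
    haveI := hns
    exact (Group.IsSolvable.commutator_lt_top_of_nontrivial (↥K ⧸ M.subgroupOf K)).ne hQperf
  have hKM : K ≤ M := by
    intro k hk
    have h1 : (QuotientGroup.mk (⟨k, hk⟩ : ↥K) : ↥K ⧸ M.subgroupOf K) = 1 :=
      Subsingleton.elim _ _
    rw [QuotientGroup.eq_one_iff, Subgroup.mem_subgroupOf] at h1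
    exact h1
  have hdvd : p ∣ Nat.card ↥K := Cfsg.Agent.Helper7.component_dvd_card p hcore hK
  have h3 : p ∣ Nat.card ↥M := hdvd.trans (Subgroup.card_dvd_of_le hKM)
  exact ((Nat.Prime.coprime_iff_not_dvd hp).mp hcop.symm) h3

end Cfsg.Agent.Helper21.S4172d
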