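-- helper21: Thompson transitivity theorem for groups with p-constrained p-locals
import Mathlib
import Cfsg.Prelude.Def_OddOrderLocal
import Cfsg.Prelude.Def_CaseTheorems
import Cfsg.Agent.Helper21.TransE
import Cfsg.Agent.Helper21.PCInv
import Cfsg.Agent.Helper9.PPrimeCore

set_option autoImplicit false

namespace Cfsg.Agent.Helper21.TransPC

open Cfsg

variable {G : Type*} [Group G]

theorem class2 [Finite G] (p : ℕ) [Fact p.Prime]
    (h2 : ∀ S : Sylow p G, Group.IsNilpotent (S : Subgroup G) ∧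
      Group.nilpotencyClass (S : Subgroup G) ≤ 2)
    (P : Subgroup G) (hP : IsPGroup p P) :
    ∀ x ∈ P, ∀ y ∈ P, ∀ z ∈ P, (x * y * x⁻¹ * y⁻¹) * z = z * (x * y * x⁻¹ * y⁻¹) := by
  obtain ⟨S, hPS⟩ := hP.exists_le_sylow
  obtain ⟨hn, hc⟩ := h2 S
  haveI := hn
  have htop : Subgroup.upperCentralSeries (S : Subgroup G) 2 = ⊤ :=
    Subgroup.upperCentralSeries_eq_top_iff_nilpotencyClass_le.mpr hc
  intro x hx y hy z hz
  have h1 : (⟨x, hPS hx⟩ : ↥(S : Subgroup G)) ∈ Subgroup.upperCentralSeries (S : Subgroup G) 2 := by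
    rw [htop]; trivial
  rw [show (2 : ℕ) = 1 + 1 from rfl, Subgroup.mem_upperCentralSeries_succ_iff] at h1
  have h2' := h1 ⟨y, hPS hy⟩
  rw [Subgroup.upperCentralSeries_one, Subgroup.mem_center_iff] at h2'
  have h3 := h2' ⟨z, hPS hz⟩
  have h4 := congrArg Subtype.val h3
  simp only [commutatorElement_def, Subgroup.coe_mul, Subgroup.coe_inv] at h4
  exact h4.symm

/-- `θ(a) = O_{p'}(C_G(a))` as a subgroup of `G`. -/
noncomputable def th (p : ℕ) (a : G) : Subgroup G :=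
  (Cfsg.pPrimeCore p ↥(Subgroup.centralizer ({a} : Set G))).map
    (Subgroup.centralizer ({a} : Set G)).subtype

theorem th_le (p : ℕ) (a : G) : th p a ≤ Subgroup.centralizer ({a} : Set G) := by
  rintro _ ⟨y, -, rfl⟩
  exact y.2

theorem th_card [Finite G] (p : ℕ) [Fact p.Prime] (a : G) : ¬ p ∣ Nat.card ↥(th p a) := by
  unfold th
  rw [Subgroup.card_map_of_injective (Subgroup.subtype_injective _)]
  have h := Cfsg.Agent.Helper9.pPrimeCore_coprime p ↥(Subgroup.centralizer ({a} : Set G))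
  intro hd
  have h1 := Nat.Coprime.eq_one_of_dvd h.symm hd
  exact (Fact.out : p.Prime).one_lt.ne' h1

theorem th_conj (p : ℕ) (a c : G) (hc : c ∈ Subgroup.centralizer ({a} : Set G)) :
    ∀ x ∈ th p a, c * x * c⁻¹ ∈ th p a := by
  rintro _ ⟨y, hy, rfl⟩
  have hn : (Cfsg.pPrimeCore p ↥(Subgroup.centralizer ({a} : Set G))).Normal :=
    Subgroup.sSup_normal _ (fun _ hH => hH.1)
  exact ⟨⟨c, hc⟩ * y * ⟨c, hc⟩⁻¹, hn.conj_mem y hy ⟨c, hc⟩, rfl⟩

theorem th_norm (p : ℕ) (a c : G) (hc : c ∈ Subgroup.centralizer ({a} : Set G)) :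
    c ∈ Subgroup.normalizer (th p a : Set G) := by
  apply Cfsg.Agent.Helper14.mem_normalizer_of_forall _ c (th_conj p a c hc)
  intro x hx
  have := th_conj p a c⁻¹ (inv_mem hc) x hx
  rwa [inv_inv] at this

/-- Key lemma: an `E`-invariant `p'`-subgroup of `C_G(a)` (`a ∈ E^#`) lies in `O_{p'}(C_G(a))`. -/
theorem lemY [Finite G] (p : ℕ) [Fact p.Prime]
    (hloc : ∀ T : Subgroup G, IsPGroup p T → T ≠ ⊥ →
      Cfsg.IsPConstrained p ↥(Subgroup.normalizer (T : Set G)))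
    (h2 : p = 2 → ∀ S : Sylow p G, Group.IsNilpotent (S : Subgroup G) ∧
      Group.nilpotencyClass (S : Subgroup G) ≤ 2)
    (E : Subgroup G) (hEp : IsPGroup p E) (hEc : IsMulCommutative E)
    (hEfull : ∀ x ∈ Subgroup.centralizer (E : Set G), IsPGroup p (Subgroup.zpowers x) → x ∈ E)
    (a : G) (haE : a ∈ E) (ha1 : a ≠ 1) (K : Subgroup G)
    (hKC : K ≤ Subgroup.centralizer ({a} : Set G)) (hKp : ¬ p ∣ Nat.card ↥K)
    (hEK : E ≤ Subgroup.normalizer (K : Set G)) : K ≤ th p a := by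
  classical
  have hp : p.Prime := Fact.out
  haveI := hEc
  obtain ⟨T, hT⟩ : ∃ T : Subgroup G, T = Subgroup.zpowers a := ⟨_, rfl⟩
  have hTE : T ≤ E := by rw [hT, Subgroup.zpowers_le]; exact haE
  have hTp : IsPGroup p T := hEp.to_le hTE
  have hT1 : T ≠ ⊥ := by
    rw [hT]
    intro h
    exact ha1 (Subgroup.zpowers_eq_bot.mp h)
  have hcons := hloc T hTp hT1
  obtain ⟨N, hN⟩ : ∃ N : Subgroup G, N = Subgroup.normalizer (T : Set G) := ⟨_, rfl⟩
  rw [← hN] at hcons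
  obtain ⟨C, hC⟩ : ∃ C : Subgroup G, C = Subgroup.centralizer ({a} : Set G) := ⟨_, rfl⟩
  have hCN : C ≤ N := by
    intro c hc
    rw [hN]
    have hcT : c ∈ Subgroup.centralizer (T : Set G) := by
      rw [hC, Subgroup.mem_centralizer_iff] at hc
      have hac : a * c = c * a := hc a (Set.mem_singleton a)
      have h1 : T ≤ Subgroup.centralizer ({c} : Set G) := by
        rw [hT, Subgroup.zpowers_le, Subgroup.mem_centralizer_iff]
        intro y hy
        rw [Set.mem_singleton_iff] at hy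
        rw [hy]; exact hac.symm
      rw [Subgroup.mem_centralizer_iff]
      intro z hz
      exact (Subgroup.mem_centralizer_iff.mp (h1 hz) c (Set.mem_singleton c)).symm
    exact Subgroup.centralizer_le_normalizer _ hcT
  have hEC : E ≤ C := by
    intro e he
    rw [hC, Subgroup.mem_centralizer_iff]
    intro y hy
    rw [Set.mem_singleton_iff] at hy
    rw [hy]
    exact setLike_mul_comm (s := E) haE he
  have hEN : E ≤ N := hEC.trans hCN
  have hKN : K ≤ N := (hC ▸ hKC).trans hCN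
  -- in ↥N
  have hE'c : IsMulCommutative ↥(E.subgroupOf N) := by
    refine IsMulCommutative.of_setLike_mul_comm (fun x hx y hy => ?_)
    apply Subtype.ext
    exact setLike_mul_comm (s := E) (Subgroup.mem_subgroupOf.mp hx) (Subgroup.mem_subgroupOf.mp hy)
  have hE'p : IsPGroup p ↥(E.subgroupOf N) := hEp.comap_subtype
  have hK'p : ¬ p ∣ Nat.card ↥(K.subgroupOf N) := by
    rw [Nat.card_congr (Subgroup.subgroupOfEquivOfLe hKN).toEquiv]
    exact hKp
  have hE'K' : E.subgroupOf N ≤ Subgroup.normalizer ((K.subgroupOf N : Subgroup ↥N) : Set ↥N) := by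
    intro e he
    have heE : (e : G) ∈ E := Subgroup.mem_subgroupOf.mp he
    apply Cfsg.Agent.Helper14.mem_normalizer_of_forall
    · intro k hk
      rw [Subgroup.mem_subgroupOf] at hk ⊢
      exact (Subgroup.mem_normalizer_iff.mp (hEK heE) _).mp hk
    · intro k hk
      rw [Subgroup.mem_subgroupOf] at hk ⊢
      have := (Subgroup.mem_normalizer_iff.mp (hEK (E.inv_mem heE)) _).mp hk
      simpa using this
  have hcentE : ∀ x : ↥N, x ∈ Subgroup.centralizer ((E.subgroupOf N : Subgroup ↥N) : Set ↥N) →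
      (x : G) ∈ Subgroup.centralizer (E : Set G) := by
    intro x hx
    rw [Subgroup.mem_centralizer_iff] at hx ⊢
    intro e he
    have := hx ⟨e, hEN he⟩ (Subgroup.mem_subgroupOf.mpr he)
    exact congrArg Subtype.val this
  have hmain : K.subgroupOf N ≤ Cfsg.pPrimeCore p ↥N := by
    by_cases hp2 : p = 2
    · have hcl := class2 p (h2 hp2)
      apply Cfsg.Agent.Helper21.PCInv.inv_le_core2 p hcons ?_ (E.subgroupOf N) ?_ hE'p ?_ _ hK'p hE'K'
      · intro P hP x hx y hy z hz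
        have hP' : IsPGroup p (P.map N.subtype) := hP.map _
        have := hcl _ hP' x ⟨x, hx, rfl⟩ y ⟨y, hy, rfl⟩ z ⟨z, hz, rfl⟩
        apply Subtype.ext
        simpa using this
      · intro x hx y hy
        apply Subtype.ext
        exact setLike_mul_comm (s := E) (Subgroup.mem_subgroupOf.mp hx)
          (Subgroup.mem_subgroupOf.mp hy)
      · intro x hx hxp
        rw [Subgroup.mem_subgroupOf]
        apply hEfull _ (hcentE x hx)
        have h1 : IsPGroup p ((Subgroup.zpowers x).map N.subtype) := hxp.map _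
        rw [MonoidHom.map_zpowers] at h1
        exact h1
    · apply Cfsg.Agent.S1302.result p hp2 hcons (E.subgroupOf N) hE'c hE'p ?_ _ hK'p hE'K'
      intro x hx hxo
      rw [Subgroup.mem_subgroupOf]
      apply hEfull _ (hcentE x hx)
      have h1 : orderOf (x : G) = p := by rw [Subgroup.orderOf_coe]; exact hxo
      apply IsPGroup.of_card (n := 1)
      rw [Nat.card_zpowers, h1, pow_one]
  -- back to G
  obtain ⟨W, hW⟩ : ∃ W : Subgroup G, W = (Cfsg.pPrimeCore p ↥N).map N.subtype := ⟨_, rfl⟩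
  have hWn : ∀ n ∈ N, ∀ w ∈ W, n * w * n⁻¹ ∈ W := by
    intro n hn w hw
    rw [hW] at hw ⊢
    obtain ⟨y, hy, rfl⟩ := hw
    have hnorm : (Cfsg.pPrimeCore p ↥N).Normal := Subgroup.sSup_normal _ (fun _ hH => hH.1)
    exact ⟨⟨n, hn⟩ * y * ⟨n, hn⟩⁻¹, hnorm.conj_mem y hy ⟨n, hn⟩, rfl⟩
  have hWc : (Nat.card ↥W).Coprime p := by
    rw [hW, Subgroup.card_map_of_injective (Subgroup.subtype_injective _)]
    exact Cfsg.Agent.Helper9.pPrimeCore_coprime p ↥N
  have hnormal : ((W ⊓ C).subgroupOf C).Normal := by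
    refine ⟨fun w hw c => ?_⟩
    rw [Subgroup.mem_subgroupOf] at hw ⊢
    exact Subgroup.mem_inf.mpr ⟨hWn c (hCN c.2) _ (Subgroup.mem_inf.mp hw).1,
      C.mul_mem (C.mul_mem c.2 (Subgroup.mem_inf.mp hw).2) (C.inv_mem c.2)⟩
  have hcop : (Nat.card ↥((W ⊓ C).subgroupOf C)).Coprime p := by
    rw [Nat.card_congr (Subgroup.subgroupOfEquivOfLe (inf_le_right : W ⊓ C ≤ C)).toEquiv]
    exact Nat.Coprime.coprime_dvd_left (Subgroup.card_dvd_of_le inf_le_left) hWc
  have hle := Cfsg.Agent.Helper9.le_pPrimeCore_of_normal _ hnormal hcop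
  intro k hk
  have hkC : k ∈ C := by rw [hC]; exact hKC hk
  have hkW : k ∈ W := by
    rw [hW]
    exact ⟨⟨k, hKN hk⟩, hmain (Subgroup.mem_subgroupOf.mpr hk), rfl⟩
  have h1 : (⟨k, hkC⟩ : ↥C) ∈ (W ⊓ C).subgroupOf C :=
    Subgroup.mem_subgroupOf.mpr (Subgroup.mem_inf.mpr ⟨hkW, hkC⟩)
  have h2 := hle h1
  subst hC
  exact ⟨⟨k, hkC⟩, h2, rfl⟩

/-- Thompson transitivity theorem (p-constrained locals). -/
theorem main [Finite G] (p : ℕ) [Fact p.Prime]
    (hloc : ∀ T : Subgroup G, IsPGroup p T → T ≠ ⊥ →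
      Cfsg.IsPConstrained p ↥(Subgroup.normalizer (T : Set G)))
    (h2 : p = 2 → ∀ S : Sylow p G, Group.IsNilpotent (S : Subgroup G) ∧
      Group.nilpotencyClass (S : Subgroup G) ≤ 2)
    (E : Subgroup G) (hEp : IsPGroup p E) (hEc : IsMulCommutative E)
    (hE3 : ¬ Cfsg.PRankLE p 2 E)
    (hEfull : ∀ x ∈ Subgroup.centralizer (E : Set G), IsPGroup p (Subgroup.zpowers x) → x ∈ E)
    (q : ℕ) [Fact q.Prime] (hqp : q ≠ p) :
    ∀ Q₁ ∈ Cfsg.maxInvSubgroups ⊤ E {q}, ∀ Q₂ ∈ Cfsg.maxInvSubgroups ⊤ E {q},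
        ∃ k ∈ Cfsg.piCoreOf (Cfsg.primesNotDvd p) (Subgroup.centralizer (E : Set G)),
          Q₂ = Q₁.map (MulAut.conj k).toMonoidHom := by
  classical
  have hp : p.Prime := Fact.out
  have hq : q.Prime := Fact.out
  haveI := hEc
  -- A = Ω₁(E)
  let A : Subgroup G :=
    { carrier := {x | x ∈ E ∧ x ^ p = 1}
      mul_mem' := by
        rintro x y ⟨hx, hx1⟩ ⟨hy, hy1⟩
        refine ⟨E.mul_mem hx hy, ?_⟩
        have hc : Commute x y := setLike_mul_comm (s := E) hx hy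
        rw [hc.mul_pow, hx1, hy1, one_mul]
      one_mem' := ⟨E.one_mem, one_pow p⟩
      inv_mem' := by
        rintro x ⟨hx, hx1⟩
        exact ⟨E.inv_mem hx, by rw [inv_pow, hx1, inv_one]⟩ }
  have hAE : A ≤ E := fun x hx => hx.1
  have hAexp : ∀ a ∈ A, a ^ p = 1 := fun a ha => ha.2
  have hAc : IsMulCommutative ↥A :=
    IsMulCommutative.of_setLike_mul_comm (fun x hx y hy => setLike_mul_comm (s := E) hx.1 hy.1)
  have hA : Cfsg.IsElementaryAbelian p A := ⟨hAc, hAexp⟩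
  have hAp : IsPGroup p ↥A := hEp.to_le hAE
  have hA3 : p ^ 3 ≤ Nat.card ↥A := by
    unfold Cfsg.PRankLE at hE3
    push_neg at hE3
    obtain ⟨A', hA'c, hA'e, hA'card⟩ := hE3
    have hle : A'.map E.subtype ≤ A := by
      rintro _ ⟨x, hx, rfl⟩
      refine ⟨x.2, ?_⟩
      have h := hA'e x hx
      show ((x : ↥E) : G) ^ p = 1
      rw [← Subgroup.coe_pow, h, Subgroup.coe_one]
    have h1 : Nat.card ↥A' ≤ Nat.card ↥A := by
      rw [← Subgroup.card_map_of_injective (Subgroup.subtype_injective E)]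
      exact Nat.le_of_dvd Nat.card_pos (Subgroup.card_dvd_of_le hle)
    obtain ⟨k, hk⟩ := IsPGroup.iff_card.1 hAp
    rw [hk] at h1 ⊢
    have h3 : 2 < k := by
      by_contra hcon
      have : p ^ k ≤ p ^ 2 := Nat.pow_le_pow_right hp.pos (by omega)
      omega
    exact Nat.pow_le_pow_right hp.pos (by omega)
  obtain ⟨a₀, ha₀A, ha₀1⟩ : ∃ a₀ ∈ A, a₀ ≠ 1 := by
    by_contra hcon
    push_neg at hcon
    have hbot : A = ⊥ := (Subgroup.eq_bot_iff_forall _).mpr hcon
    rw [hbot, Subgroup.card_bot] at hA3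
    have : 1 < p ^ 3 := Nat.one_lt_pow (by norm_num) hp.one_lt
    omega
  have hEcent : ∀ a ∈ E, E ≤ Subgroup.centralizer ({a} : Set G) := by
    intro a ha e he
    rw [Subgroup.mem_centralizer_iff]
    intro y hy
    rw [Set.mem_singleton_iff] at hy
    rw [hy]
    exact setLike_mul_comm (s := E) ha he
  have hθE : ∀ a ∈ E, E ≤ Subgroup.normalizer (th p a : Set G) :=
    fun a ha e he => th_norm p a e (hEcent a ha he)
  have hY := lemY p hloc h2 E hEp hEc hEfull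
  have hcentnorm : ∀ b : G, ∀ e ∈ Subgroup.centralizer ({b} : Set G),
      e ∈ Subgroup.normalizer ((Subgroup.centralizer ({b} : Set G) : Subgroup G) : Set G) :=
    fun b e he => Subgroup.le_normalizer he
  -- the signalizer functor
  have hθ : Cfsg.IsSignalizerFunctor p A (th p) := by
    refine ⟨fun a _ _ => th_le p a, fun a _ _ => th_card p a, ?_, ?_⟩
    · intro a ha _ b hb x hx
      exact th_conj p a b (hEcent a (hAE ha) (hAE hb)) x hx
    · intro a ha ha1 b hb hb1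
      apply hY b (hAE hb) hb1 _ inf_le_right
      · intro hd
        exact th_card p a (hd.trans (Subgroup.card_dvd_of_le inf_le_left))
      · intro e he
        exact Cfsg.Agent.Helper14.mem_normalizer_inf _ _ e (hθE a (hAE ha) he)
          (hcentnorm b e (hEcent b (hAE hb) he))
  -- E-invariant q-subgroups are in the weak family
  have hWF : ∀ Q : Subgroup G, IsPGroup q ↥Q → E ≤ Subgroup.normalizer (Q : Set G) →
      Cfsg.Agent.Helper9.Trans.WF p A (th p) Q := by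
    intro Q hQq hQE
    have hQp : ¬ p ∣ Nat.card ↥Q := by
      obtain ⟨k, hk⟩ := IsPGroup.iff_card.1 hQq
      rw [hk]
      intro hd
      exact hqp ((Nat.prime_dvd_prime_iff_eq hp hq).mp (hp.dvd_of_dvd_pow hd)).symm
    refine ⟨hQp, fun b hb u hu => (Subgroup.mem_normalizer_iff.mp (hQE (hAE hb)) u).mp hu, ?_⟩
    intro a ha ha1
    apply hY a (hAE ha) ha1 _ inf_le_right
    · intro hd
      exact hQp (hd.trans (Subgroup.card_dvd_of_le inf_le_left))
    · intro e he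
      exact Cfsg.Agent.Helper14.mem_normalizer_inf _ _ e (hQE he)
        (hcentnorm a e (hEcent a (hAE ha) he))
  have hmax : ∀ Q ∈ Cfsg.maxInvSubgroups ⊤ E {q},
      Cfsg.Agent.Helper21.TransE.IsMaxE p q A E (th p) Q := by
    rintro Q ⟨⟨-, hQπ, hQE⟩, hQmax⟩
    have hQq : IsPGroup q ↥Q := by
      have hne : Nat.card ↥Q ≠ 0 := Nat.card_pos.ne'
      have := Nat.eq_prime_pow_of_unique_prime_dvd hne
        (fun {d} hd hdvd => Set.mem_singleton_iff.mp (hQπ d hd hdvd))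
      exact IsPGroup.of_card this
    refine ⟨⟨hWF Q hQq hQE, hQE, hQq⟩, ?_⟩
    intro R _ hRE hRq hQR
    apply hQmax R ?_ hQR
    refine ⟨le_top, ?_, hRE⟩
    intro r hr hrd
    obtain ⟨k, hk⟩ := IsPGroup.iff_card.1 hRq
    rw [hk] at hrd
    exact Set.mem_singleton_iff.mpr ((Nat.prime_dvd_prime_iff_eq hr hq).mp (hr.dvd_of_dvd_pow hrd))
  intro Q₁ h₁ Q₂ h₂
  obtain ⟨c, hc, hcQ⟩ := Cfsg.Agent.Helper21.TransE.transitivityE p A E hA hA3 hEp hAE (th p) hθ
    (fun a ha _ => hθE a (hAE ha)) q Q₁ Q₂ (hmax Q₁ h₁) (hmax Q₂ h₂)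
  refine ⟨c, ?_, hcQ.symm⟩
  obtain ⟨hcI, hcE⟩ := Subgroup.mem_inf.mp hc
  obtain ⟨CE, hCE⟩ : ∃ CE : Subgroup G, CE = Subgroup.centralizer (E : Set G) := ⟨_, rfl⟩
  rw [← hCE] at hcE ⊢
  obtain ⟨I, hI⟩ : ∃ I : Subgroup G, I = Cfsg.signalizerInf A (th p) := ⟨_, rfl⟩
  rw [← hI] at hcI
  have hIa : ∀ a ∈ A, a ≠ 1 → I ≤ th p a := by
    intro a ha ha1
    rw [hI]
    exact Cfsg.Agent.Helper9.Trans.inf_le_theta a ha ha1
  have hCEa : ∀ a ∈ E, CE ≤ Subgroup.centralizer ({a} : Set G) := by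
    intro a ha
    rw [hCE]
    exact Subgroup.centralizer_le (Set.singleton_subset_iff.mpr ha)
  have hnormal : ((I ⊓ CE).subgroupOf CE).Normal := by
    refine ⟨fun w hw g => ?_⟩
    rw [Subgroup.mem_subgroupOf] at hw ⊢
    refine Subgroup.mem_inf.mpr ⟨?_, CE.mul_mem (CE.mul_mem g.2 (Subgroup.mem_inf.mp hw).2)
      (CE.inv_mem g.2)⟩
    rw [hI, Cfsg.Agent.Helper9.Trans.mem_inf_iff]
    intro a ha ha1
    exact th_conj p a g (hCEa a (hAE ha) g.2) _ (hIa a ha ha1 (Subgroup.mem_inf.mp hw).1)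
  have hπ : ∀ r : ℕ, r.Prime → r ∣ Nat.card ↥((I ⊓ CE).subgroupOf CE) →
      r ∈ Cfsg.primesNotDvd p := by
    intro r hr hrd
    refine ⟨hr, fun hrp => ?_⟩
    have hrp' : r = p := (Nat.prime_dvd_prime_iff_eq hr hp).mp hrp
    rw [hrp', Nat.card_congr (Subgroup.subgroupOfEquivOfLe (inf_le_right : I ⊓ CE ≤ CE)).toEquiv]
      at hrd
    exact th_card p a₀ (hrd.trans (Subgroup.card_dvd_of_le (inf_le_left.trans (hIa a₀ ha₀A ha₀1))))
  have hle : (I ⊓ CE).subgroupOf CE ≤ Cfsg.piCore (Cfsg.primesNotDvd p) ↥CE :=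
    le_sSup ⟨hnormal, hπ⟩
  have h1 : (⟨c, hcE⟩ : ↥CE) ∈ (I ⊓ CE).subgroupOf CE :=
    Subgroup.mem_subgroupOf.mpr (Subgroup.mem_inf.mpr ⟨hcI, hcE⟩)
  exact ⟨⟨c, hcE⟩, hle h1, rfl⟩

end Cfsg.Agent.Helper21.TransPC
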