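-- helper21: Glauberman's ZJ-theorem for the FULL centre of the Thompson subgroup generated by
-- the elementary abelian subgroups of largest order
import Mathlib
import Cfsg.Agent.Helper23.ZJ2
import Cfsg.Agent.Helper23.ZJ3
import Cfsg.Agent.Helper23.NpcTh2
import Cfsg.Agent.Helper23.OddPGroup
import Cfsg.Agent.Helper14.Comm
import Cfsg.Agent.Helper21.NpcZJ
import Cfsg.Agent.Helper10.PStable2
import Cfsg.Agent.Helper10.QStab

set_option autoImplicit false

namespace Cfsg.Agent.Helper21.ZJFull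

open Cfsg Cfsg.Agent.Helper23
open scoped commutatorElement

universe u

variable {G : Type u} [Group G]

theorem tso_eq [Finite G] (p : ℕ) (P : Subgroup G) :
    Cfsg.thompsonSubgroupOf p P = sSup (zjFam p true P) := by
  rw [thompsonSubgroupOf_eq_ind, ind_jW]

theorem fam_le_tso [Finite G] {p : ℕ} {P A : Subgroup G} (hA : A ∈ zjFam p true P) :
    A ≤ Cfsg.thompsonSubgroupOf p P := by
  rw [tso_eq]; exact le_sSup hA

theorem tso_le [Finite G] (p : ℕ) (P : Subgroup G) : Cfsg.thompsonSubgroupOf p P ≤ P := by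
  rw [tso_eq]; exact sSup_le (fun A hA => hA.1)

theorem ct_le [Finite G] (p : ℕ) (P : Subgroup G) : Cfsg.centerThompsonOf p P ≤ P :=
  inf_le_left.trans (tso_le p P)

theorem ct_comm (p : ℕ) (P : Subgroup G) {x y : G} (hx : x ∈ Cfsg.centerThompsonOf p P)
    (hy : y ∈ Cfsg.centerThompsonOf p P) : x * y = y * x :=
  Subgroup.mem_centralizer_iff.mp hy.2 x hx.1

theorem norm_tso [Finite G] (p : ℕ) (P : Subgroup G) {n x : G}
    (hn : n ∈ Subgroup.normalizer (P : Set G)) (hx : x ∈ Cfsg.thompsonSubgroupOf p P) :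
    n * x * n⁻¹ ∈ Cfsg.thompsonSubgroupOf p P := by
  have hle : (Cfsg.thompsonSubgroupOf p P).map (MulAut.conj n).toMonoidHom ≤
      Cfsg.thompsonSubgroupOf p P := by
    rw [tso_eq, Subgroup.map_le_iff_le_comap]
    apply sSup_le
    intro A hA
    rw [← Subgroup.map_le_iff_le_comap]
    have h1 := zjFam_map (p := p) (e := true) (MulAut.conj n) hA
    rw [map_conj_eq_of_mem_normalizer hn] at h1
    exact le_sSup h1
  exact hle ⟨x, hx, rfl⟩

theorem conj_cent (J : Subgroup G) {n x : G} (hn : ∀ h ∈ J, n⁻¹ * h * n⁻¹⁻¹ ∈ J)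
    (hx : x ∈ Subgroup.centralizer (J : Set G)) :
    n * x * n⁻¹ ∈ Subgroup.centralizer (J : Set G) := by
  rw [Subgroup.mem_centralizer_iff]
  intro h hh
  have h2 := Subgroup.mem_centralizer_iff.mp hx _ (hn h hh)
  calc h * (n * x * n⁻¹) = n * ((n⁻¹ * h * n⁻¹⁻¹) * x) * n⁻¹ := by group
    _ = n * (x * (n⁻¹ * h * n⁻¹⁻¹)) * n⁻¹ := by rw [h2]
    _ = n * x * n⁻¹ * h := by group

theorem norm_ct [Finite G] (p : ℕ) (P : Subgroup G) {n x : G}
    (hn : n ∈ Subgroup.normalizer (P : Set G)) (hx : x ∈ Cfsg.centerThompsonOf p P) :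
    n * x * n⁻¹ ∈ Cfsg.centerThompsonOf p P :=
  ⟨norm_tso p P hn hx.1,
    conj_cent _ (fun h hh => norm_tso p P (inv_mem hn) hh) hx.2⟩

/-- an element of order dividing `p` centralizing an elementary abelian subgroup of largest order
lies in it -/
theorem mem_of_centralizes [Finite G] {p : ℕ} {P A : Subgroup G} (hA : A ∈ zjFam p true P)
    {e : G} (heP : e ∈ P) (hep : e ^ p = 1) (hc : ∀ a ∈ A, a * e = e * a) : e ∈ A := by
  obtain ⟨hAP, hAg, hmax⟩ := hA
  have hAc := hAg.1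
  have hzc : ∀ n ∈ Subgroup.zpowers e, ∀ a ∈ A, a * n = n * a := by
    intro n hn a ha
    obtain ⟨k, rfl⟩ := Subgroup.mem_zpowers_iff.mp hn
    exact ((show Commute a e from hc a ha).zpow_right k).eq
  have hzp : ∀ n ∈ Subgroup.zpowers e, n ^ p = 1 := by
    intro n hn
    obtain ⟨k, rfl⟩ := Subgroup.mem_zpowers_iff.mp hn
    rw [← zpow_natCast, ← zpow_mul, mul_comm, zpow_mul, zpow_natCast, hep, one_zpow]
  have hnorm : Subgroup.zpowers e ≤ Subgroup.normalizer (A : Set G) := by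
    apply Cfsg.Agent.Helper7.le_normalizer_of_conj_mem
    intro n hn a ha
    have h1 := hzc n hn a ha
    have e1 : n * a * n⁻¹ = a := by rw [← h1]; group
    rw [e1]; exact ha
  have hdec : ∀ x ∈ A ⊔ Subgroup.zpowers e, ∃ a ∈ A, ∃ n ∈ Subgroup.zpowers e, x = a * n :=
    fun x hx => Cfsg.Agent.Helper14.exists_mul_of_mem_sup_normalizer A _ hnorm hx
  have hcomm : ∀ x ∈ A ⊔ Subgroup.zpowers e, ∀ y ∈ A ⊔ Subgroup.zpowers e, x * y = y * x := by
    intro x hx y hy
    obtain ⟨a, ha, n, hn, rfl⟩ := hdec x hx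
    obtain ⟨a', ha', n', hn', rfl⟩ := hdec y hy
    have h1 : a * a' = a' * a := setLike_mul_comm (s := A) ha ha'
    have h2 : a' * n = n * a' := hzc n hn a' ha'
    have h3 : a * n' = n' * a := hzc n' hn' a ha
    have h4 : n * n' = n' * n := by
      obtain ⟨k, rfl⟩ := Subgroup.mem_zpowers_iff.mp hn
      obtain ⟨l, rfl⟩ := Subgroup.mem_zpowers_iff.mp hn'
      exact zpow_mul_comm e k l
    calc a * n * (a' * n') = a * (n * a') * n' := by group
      _ = a * (a' * n) * n' := by rw [h2]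
      _ = (a * a') * (n * n') := by group
      _ = (a' * a) * (n' * n) := by rw [h1, h4]
      _ = a' * (a * n') * n := by group
      _ = a' * (n' * a) * n := by rw [h3]
      _ = a' * n' * (a * n) := by group
  have hgood : zjGood p true (A ⊔ Subgroup.zpowers e) := by
    refine ⟨IsMulCommutative.of_setLike_mul_comm hcomm, fun _ x hx => ?_⟩
    obtain ⟨a, ha, n, hn, rfl⟩ := hdec x hx
    rw [(show Commute a n from hzc n hn a ha).mul_pow, hAg.2 rfl a ha, hzp n hn, one_mul]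
  have hcard := hmax _ (sup_le hAP (Subgroup.zpowers_le.mpr heP)) hgood
  have h5 : A = A ⊔ Subgroup.zpowers e := Subgroup.eq_of_le_of_card_ge le_sup_left hcard
  have h6 : Subgroup.zpowers e ≤ A := by
    rw [h5]; exact le_sup_right
  exact h6 (Subgroup.mem_zpowers e)

theorem fam_mono [Finite G] {p : ℕ} {e : Bool} {S T A₁ : Subgroup G} (hTS : T ≤ S)
    (hA₁ : A₁ ∈ zjFam p e S) (hA₁T : A₁ ≤ T) : zjFam p e T ⊆ zjFam p e S := by
  intro A hA
  exact ⟨hA.1.trans hTS, hA.2.1, fun B' hB' hB'g =>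
    (hA₁.2.2 B' hB' hB'g).trans (hA.2.2 A₁ hA₁T hA₁.2.1)⟩

theorem fam_eq [Finite G] {p : ℕ} {e : Bool} {S T : Subgroup G} (hTS : T ≤ S)
    (hall : ∀ A ∈ zjFam p e S, A ≤ T) : zjFam p e T = zjFam p e S := by
  obtain ⟨A₁, hA₁⟩ := zjFam_nonempty p e S
  apply Set.Subset.antisymm (fam_mono hTS hA₁ (hall A₁ hA₁))
  intro A hA
  exact ⟨hall A hA, hA.2.1, fun B' hB' hB'g => hA.2.2 B' (hB'.trans hTS) hB'g⟩

/-- in a `p`-subgroup `L` whose commutators are central in `L`: an element of order prime to `p`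
centralizing `Ω₁(L)` centralizes `L`. -/
theorem cent_of_cent_omega [Finite G] {p : ℕ} [Fact p.Prime] (hp : p ≠ 2) (L : Subgroup G)
    (hLn : L.Normal) (hLp : IsPGroup p L)
    (hcen : ∀ a ∈ L, ∀ b ∈ L, ∀ z ∈ L, Commute (b⁻¹ * a⁻¹ * b * a) z)
    (g : G) (hg : ∀ e ∈ L, e ^ p = 1 → g * e * g⁻¹ = e) (hco : (orderOf g).Coprime p) :
    ∀ l ∈ L, g * l * g⁻¹ = l := by
  have hpp : p.Prime := Fact.out
  have hind : ∀ k : ℕ, ∀ l ∈ L, l ^ (p ^ k) = 1 → g * l * g⁻¹ = l := by
    intro k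
    induction k with
    | zero =>
      intro l _ hl
      rw [pow_zero, pow_one] at hl
      rw [hl]; group
    | succ k ihk =>
      intro l hlL hl
      have hlp : g * l ^ p * g⁻¹ = l ^ p :=
        ihk (l ^ p) (L.pow_mem hlL p) (by rw [← pow_mul, ← pow_succ']; exact hl)
      obtain ⟨l', hl'⟩ : ∃ l' : G, l' = g * l * g⁻¹ := ⟨_, rfl⟩
      rw [← hl']
      have hl'L : l' ∈ L := by rw [hl']; exact hLn.conj_mem l hlL g
      have hl'p : l' ^ p = l ^ p := by rw [hl', conj_pow]; exact hlp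
      have h : l⁻¹ * l' = l' * l⁻¹ * (l⁻¹⁻¹ * l'⁻¹ * l⁻¹ * l') := by group
      have hca := hcen l' hl'L l⁻¹ (L.inv_mem hlL) l' hl'L
      have hcb := hcen l' hl'L l⁻¹ (L.inv_mem hlL) l⁻¹ (L.inv_mem hlL)
      have hcp : (l⁻¹⁻¹ * l'⁻¹ * l⁻¹ * l') ^ p = 1 := by
        have h1 := pow_mul_comm_central h hcb p
        have h2 : l⁻¹ ^ p * l' = l' * l⁻¹ ^ p := by
          rw [inv_pow, ← hl'p]
          exact (((Commute.refl l').pow_right p).inv_right).symm.eq
        rw [h2] at h1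
        exact (mul_left_cancel (h1.symm.trans (mul_one _).symm))
      have hep : (l' * l⁻¹) ^ p = 1 := by
        rw [mul_pow_prime_of_central hpp hp h hca hcb hcp, inv_pow, hl'p, mul_inv_cancel]
      have heL : l' * l⁻¹ ∈ L := L.mul_mem hl'L (L.inv_mem hlL)
      have hge : g * (l' * l⁻¹) * g⁻¹ = l' * l⁻¹ := hg _ heL hep
      have hpow : ∀ m : ℕ, g ^ m * l * (g ^ m)⁻¹ = (l' * l⁻¹) ^ m * l := by
        intro m
        induction m with
        | zero => simp
        | succ m ihm =>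
          have e1 : g ^ (m + 1) * l * (g ^ (m + 1))⁻¹ = g * (g ^ m * l * (g ^ m)⁻¹) * g⁻¹ := by
            rw [pow_succ']; group
          rw [e1, ihm]
          have e2 : g * ((l' * l⁻¹) ^ m * l) * g⁻¹ =
              (g * (l' * l⁻¹) * g⁻¹) ^ m * (g * l * g⁻¹) := by
            rw [conj_pow]; group
          rw [e2, hge, ← hl', pow_succ]
          group
      have h3 := hpow (orderOf g)
      rw [pow_orderOf_eq_one, one_mul, inv_one, mul_one] at h3
      have h4 : (l' * l⁻¹) ^ orderOf g = 1 := by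
        have := h3.symm
        exact mul_right_cancel (this.trans (one_mul l).symm)
      have h5 : orderOf (l' * l⁻¹) ∣ 1 := by
        rw [← hco.gcd_eq_one]
        exact Nat.dvd_gcd (orderOf_dvd_of_pow_eq_one h4) (orderOf_dvd_of_pow_eq_one hep)
      have h6 : l' * l⁻¹ = 1 := orderOf_eq_one_iff.mp (Nat.dvd_one.mp h5)
      exact mul_inv_eq_one.mp h6
  intro l hl
  obtain ⟨k, hk⟩ := hLp ⟨l, hl⟩
  have hk' : l ^ (p ^ k) = 1 := by
    have := congrArg Subtype.val hk
    simpa using this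
  exact hind k l hl hk'


/-- Main induction: for the FULL centre `Z(J_e(S))`, its intersection with every normal
`p`-subgroup is normal (`p` odd, abstract `p`-stability). -/
theorem ct_inf_normal [Finite G] {p : ℕ} [Fact p.Prime] (hp : p ≠ 2) (S : Sylow p G)
    (hst : ZJStable p (S : Subgroup G)) :
    ∀ n : ℕ, ∀ B : Subgroup G, B.Normal → IsPGroup p B → Nat.card B = n →
      (Cfsg.centerThompsonOf p (S : Subgroup G) ⊓ B).Normal := by
  have hpp : p.Prime := Fact.out
  intro n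
  induction n using Nat.strong_induction_on with
  | _ n ih =>
  intro B hBn hBp hcard
  have hBP : B ≤ (S : Subgroup G) := hBp.le_sylow_of_normal S
  by_cases hB1 : B = ⊥
  · rw [hB1, inf_bot_eq]; infer_instance
  have hder : ⁅B, B⁆ < B := by
    refine lt_of_le_of_ne (Subgroup.commutator_le_right B B) ?_
    intro h
    exact hB1 (eq_bot_of_le_commutator_pgroup hBp hBp Subgroup.le_normalizer le_rfl
      (le_of_eq h.symm))
  have hBBn : (⁅B, B⁆).Normal := Subgroup.commutator_normal B B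
  have hDn' : (Cfsg.centerThompsonOf p (S : Subgroup G) ⊓ ⁅B, B⁆).Normal :=
    ih (Nat.card ↥⁅B, B⁆)
      (by rw [← hcard]
          exact lt_of_not_ge (fun h => hder.ne (Subgroup.eq_of_le_of_card_ge hder.le h)))
      ⁅B, B⁆ hBBn (hBp.to_le hder.le) rfl
  obtain ⟨Z, hZ⟩ : ∃ Z : Subgroup G, Z = Cfsg.centerThompsonOf p (S : Subgroup G) := ⟨_, rfl⟩
  rw [← hZ] at hDn' ⊢
  obtain ⟨D₀, hD₀⟩ : ∃ D₀ : Subgroup G, D₀ = Z ⊓ ⁅B, B⁆ := ⟨_, rfl⟩
  rw [← hD₀] at hDn'
  obtain ⟨L, hL⟩ : ∃ L : Subgroup G,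
      L = Subgroup.normalClosure ((Z ⊓ B : Subgroup G) : Set G) := ⟨_, rfl⟩
  have hLn : L.Normal := by rw [hL]; exact Subgroup.normalClosure_normal
  have hLB : L ≤ B := by rw [hL]; exact Subgroup.normalClosure_le_normal inf_le_right
  have hZBL : Z ⊓ B ≤ L := by rw [hL]; exact Subgroup.subset_normalClosure
  have hLp : IsPGroup p L := hBp.to_le hLB
  have hSN : ∀ x ∈ (S : Subgroup G), ∀ z ∈ Z, x * z * x⁻¹ ∈ Z := by
    intro x hx z hz
    rw [hZ] at hz ⊢
    exact norm_ct p _ (Subgroup.le_normalizer hx) hz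
  have hZc : ∀ x ∈ Z, ∀ y ∈ Z, x * y = y * x := by
    intro x hx y hy
    rw [hZ] at hx hy
    exact ct_comm p _ hx hy
  -- (a) `[L, B] ≤ D₀`
  have hMn : (stabSub B D₀).Normal := by
    refine ⟨fun d hd x => ?_⟩
    exact conj_mem_stabSub (fun w hw => hDn'.conj_mem w hw x)
      (fun w hw => by simpa using hDn'.conj_mem w hw x⁻¹)
      (fun v hv => by simpa using hBn.conj_mem v hv x⁻¹) hd
  have hZBM : Z ⊓ B ≤ stabSub B D₀ := by
    intro z hz
    refine ⟨fun w hw => hDn'.conj_mem w hw z,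
      fun w hw => by simpa using hDn'.conj_mem w hw z⁻¹, fun v hv => ?_⟩
    rw [hD₀]
    refine ⟨?_, ?_⟩
    · have h : z * v * z⁻¹ * v⁻¹ = z * (v * z⁻¹ * v⁻¹) := by group
      rw [h]
      exact Z.mul_mem hz.1 (hSN v (hBP hv) _ (Z.inv_mem hz.1))
    · exact Subgroup.commutator_mem_commutator hz.2 hv
  have hLM : L ≤ stabSub B D₀ := by rw [hL]; exact Subgroup.normalClosure_le_normal hZBM
  -- (b) `L` centralizes `D₀`
  have hLC : L ≤ Subgroup.centralizer (D₀ : Set G) := by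
    rw [hL]
    apply Subgroup.normalClosure_le_normal
    intro z hz
    rw [SetLike.mem_coe, Subgroup.mem_centralizer_iff]
    intro d hd
    rw [hD₀] at hd
    exact hZc d hd.1 z hz.1
  have hLL : ∀ x ∈ L, ∀ y ∈ L, x * y * x⁻¹ * y⁻¹ ∈ D₀ :=
    fun x hx y hy => (hLM hx).2.2 y (hLB hy)
  have hD' : ∀ a ∈ L, ∀ b ∈ L, b⁻¹ * a⁻¹ * b * a ∈ D₀ := by
    intro a ha b hb
    have := hLL b⁻¹ (L.inv_mem hb) a⁻¹ (L.inv_mem ha)
    simp only [inv_inv] at this
    exact this
  have hcen : ∀ a ∈ L, ∀ b ∈ L, ∀ z ∈ L, Commute (b⁻¹ * a⁻¹ * b * a) z :=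
    fun a ha b hb z hz => Subgroup.mem_centralizer_iff.mp (hLC hz) _ (hD' a ha b hb)
  have key : ∀ a ∈ L, ∀ b ∈ L, b ^ p = 1 → (b⁻¹ * a⁻¹ * b * a) ^ p = 1 := by
    intro a ha b hb hbp
    have h : b * a = a * b * (b⁻¹ * a⁻¹ * b * a) := by group
    have h1 := pow_mul_comm_central h (hcen a ha b hb b hb) p
    rw [hbp, one_mul, mul_one] at h1
    exact mul_left_cancel (h1.symm.trans (mul_one a).symm)
  -- `E = Ω₁(L)`
  obtain ⟨E, hE⟩ : ∃ E : Subgroup G, ∀ x, x ∈ E ↔ x ∈ L ∧ x ^ p = 1 := by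
    refine ⟨{ carrier := {x | x ∈ L ∧ x ^ p = 1}
              one_mem' := ⟨L.one_mem, one_pow p⟩
              mul_mem' := ?_
              inv_mem' := ?_ }, fun x => Iff.rfl⟩
    · rintro a b ⟨ha, hap⟩ ⟨hb, hbp⟩
      refine ⟨L.mul_mem ha hb, ?_⟩
      have h : b * a = a * b * (b⁻¹ * a⁻¹ * b * a) := by group
      rw [mul_pow_prime_of_central hpp hp h (hcen a ha b hb a ha) (hcen a ha b hb b hb)
        (key a ha b hb hbp), hap, hbp, one_mul]
    · rintro a ⟨ha, hap⟩
      exact ⟨L.inv_mem ha, by rw [inv_pow, hap, inv_one]⟩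
  have hEL : E ≤ L := fun x hx => ((hE x).mp hx).1
  have hEn : E.Normal := by
    refine ⟨fun x hx g => (hE _).mpr ⟨hLn.conj_mem x ((hE x).mp hx).1 g, ?_⟩⟩
    rw [conj_pow, ((hE x).mp hx).2, mul_one, mul_inv_cancel]
  have hEp : IsPGroup p E := hLp.to_le hEL
  have hES : E ≤ (S : Subgroup G) := (hEL.trans hLB).trans hBP
  have hEE : ⁅E, E⁆ ≤ zjSub p true (S : Subgroup G) := by
    rw [Subgroup.commutator_le]
    intro a ha b hb
    obtain ⟨haL, hap⟩ := (hE a).mp ha
    obtain ⟨hbL, hbp⟩ := (hE b).mp hb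
    rw [← omegaOne_centerThompsonOf_eq_zjSub (S : Subgroup G) S.isPGroup']
    apply Subgroup.subset_closure
    refine ⟨?_, ?_⟩
    · rw [← hZ, commutatorElement_def]
      have h1 := hLL a haL b hbL
      rw [hD₀] at h1
      exact h1.1
    · have h1 := key b⁻¹ (L.inv_mem hbL) a⁻¹ (L.inv_mem haL) (by rw [inv_pow, hap, inv_one])
      simp only [inv_inv] at h1
      rw [commutatorElement_def]
      exact h1
  -- centralizers
  obtain ⟨C, hC⟩ : ∃ C : Subgroup G, C = Subgroup.centralizer (L : Set G) := ⟨_, rfl⟩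
  obtain ⟨CE, hCE⟩ : ∃ CE : Subgroup G, CE = Subgroup.centralizer (E : Set G) := ⟨_, rfl⟩
  have hCn : C.Normal := by rw [hC]; infer_instance
  have hCCE : C ≤ CE := by rw [hC, hCE]; exact Subgroup.centralizer_le hEL
  have hPL : ∀ g ∈ CE, (orderOf g).Coprime p → g ∈ C := by
    intro g hg hco
    rw [hCE] at hg
    have hgE : ∀ e ∈ L, e ^ p = 1 → g * e * g⁻¹ = e := by
      intro e heL hep
      have h1 := Subgroup.mem_centralizer_iff.mp hg e ((hE e).mpr ⟨heL, hep⟩)
      rw [← h1]; group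
    have h2 := cent_of_cent_omega hp L hLn hLp hcen g hgE hco
    rw [hC, Subgroup.mem_centralizer_iff]
    intro l hl
    have h3 := h2 l hl
    calc l * g = (g * l * g⁻¹) * g := by rw [h3]
      _ = g * l := by group
  obtain ⟨j, hj⟩ : ∃ j : ℕ, C.relIndex CE = p ^ j := by
    apply relIndex_eq_pow_of_forall_pow_mem C CE
    intro x hx
    obtain ⟨a, m, hm, hxm⟩ := Nat.exists_eq_pow_mul_and_not_dvd (orderOf_pos x).ne' p hpp.ne_one
    refine ⟨a, hPL _ (CE.pow_mem hx _) ?_⟩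
    have h1 : (x ^ p ^ a) ^ m = 1 := by
      rw [← pow_mul, ← hxm, pow_orderOf_eq_one]
    exact Nat.Coprime.coprime_dvd_left (orderOf_dvd_of_pow_eq_one h1)
      ((Nat.Prime.coprime_iff_not_dvd hpp).mpr hm).symm
  obtain ⟨K, hKn, hCEK, ⟨k, hk⟩, hK⟩ := hst E hEn hEp
  rw [← hCE] at hCEK hk
  have hCK : C ≤ K := hCCE.trans hCEK
  have hrel : C.relIndex K = p ^ (j + k) := by
    rw [← Subgroup.relIndex_mul_relIndex C CE K hCCE hCEK, hj, hk, pow_add]
  obtain ⟨T, hT⟩ : ∃ T : Subgroup G, T = (S : Subgroup G) ⊓ K := ⟨_, rfl⟩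
  have hTS : T ≤ (S : Subgroup G) := by rw [hT]; exact inf_le_left
  have hfr : Subgroup.normalizer (T : Set G) ⊔ K = ⊤ := by rw [hT]; exact frattini_inf S K
  have hKTC : K ≤ T ⊔ C := by
    rw [← Subgroup.relIndex_eq_one]
    have h1 : (T ⊔ C).relIndex K ∣ T.relIndex K :=
      Subgroup.relIndex_dvd_of_le_left K le_sup_left
    have h2 : (T ⊔ C).relIndex K ∣ C.relIndex K :=
      Subgroup.relIndex_dvd_of_le_left K le_sup_right
    have h3 : ¬ p ∣ T.relIndex K := by
      rw [hT, Subgroup.inf_relIndex_right]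
      intro h
      exact S.not_dvd_index (h.trans (relIndex_dvd_index_of_normal_right (S : Subgroup G) K))
    rw [hrel] at h2
    obtain ⟨i, -, hi2⟩ := (Nat.dvd_prime_pow hpp).1 h2
    rw [hi2] at h1 ⊢
    cases i with
    | zero => simp
    | succ i => exact absurd (dvd_trans (dvd_pow_self p (Nat.succ_ne_zero i)) h1) h3
  have htop : Subgroup.normalizer (T : Set G) ⊔ C = ⊤ := by
    rw [eq_top_iff, ← hfr]
    exact sup_le le_sup_left
      (hKTC.trans (sup_le (le_sup_of_le_left Subgroup.le_normalizer) le_sup_right))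
  have hCx : ∀ c ∈ C, ∀ x ∈ L, c * x * c⁻¹ = x := by
    intro c hc x hx
    rw [hC] at hc
    have h1 := Subgroup.mem_centralizer_iff.mp hc x hx
    rw [← h1]; group
  by_cases hEZ : E ≤ zjSub p true (S : Subgroup G)
  · -- every member of the family contains `E`, hence lies in `K`
    have hall : ∀ A ∈ zjFam p true (S : Subgroup G), A ≤ T := by
      intro A hA a ha
      rw [hT]
      refine ⟨hA.1 ha, hCEK ?_⟩
      rw [hCE, Subgroup.mem_centralizer_iff]
      intro e he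
      have heA : e ∈ A := zjSub_le_of_mem hA (hEZ he)
      have hAc := hA.2.1.1
      exact setLike_mul_comm (s := A) heA ha
    have hfam := fam_eq hTS hall
    have hJ : Cfsg.thompsonSubgroupOf p T = Cfsg.thompsonSubgroupOf p (S : Subgroup G) := by
      rw [tso_eq, tso_eq, hfam]
    have hX : Cfsg.centerThompsonOf p T = Z := by
      rw [hZ]; unfold Cfsg.centerThompsonOf; rw [hJ]
    refine ⟨fun x hx g => ?_⟩
    have hg : g ∈ Subgroup.normalizer (T : Set G) ⊔ C := by rw [htop]; trivial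
    obtain ⟨n, hn, c, hc, rfl⟩ := Subgroup.mem_sup_of_normal_right.1 hg
    have hcx : c * x * c⁻¹ = x := hCx c hc x (hZBL hx)
    have h : n * c * x * (n * c)⁻¹ = n * (c * x * c⁻¹) * n⁻¹ := by group
    rw [h, hcx]
    refine ⟨?_, hBn.conj_mem x hx.2 n⟩
    rw [← hX]
    exact norm_ct p T hn (by rw [hX]; exact hx.1)
  · exfalso
    obtain ⟨A, hA, hEA, hnorm⟩ := zj_replacement true S.isPGroup' hp E hES
      (fun x _ l hl => hEn.conj_mem l hl x) hEE hEZ
    have hAc := hA.2.1.1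
    have hquad : ∀ a ∈ A, ⁅⁅E, Subgroup.zpowers a⁆, Subgroup.zpowers a⁆ = ⊥ := by
      intro a ha
      have h1 : ⁅E, Subgroup.zpowers a⁆ ≤ A := by
        rw [Subgroup.commutator_le]
        intro l hl y hy
        have hyA : y ∈ A := (Subgroup.zpowers_le.2 ha) hy
        have h : ⁅l, y⁆ = (l * y * l⁻¹) * y⁻¹ := by rw [commutatorElement_def]
        rw [h]
        exact A.mul_mem (hnorm l hl y hyA) (A.inv_mem hyA)
      rw [eq_bot_iff, Subgroup.commutator_le]
      intro x hx y hy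
      rw [Subgroup.mem_bot, commutatorElement_eq_one_iff_mul_comm]
      exact setLike_mul_comm (s := A) (h1 hx) ((Subgroup.zpowers_le.2 ha) hy)
    have hAK : A ≤ K := fun a ha => hK a (hA.1 ha) (hquad a ha)
    have hAT : A ≤ T := by rw [hT]; exact le_inf hA.1 hAK
    have hsub := fam_mono hTS hA hAT
    have hATfam : A ∈ zjFam p true T :=
      ⟨hAT, hA.2.1, fun B' hB' hB'g => hA.2.2 B' (hB'.trans hTS) hB'g⟩
    have hJle : Cfsg.thompsonSubgroupOf p T ≤ Cfsg.thompsonSubgroupOf p (S : Subgroup G) := by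
      rw [tso_eq, tso_eq]; exact sSup_le_sSup hsub
    obtain ⟨N', hN'⟩ : ∃ N' : Subgroup G,
        N' = L ⊓ Subgroup.centralizer (Cfsg.thompsonSubgroupOf p T : Set G) := ⟨_, rfl⟩
    have hN'n : N'.Normal := by
      refine ⟨fun x hx g => ?_⟩
      have hg : g ∈ Subgroup.normalizer (T : Set G) ⊔ C := by rw [htop]; trivial
      obtain ⟨n, hn, c, hc, rfl⟩ := Subgroup.mem_sup_of_normal_right.1 hg
      rw [hN'] at hx ⊢
      have hcx : c * x * c⁻¹ = x := hCx c hc x hx.1
      have h : n * c * x * (n * c)⁻¹ = n * (c * x * c⁻¹) * n⁻¹ := by group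
      rw [h, hcx]
      exact ⟨hLn.conj_mem x hx.1 n,
        conj_cent _ (fun h' hh' => norm_tso p T (inv_mem hn) hh') hx.2⟩
    have hZBN : Z ⊓ B ≤ N' := by
      intro z hz
      rw [hN']
      refine ⟨hZBL hz, ?_⟩
      have hz1 := hz.1
      rw [hZ] at hz1
      exact Subgroup.centralizer_le hJle hz1.2
    have hLN : L ≤ N' := by rw [hL]; exact Subgroup.normalClosure_le_normal hZBN
    apply hEA
    intro e he
    have hecent := hLN (hEL he)
    rw [hN'] at hecent
    exact mem_of_centralizes hA (hES he) ((hE e).mp he).2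
      (fun a ha => Subgroup.mem_centralizer_iff.mp hecent.2 a (fam_le_tso hATfam ha))

/-- `Z(J_e(S)) ≤ O_p(G)`. -/
theorem ct_le_pCore [Finite G] {p : ℕ} [Fact p.Prime]
    (hc : Subgroup.centralizer (Cfsg.pCore p G : Set G) ≤ Cfsg.pCore p G)
    (S : Sylow p G) (hst : ZJStable p (S : Subgroup G)) :
    Cfsg.centerThompsonOf p (S : Subgroup G) ≤ Cfsg.pCore p G := by
  intro a ha
  have hQn : (Cfsg.pCore p G).Normal := Cfsg.Agent.Helper14.pCore_normal p G
  have hQp : IsPGroup p (Cfsg.pCore p G) := Cfsg.Agent.Helper14.pCore_isPGroup p G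
  have hQS : Cfsg.pCore p G ≤ (S : Subgroup G) := Cfsg.Agent.Helper14.pCore_le_sylow S
  have hquad : ⁅⁅Cfsg.pCore p G, Subgroup.zpowers a⁆, Subgroup.zpowers a⁆ = ⊥ := by
    have h1 : ⁅Cfsg.pCore p G, Subgroup.zpowers a⁆ ≤ Cfsg.centerThompsonOf p (S : Subgroup G) := by
      rw [Subgroup.commutator_le]
      intro q hq y hy
      have hyZ : y ∈ Cfsg.centerThompsonOf p (S : Subgroup G) := (Subgroup.zpowers_le.2 ha) hy
      have h : ⁅q, y⁆ = (q * y * q⁻¹) * y⁻¹ := by rw [commutatorElement_def]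
      rw [h]
      exact Subgroup.mul_mem _ (norm_ct p _ (Subgroup.le_normalizer (hQS hq)) hyZ)
        (Subgroup.inv_mem _ hyZ)
    rw [eq_bot_iff, Subgroup.commutator_le]
    intro x hx y hy
    rw [Subgroup.mem_bot, commutatorElement_eq_one_iff_mul_comm]
    exact ct_comm p _ (h1 hx) ((Subgroup.zpowers_le.2 ha) hy)
  obtain ⟨K, hKn, hCK, ⟨k, hk⟩, hK⟩ := hst (Cfsg.pCore p G) hQn hQp
  have haK : a ∈ K := hK a (ct_le p _ ha) hquad
  have hKp : IsPGroup p K := by
    obtain ⟨j, hj⟩ := (hQp.to_le hc).exists_card_eq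
    have h1 : Nat.card ↥(Subgroup.centralizer (Cfsg.pCore p G : Set G)) *
        (Subgroup.centralizer (Cfsg.pCore p G : Set G)).relIndex K = Nat.card K := by
      have h2 := Subgroup.card_mul_index
        ((Subgroup.centralizer (Cfsg.pCore p G : Set G)).subgroupOf K)
      have h3 : Nat.card ↥((Subgroup.centralizer (Cfsg.pCore p G : Set G)).subgroupOf K) =
          Nat.card ↥(Subgroup.centralizer (Cfsg.pCore p G : Set G)) := by
        rw [← Subgroup.card_map_of_injective K.subtype_injective,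
          Subgroup.map_subgroupOf_eq_of_le hCK]
      rw [h3] at h2
      exact h2
    apply IsPGroup.of_card (n := j + k)
    rw [← h1, hj, hk, pow_add]
  exact Cfsg.Agent.Helper14.le_pCore hKn hKp haK

/-- **Glauberman's ZJ-theorem for the full centre of `J_e(S)`** (`J_e` generated by the elementary
abelian subgroups of largest order), `p` odd, abstract `p`-stability, `C_G(O_p(G)) ≤ O_p(G)`. -/
theorem ct_normal [Finite G] {p : ℕ} [Fact p.Prime] (hp : p ≠ 2)
    (hc : Subgroup.centralizer (Cfsg.pCore p G : Set G) ≤ Cfsg.pCore p G)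
    (S : Sylow p G) (hst : ZJStable p (S : Subgroup G)) :
    (Cfsg.centerThompsonOf p (S : Subgroup G)).Normal := by
  have hXQ := ct_le_pCore hc S hst
  have h := ct_inf_normal hp S hst _ (Cfsg.pCore p G) (Cfsg.Agent.Helper14.pCore_normal p G)
    (Cfsg.Agent.Helper14.pCore_isPGroup p G) rfl
  rwa [inf_of_le_left hXQ] at h


/-- The functor `Q ↦ Z(J_e(Q))`. -/
def czW (p : ℕ) : ∀ (Q : Type u) [Group Q], Subgroup Q :=
  fun Q _ => jW p true Q ⊓ Subgroup.centralizer (jW p true Q : Set Q)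

theorem czW_char (p : ℕ) [Fact p.Prime] : Cfsg.IsCharPFunctor.{u} p (czW p) := by
  constructor
  · intro Q _ _ hQ hnt
    have h1 := (Cfsg.Agent.Helper21.zjW_char p true).1 Q hQ hnt
    intro hbot
    apply h1
    rw [eq_bot_iff, ← hbot]
    intro x hx
    have hx' : x ∈ sInf (zjFamT p true Q) := hx
    rw [Subgroup.mem_sInf] at hx'
    obtain ⟨A₀, hA₀⟩ := zjFamT_nonempty p true Q
    have hle : jW p true Q ≤ Subgroup.centralizer ({x} : Set Q) := by
      apply sSup_le
      intro A hA a ha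
      rw [Subgroup.mem_centralizer_iff]
      intro z hz
      rw [Set.mem_singleton_iff] at hz
      rw [hz]
      have hAc := hA.1.1
      exact setLike_mul_comm (s := A) (hx' A hA) ha
    have hcz : x ∈ Subgroup.centralizer (jW p true Q : Set Q) := by
      rw [Subgroup.mem_centralizer_iff]
      intro h hh
      exact (Subgroup.mem_centralizer_iff.mp (hle hh) x rfl).symm
    exact ⟨(show A₀ ≤ jW p true Q from le_sSup hA₀) (hx' A₀ hA₀), hcz⟩
  · intro Q R _ _ _ hQ φ
    unfold czW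
    rw [map_inf_centralizer φ.toMonoidHom φ.injective, (jW_char p true).2 Q R hQ φ]

theorem ind_czW [Finite G] (p : ℕ) (P : Subgroup G) :
    Cfsg.inducedFunctor (czW p) P = Cfsg.centerThompsonOf p P := by
  unfold Cfsg.centerThompsonOf
  rw [thompsonSubgroupOf_eq_ind p P]
  unfold Cfsg.inducedFunctor czW
  rw [map_inf_centralizer _ P.subtype_injective]

/-- **Glauberman–Thompson for the full centre `Z(J_e(S))`** (`p` odd): if its normalizer has a
normal `p`-complement then so does `G`. -/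
theorem npc_of_ct [Finite G] {p : ℕ} [Fact p.Prime] (hp : p ≠ 2) (S : Sylow p G)
    (hN : Cfsg.HasNormalPComplement p
      ↥(Subgroup.normalizer (Cfsg.centerThompsonOf p (S : Subgroup G) : Set G))) :
    Cfsg.HasNormalPComplement p G := by
  refine Cfsg.Agent.Helper10.npc_reduction (czW p) (czW_char p) (fun _ _ => True)
    (fun _ _ _ _ _ => trivial) (fun _ _ _ _ _ _ => trivial) ?_ (Nat.card G) G rfl trivial S ?_
  · intro H _ _ _ T hms hT
    rw [ind_czW] at hT
    have hnps := Cfsg.Agent.Helper10.nps_of_dag hp hms.dag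
    have hst := Cfsg.Agent.Helper23.zjStable_of_normalizerPStable hnps (T : Subgroup H)
    have hn : (Cfsg.centerThompsonOf p (T : Subgroup H)).Normal := ct_normal hp hms.cons T hst
    have h1 : Subgroup.normalizer (Cfsg.centerThompsonOf p (T : Subgroup H) : Set H) = ⊤ :=
      @Subgroup.normalizer_eq_top _ _ _ hn
    rw [h1] at hT
    exact hms.nnpc (Cfsg.Agent.Helper10.npc_of_equiv Subgroup.topEquiv hT)
  · rw [ind_czW]; exact hN


/-- abstract quadratic stability (helper10's `QStab`) gives helper23's `ZJStable`. -/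
theorem zjStable_of_qstab {Y : Type u} [Group Y] [Finite Y] {p : ℕ} [Fact p.Prime]
    (h : Cfsg.Agent.Helper10.QStab p Y) (S : Subgroup Y) : ZJStable p S := by
  intro V hVn hVp
  obtain ⟨C, hC⟩ : ∃ C : Subgroup Y, C = Subgroup.centralizer (V : Set Y) := ⟨_, rfl⟩
  rw [← hC]
  haveI hCn : C.Normal := by rw [hC]; infer_instance
  obtain ⟨K, hK⟩ : ∃ K : Subgroup Y, K = (Cfsg.pCore p (Y ⧸ C)).comap (QuotientGroup.mk' C) :=
    ⟨_, rfl⟩
  have hQn : (Cfsg.pCore p (Y ⧸ C)).Normal := Cfsg.Agent.Helper14.pCore_normal p _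
  have hQp : IsPGroup p (Cfsg.pCore p (Y ⧸ C)) := Cfsg.Agent.Helper14.pCore_isPGroup p _
  have hKn : K.Normal := by rw [hK]; exact hQn.comap _
  have hCK : C ≤ K := by
    intro c hc
    rw [hK, Subgroup.mem_comap]
    have : QuotientGroup.mk' C c = 1 := (QuotientGroup.eq_one_iff c).mpr hc
    rw [this]; exact Subgroup.one_mem _
  refine ⟨K, hKn, hCK, ?_, ?_⟩
  · apply relIndex_eq_pow_of_forall_pow_mem C K
    intro x hx
    rw [hK, Subgroup.mem_comap] at hx
    obtain ⟨k, hk⟩ := hQp ⟨_, hx⟩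
    refine ⟨k, ?_⟩
    have h1 := congrArg Subtype.val hk
    simp only [Subgroup.coe_pow, Subgroup.coe_one] at h1
    rw [← map_pow] at h1
    exact (QuotientGroup.eq_one_iff _).mp h1
  · intro a _ hquad
    obtain ⟨M, hMn, haM, hM⟩ := h V hVn hVp a hquad
    rw [← hC] at hM
    have hMn' : (M.map (QuotientGroup.mk' C)).Normal :=
      hMn.map _ (QuotientGroup.mk'_surjective C)
    have hMp : IsPGroup p ↥(M.map (QuotientGroup.mk' C)) := by
      rintro ⟨y, hy⟩
      obtain ⟨x, hx, rfl⟩ := hy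
      obtain ⟨k, hk⟩ := hM x hx
      refine ⟨k, Subtype.ext ?_⟩
      simp only [Subgroup.coe_pow, Subgroup.coe_one]
      rw [← map_pow]
      exact (QuotientGroup.eq_one_iff _).mpr hk
    rw [hK, Subgroup.mem_comap]
    exact Cfsg.Agent.Helper14.le_pCore hMn' hMp ⟨a, haM, rfl⟩

end Cfsg.Agent.Helper21.ZJFull
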